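import Mathlib.GroupTheory.Sylow
import Mathlib.GroupTheory.Solvable
import Mathlib.GroupTheory.Nilpotent
import Mathlib.GroupTheory.Commutator.Basic
import Mathlib.GroupTheory.GroupAction.Quotient

/-!
# Generalities for classes of pairwise odd generating subgroups of prime order

* `mem_of_sq_mem`: elements of odd order lie in every subgroup containing their square.
* `commute_all_of_normal_pgroups`: a solvable group generated by the conjugates of `a`, all of whose
  normal subgroups of prime power order commute with `a`, is commutative.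
-/

set_option autoImplicit false
set_option linter.style.haveILetI false

namespace CfsgLib.PairClosed

open scoped Pointwise

variable {G : Type*} [Group G]

/-- The conjugate `g A g⁻¹`. -/
abbrev cj (g : G) (A : Subgroup G) : Subgroup G := A.map (MulAut.conj g).toMonoidHom

theorem mem_cj {g x : G} {A : Subgroup G} : x ∈ cj g A ↔ g⁻¹ * x * g ∈ A := by
  constructor
  · rintro ⟨y, hy, rfl⟩
    simpa [mul_assoc] using hy
  · intro h
    exact ⟨_, h, by simp [mul_assoc]⟩

theorem conj_mem_cj {g x : G} {A : Subgroup G} (h : x ∈ A) : g * x * g⁻¹ ∈ cj g A :=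
  ⟨x, h, rfl⟩

theorem cj_mul (g h : G) (A : Subgroup G) : cj (g * h) A = cj g (cj h A) := by
  ext x
  simp [mul_assoc]

theorem cj_one (A : Subgroup G) : cj (1 : G) A = A := by
  ext x
  simp

theorem card_cj (g : G) (A : Subgroup G) : Nat.card (cj g A) = Nat.card A :=
  Subgroup.card_map_of_injective (MulAut.conj g).injective

theorem cj_le {g : G} {A H : Subgroup G} (hg : g ∈ H) (hA : A ≤ H) : cj g A ≤ H := by
  intro x hx
  rw [mem_cj] at hx
  have := H.mul_mem (H.mul_mem hg (hA hx)) (H.inv_mem hg)
  simpa [mul_assoc] using this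

/-- An element of odd order lies in every subgroup containing its square. -/
theorem mem_of_sq_mem {x : G} {H : Subgroup G} (ho : Odd (orderOf x)) (h : x * x ∈ H) : x ∈ H := by
  obtain ⟨k, hk⟩ := ho
  have h1 : (x * x) ^ (k + 1) = x := by
    rw [← pow_two, ← pow_mul, show 2 * (k + 1) = (2 * k + 1) + 1 by ring, pow_succ, ← hk,
      pow_orderOf_eq_one, one_mul]
  rw [← h1]
  exact pow_mem h _

theorem eq_one_of_sq_eq_one {x : G} (ho : Odd (orderOf x)) (h : x * x = 1) : x = 1 :=
  Subgroup.mem_bot.mp (mem_of_sq_mem ho (Subgroup.mem_bot.mpr h))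

/-- Two elements of a group generate the same cyclic subgroup of prime order. -/
theorem zpowers_eq_of_card_prime {p : ℕ} (hp : p.Prime) {A : Subgroup G} (hA : Nat.card A = p)
    {a : G} (ha : a ∈ A) (ha1 : a ≠ 1) : Subgroup.zpowers a = A := by
  haveI := Fact.mk hp
  haveI : Finite A := Nat.finite_of_card_ne_zero (hA ▸ hp.ne_zero)
  refine Subgroup.eq_of_le_of_card_ge ((Subgroup.zpowers_le).mpr ha) ?_
  rw [Nat.card_zpowers, hA]
  have h := Subgroup.orderOf_dvd_natCard A ha
  rw [hA] at h
  rcases hp.eq_one_or_self_of_dvd _ h with h1 | h1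
  · exact absurd (orderOf_eq_one_iff.mp h1) ha1
  · exact h1.ge

variable [Finite G]

/-- A nilpotent normal subgroup whose Sylow subgroups commute with `a` commutes with `a`. -/
theorem commute_of_nilpotent {K : Subgroup G} [K.Normal] [Group.IsNilpotent K] {a : G}
    (h : ∀ r : ℕ, r.Prime → ∀ R : Subgroup G, R.Normal → IsPGroup r R → ∀ x ∈ R, Commute a x) :
    ∀ x ∈ K, Commute a x := by
  have hle : K ≤ Subgroup.centralizer {a} := by
    intro x hx
    have hdvd : Nat.card K ∣ Nat.card ((Subgroup.centralizer {a}).subgroupOf K) := by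
      refine (Nat.dvd_iff_prime_pow_dvd_dvd _ _).mpr fun r k hr hk => ?_
      haveI := Fact.mk hr
      let P : Sylow r K := default
      have hPn : (P : Subgroup K).Normal := by
        have h4 := (Group.isNilpotent_of_finite_tfae (G := K)).out 0 3
        exact h4.mp inferInstance r inferInstance P
      haveI : (P : Subgroup K).Characteristic := Sylow.characteristic_of_normal P hPn
      haveI hPG : ((P : Subgroup K).map K.subtype).Normal :=
        ConjAct.normal_of_characteristic_of_normal
      have hle : (P : Subgroup K) ≤ (Subgroup.centralizer {a}).subgroupOf K := by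
        intro y hy
        rw [Subgroup.mem_subgroupOf, Subgroup.mem_centralizer_singleton_iff]
        exact (h r hr _ hPG (P.isPGroup'.map _) y ⟨y, hy, rfl⟩).symm.eq
      refine Nat.dvd_trans ?_ (Subgroup.card_dvd_of_le hle)
      exact P.pow_dvd_card_of_pow_dvd_card hk
    have htop : (Subgroup.centralizer {a}).subgroupOf K = ⊤ :=
      Subgroup.eq_top_of_le_card _ (Nat.le_of_dvd Nat.card_pos hdvd)
    exact Subgroup.subgroupOf_eq_top.mp htop hx
  intro x hx
  exact (Subgroup.mem_centralizer_singleton_iff.mp (hle hx)).symm

/-- A solvable group generated by the conjugates of an element commuting with all normal subgroups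
of prime power order is commutative. -/
theorem commute_all_of_normal_pgroups [Group.IsSolvable G] {a : G}
    (hgen : Subgroup.normalClosure {a} = ⊤)
    (h : ∀ r : ℕ, r.Prime → ∀ R : Subgroup G, R.Normal → IsPGroup r R → ∀ x ∈ R, Commute a x)
    (x y : G) : x * y = y * x := by
  obtain ⟨n, hn⟩ := ‹Group.IsSolvable G›.solvable
  suffices hk : ∀ k, derivedSeries G (n - k) ≤ Subgroup.center G by
    have h0 := hk n
    rw [Nat.sub_self, derivedSeries_zero] at h0
    exact (Subgroup.mem_center_iff.mp (h0 (Subgroup.mem_top y)) x)
  intro k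
  induction k with
  | zero => rw [Nat.sub_zero, hn]; exact bot_le
  | succ k ih =>
    by_cases hnk : n ≤ k
    · rw [show n - (k + 1) = n - k by omega]; exact ih
    obtain ⟨m, hm⟩ : ∃ m, n - k = m + 1 := ⟨n - k - 1, by omega⟩
    rw [hm] at ih
    rw [show n - (k + 1) = m by omega]
    set K := derivedSeries G m with hK
    haveI : K.Normal := derivedSeries_normal G m
    haveI : Group.IsNilpotent K := by
      have hc : commutator K ≤ Subgroup.center K := by
        intro z hz
        rw [Subgroup.mem_center_iff]
        intro w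
        have hz' : (z : G) ∈ derivedSeries G (m + 1) := by
          rw [derivedSeries_succ, ← hK, ← Subgroup.map_subtype_commutator]
          exact ⟨z, hz, rfl⟩
        exact Subtype.ext (Subgroup.mem_center_iff.mp (ih hz') w)
      refine Subgroup.isNilpotent_of_ker_le_center (Abelianization.of (G := K)) ?_
      rw [Abelianization.ker_of]; exact hc
    have hle : K ≤ Subgroup.centralizer (Subgroup.normalClosure {a} : Set G) := by
      rw [Subgroup.le_centralizer_iff, Subgroup.normalClosure, Subgroup.closure_le]
      intro c hc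
      obtain ⟨b, hb, hbc⟩ := Group.mem_conjugatesOfSet_iff.mp hc
      obtain ⟨g, rfl⟩ := isConj_iff.mp hbc
      rw [Set.mem_singleton_iff] at hb
      subst hb
      rw [SetLike.mem_coe, Subgroup.mem_centralizer_iff]
      intro z hz
      have hz' : g⁻¹ * z * g ∈ K := by
        simpa using ‹K.Normal›.conj_mem z hz g⁻¹
      have := (commute_of_nilpotent h _ hz').eq
      calc z * (g * b * g⁻¹) = g * (g⁻¹ * z * g * b) * g⁻¹ := by group
        _ = g * (b * (g⁻¹ * z * g)) * g⁻¹ := by rw [← this]
        _ = g * b * g⁻¹ * z := by group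
    rw [hgen, Subgroup.coe_top, Subgroup.centralizer_univ] at hle
    exact hle

end CfsgLib.PairClosed
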