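import Mathlib.GroupTheory.Abelianization.Defs
import Cfsg.Agent.PGroup.Normal
import Cfsg.Agent.PairClosed.Basic

/-!
# A group generated by commutators with an element

`S` is a finite subgroup generated by the commutators `s a s⁻¹ a⁻¹` (`s ∈ S`).

* `mem_commutator_of_commute`: the elements of `S` commuting with `a` lie in `⁅S, S⁆`.
* `commutator_central`: for a `q`-group in which every abelian subgroup invariant under `a` commutes
  with `a`, the derived subgroup commutes with `S` and with `a`.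
-/

set_option autoImplicit false
set_option linter.style.haveILetI false

namespace CfsgLib.PairClosed

open scoped commutatorElement

variable {G : Type*} [Group G] [Finite G]

/-- `S` is normalised by `a` and generated by the commutators with `a`. -/
structure GenBy (a : G) (S : Subgroup G) : Prop where
  inv : ∀ s ∈ S, a * s * a⁻¹ ∈ S
  gen : S ≤ Subgroup.closure {x | ∃ s ∈ S, x = s * a * s⁻¹ * a⁻¹}

theorem GenBy.comm_mem {a : G} {S : Subgroup G} (h : GenBy a S) {s : G} (hs : s ∈ S) :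
    s * a * s⁻¹ * a⁻¹ ∈ S := by
  have h1 := S.mul_mem hs (h.inv _ (S.inv_mem hs))
  simpa [mul_assoc] using h1

/-- The elements of `S` commuting with `a` lie in the derived subgroup. -/
theorem mem_commutator_of_commute {a : G} {S : Subgroup G} (h : GenBy a S) {s : G} (hs : s ∈ S)
    (hc : Commute a s) : s ∈ ⁅S, S⁆ := by
  let σ : S →* S :=
    { toFun := fun x => ⟨a * x * a⁻¹, h.inv x x.2⟩
      map_one' := Subtype.ext (by simp)
      map_mul' := fun x y => Subtype.ext (by simp [mul_assoc]) }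
  let δ : Abelianization S →* Abelianization S :=
    MonoidHom.id _ / Abelianization.map σ
  have hgen : ∀ y : S, Abelianization.of y ∈ δ.range := by
    have key : S ≤ (δ.range.comap (Abelianization.of (G := S))).map S.subtype := by
      refine h.gen.trans ((Subgroup.closure_le _).mpr ?_)
      rintro _ ⟨t, ht, rfl⟩
      refine ⟨⟨t * a * t⁻¹ * a⁻¹, h.comm_mem ht⟩, ⟨Abelianization.of ⟨t, ht⟩, ?_⟩, rfl⟩
      have hx : (⟨t * a * t⁻¹ * a⁻¹, h.comm_mem ht⟩ : S) = ⟨t, ht⟩ * (σ ⟨t, ht⟩)⁻¹ :=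
        Subtype.ext (by
          show t * a * t⁻¹ * a⁻¹ = t * (a * t * a⁻¹)⁻¹
          group)
      rw [hx, map_mul, map_inv, ← div_eq_mul_inv]
      simp [δ]
    intro y
    obtain ⟨z, hz, hzy⟩ := key y.2
    rw [← Subtype.ext (show (z : G) = y from hzy)]
    exact hz
  have hsurj : Function.Surjective δ := by
    intro y
    induction y using QuotientGroup.induction_on with
    | _ x => exact hgen x
  haveI : Finite (Abelianization S) :=
    Finite.of_surjective (Abelianization.of (G := S)) QuotientGroup.mk_surjective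
  have hinj : Function.Injective δ := Finite.injective_iff_surjective.mpr hsurj
  have hσ : σ ⟨s, hs⟩ = ⟨s, hs⟩ := Subtype.ext (by
    show a * s * a⁻¹ = s
    rw [hc.eq, mul_inv_cancel_right])
  have h1 : δ (Abelianization.of ⟨s, hs⟩) = δ 1 := by
    rw [map_one]
    simp [δ, hσ]
  have h2 : (⟨s, hs⟩ : S) ∈ (Abelianization.of (G := S)).ker := MonoidHom.mem_ker.mpr (hinj h1)
  rw [Abelianization.ker_of] at h2
  rw [← Subgroup.map_subtype_commutator]
  exact ⟨_, h2, rfl⟩

omit [Finite G] in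
/-- An abelian subgroup normalised by `S` and commuting with `a` commutes with `S`. -/
theorem commute_of_normalized {a : G} {S R : Subgroup G} (h : GenBy a S)
    (hR : ∀ s ∈ S, ∀ r ∈ R, s * r * s⁻¹ ∈ R) (ha : ∀ r ∈ R, Commute a r) {r s : G} (hr : r ∈ R)
    (hs : s ∈ S) : Commute s r := by
  have key : S ≤ Subgroup.centralizer (R : Set G) := by
    refine h.gen.trans ((Subgroup.closure_le _).mpr ?_)
    rintro _ ⟨t, ht, rfl⟩
    rw [SetLike.mem_coe, Subgroup.mem_centralizer_iff]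
    intro r hr
    have h1 : Commute (t * a * t⁻¹) r := by
      have hr' : t⁻¹ * r * t ∈ R := by simpa using hR t⁻¹ (S.inv_mem ht) r hr
      have := (ha _ hr').eq
      show t * a * t⁻¹ * r = r * (t * a * t⁻¹)
      calc t * a * t⁻¹ * r = t * (a * (t⁻¹ * r * t)) * t⁻¹ := by group
        _ = t * ((t⁻¹ * r * t) * a) * t⁻¹ := by rw [this]
        _ = r * (t * a * t⁻¹) := by group
    exact ((h1.mul_left (ha r hr).inv_left).eq).symm
  exact (Subgroup.mem_centralizer_iff.mp (key hs) r hr).symm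

/-- The derived subgroup is central, and commutes with `a`. -/
theorem commutator_central {a : G} {S : Subgroup G} {q : ℕ} [Fact q.Prime] (hS : IsPGroup q S)
    (h : GenBy a S)
    (hab : ∀ R : Subgroup G, R ≤ S → (∀ x ∈ R, ∀ y ∈ R, Commute x y) →
      (∀ x ∈ R, a * x * a⁻¹ ∈ R) → ∀ x ∈ R, Commute a x)
    {u : G} (hu : u ∈ ⁅S, S⁆) : (∀ s ∈ S, Commute s u) ∧ Commute a u := by
  have hDS : ⁅S, S⁆ ≤ S := Subgroup.commutator_le.mpr fun x hx y hy =>
    S.mul_mem (S.mul_mem (S.mul_mem hx hy) (S.inv_mem hx)) (S.inv_mem hy)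
  set Z : Subgroup G := S ⊓ Subgroup.centralizer (S : Set G) with hZ
  have hinvc : ∀ (g : G), (∀ s ∈ S, g * s * g⁻¹ ∈ S) → ∀ d ∈ ⁅S, S⁆, g * d * g⁻¹ ∈ ⁅S, S⁆ := by
    intro g hg d hd
    have hle : ⁅S, S⁆ ≤ (⁅S, S⁆).comap (MulAut.conj g).toMonoidHom := Subgroup.commutator_le.mpr
      fun x hx y hy => by
        rw [Subgroup.mem_comap, map_commutatorElement]
        exact Subgroup.commutator_mem_commutator (hg x hx) (hg y hy)
    exact hle hd
  suffices hD : ⁅S, S⁆ ≤ Z by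
    have hc : ∀ d ∈ ⁅S, S⁆, ∀ s ∈ S, Commute s d := fun d hd s hs =>
      Subgroup.mem_centralizer_iff.mp (hD hd).2 s hs
    exact ⟨fun s hs => hc u hu s hs,
      hab _ hDS (fun x hx y hy => hc y hy x (hDS hx)) (fun x hx => hinvc a h.inv x hx) u hu⟩
  by_contra hD
  -- a commutator element outside the centre which is central modulo the centre
  set Zs : Subgroup S := Subgroup.center S
  let π : S →* S ⧸ Zs := QuotientGroup.mk' Zs
  haveI : ((commutator S).map π).Normal :=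
    Subgroup.Normal.map inferInstance π (QuotientGroup.mk'_surjective Zs)
  have hne : (commutator S).map π ≠ ⊥ := by
    intro h0
    apply hD
    intro d hd
    rw [← Subgroup.map_subtype_commutator] at hd
    obtain ⟨e, he, rfl⟩ := hd
    have h1 : e ∈ Zs := by
      rw [← QuotientGroup.eq_one_iff]
      exact (Subgroup.map_eq_bot_iff _).mp h0 he
    refine ⟨e.2, Subgroup.mem_centralizer_iff.mpr fun s hs => ?_⟩
    exact congrArg Subtype.val (Subgroup.mem_center_iff.mp h1 ⟨s, hs⟩)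
  obtain ⟨w, hw, hw1⟩ := (Subgroup.ne_bot_iff_exists_ne_one.mp
    (CfsgLib.PGroup.inf_center_ne_bot (hS.to_quotient Zs) _ hne))
    |>.imp (fun w hw => ⟨w.2, fun h1 => hw (Subtype.ext h1)⟩) |> fun ⟨w, hw⟩ => (⟨(w : S ⧸ Zs), hw⟩ :
      ∃ x, x ∈ (commutator S).map π ⊓ Subgroup.center (S ⧸ Zs) ∧ x ≠ 1)
  obtain ⟨⟨d, hd, rfl⟩, hwc⟩ := hw
  have hdS : (d : G) ∈ ⁅S, S⁆ := by
    rw [← Subgroup.map_subtype_commutator]
    exact ⟨d, hd, rfl⟩
  -- the subgroup of such elements
  let R : Subgroup G :=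
    { carrier := {r | r ∈ ⁅S, S⁆ ∧ ∀ s ∈ S, r * s * r⁻¹ * s⁻¹ ∈ Z}
      one_mem' := ⟨one_mem _, fun s _ => by simp [Subgroup.one_mem]⟩
      mul_mem' := fun {x y} hx hy => by
        refine ⟨mul_mem hx.1 hy.1, fun s hs => ?_⟩
        have h2 := hy.2 s hs
        have h1 := hx.2 s hs
        have hxz := Subgroup.mem_centralizer_iff.mp h2.2 x (hDS hx.1)
        have e : x * y * s * (x * y)⁻¹ * s⁻¹ =
            (y * s * y⁻¹ * s⁻¹) * (x * s * x⁻¹ * s⁻¹) := by
          calc x * y * s * (x * y)⁻¹ * s⁻¹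
              = x * (y * s * y⁻¹ * s⁻¹) * x⁻¹ * (x * s * x⁻¹ * s⁻¹) := by group
            _ = _ := by rw [hxz, mul_inv_cancel_right]
        rw [e]
        exact mul_mem h2 h1
      inv_mem' := fun {x} hx => by
        refine ⟨inv_mem hx.1, fun s hs => ?_⟩
        have h1 := hx.2 s hs
        have hxz := Subgroup.mem_centralizer_iff.mp h1.2 x⁻¹ (S.inv_mem (hDS hx.1))
        have e : x⁻¹ * s * x⁻¹⁻¹ * s⁻¹ = (x * s * x⁻¹ * s⁻¹)⁻¹ := by
          calc x⁻¹ * s * x⁻¹⁻¹ * s⁻¹ = (x⁻¹ * (x * s * x⁻¹ * s⁻¹) * x)⁻¹ := by group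
            _ = _ := by rw [hxz]; group
        rw [e]
        exact inv_mem h1 }
  have hRS : R ≤ S := fun r hr => hDS hr.1
  have hZZ : ∀ s ∈ S, ∀ z ∈ Z, s * z = z * s := fun s hs z hz =>
    Subgroup.mem_centralizer_iff.mp hz.2 s hs
  have hRD : ∀ r ∈ R, ∀ y ∈ ⁅S, S⁆, Commute r y := by
    intro r hr y hy
    have hle : ⁅S, S⁆ ≤ Subgroup.centralizer {r} := Subgroup.commutator_le.mpr fun x hx y hy => by
      rw [Subgroup.mem_centralizer_singleton_iff]
      obtain ⟨z1, hz1, e1⟩ : ∃ z ∈ Z, r * x * r⁻¹ = z * x :=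
        ⟨_, hr.2 x hx, by group⟩
      obtain ⟨z2, hz2, e2⟩ : ∃ z ∈ Z, r * y * r⁻¹ = z * y :=
        ⟨_, hr.2 y hy, by group⟩
      have c1x := hZZ x hx z1 hz1
      have c1y := hZZ y hy z1 hz1
      have c2x := hZZ x hx z2 hz2
      have c2y := hZZ y hy z2 hz2
      have c12 := hZZ z1 hz1.1 z2 hz2
      have key : r * ⁅x, y⁆ * r⁻¹ = ⁅x, y⁆ := by
        rw [show r * ⁅x, y⁆ * r⁻¹ = ⁅r * x * r⁻¹, r * y * r⁻¹⁆ from
          map_commutatorElement (MulAut.conj r).toMonoidHom x y, e1, e2, commutatorElement_def,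
          commutatorElement_def]
        have C1 : ∀ w, z1 * w = w * z1 → z1⁻¹ * w = w * z1⁻¹ := fun w hw =>
          (Commute.inv_left hw).eq
        calc z1 * x * (z2 * y) * (z1 * x)⁻¹ * (z2 * y)⁻¹
            = z1 * (x * z2) * y * x⁻¹ * z1⁻¹ * y⁻¹ * z2⁻¹ := by group
          _ = z1 * z2 * (x * y * x⁻¹) * z1⁻¹ * y⁻¹ * z2⁻¹ := by rw [c2x]; group
          _ = z1 * z2 * (z1⁻¹ * (x * y * x⁻¹)) * y⁻¹ * z2⁻¹ := by
              rw [C1 (x * y * x⁻¹) (((show Commute z1 x from c1x.symm).mul_right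
                (show Commute z1 y from c1y.symm)).mul_right
                (show Commute z1 x from c1x.symm).inv_right).eq]
              group
          _ = z2 * (x * y * x⁻¹ * y⁻¹) * z2⁻¹ := by rw [c12]; group
          _ = x * y * x⁻¹ * y⁻¹ := by
              rw [((((show Commute z2 x from c2x.symm).mul_right
                (show Commute z2 y from c2y.symm)).mul_right
                (show Commute z2 x from c2x.symm).inv_right).mul_right
                (show Commute z2 y from c2y.symm).inv_right).eq, mul_inv_cancel_right]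
      calc ⁅x, y⁆ * r = r * ⁅x, y⁆ * r⁻¹ * r := by rw [key]
        _ = r * ⁅x, y⁆ := by group
    exact (Subgroup.mem_centralizer_singleton_iff.mp (hle hy)).symm
  have hRinv : ∀ g : G, (∀ s ∈ S, g * s * g⁻¹ ∈ S) → (∀ s ∈ S, g⁻¹ * s * g ∈ S) →
      ∀ r ∈ R, g * r * g⁻¹ ∈ R := by
    intro g hg hg' r hr
    refine ⟨hinvc g hg r hr.1, fun s hs => ?_⟩
    have hz := hr.2 _ (hg' s hs)
    have e : g * r * g⁻¹ * s * (g * r * g⁻¹)⁻¹ * s⁻¹ =
        g * (r * (g⁻¹ * s * g) * r⁻¹ * (g⁻¹ * s * g)⁻¹) * g⁻¹ := by group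
    rw [e]
    refine ⟨hg _ hz.1, Subgroup.mem_centralizer_iff.mpr fun t ht => ?_⟩
    have := Subgroup.mem_centralizer_iff.mp hz.2 _ (hg' t ht)
    calc t * (g * _ * g⁻¹) = g * ((g⁻¹ * t * g) * (r * (g⁻¹ * s * g) * r⁻¹ * (g⁻¹ * s * g)⁻¹)) * g⁻¹ := by
          group
      _ = g * ((r * (g⁻¹ * s * g) * r⁻¹ * (g⁻¹ * s * g)⁻¹) * (g⁻¹ * t * g)) * g⁻¹ := by rw [this]
      _ = _ := by group
  have hainv' : ∀ s ∈ S, a⁻¹ * s * a ∈ S := by
    have hmap : S.map (MulAut.conj a).toMonoidHom = S :=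
      Subgroup.eq_of_le_of_card_ge (by rintro _ ⟨s, hs, rfl⟩; exact h.inv s hs)
        (card_cj a S).ge
    intro s hs
    rw [← hmap] at hs
    simpa using mem_cj.mp hs
  have haR := hab R hRS (fun x hx y hy => hRD x hx y hy.1)
    (fun x hx => hRinv a h.inv hainv' x hx)
  have hcR : ∀ r ∈ R, ∀ s ∈ S, Commute s r := fun r hr s hs =>
    commute_of_normalized h (fun t ht r hr => hRinv t (fun s hs => S.mul_mem (S.mul_mem ht hs)
      (S.inv_mem ht)) (fun s hs => S.mul_mem (S.mul_mem (S.inv_mem ht) hs) ht) r hr) haR hr hs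
  have hdR : (d : G) ∈ R := by
    refine ⟨hdS, fun s hs => ?_⟩
    have h1 := Subgroup.mem_center_iff.mp hwc (π ⟨s, hs⟩)
    rw [← map_mul, ← map_mul] at h1
    have h2 : d * ⟨s, hs⟩ * d⁻¹ * ⟨s, hs⟩⁻¹ ∈ Zs := by
      rw [← QuotientGroup.eq_one_iff]
      show π _ = 1
      rw [map_mul, map_mul, ← h1, map_inv, map_inv, map_mul]
      group
    refine ⟨S.mul_mem (S.mul_mem (S.mul_mem d.2 hs) (S.inv_mem d.2)) (S.inv_mem hs),
      Subgroup.mem_centralizer_iff.mpr fun t ht => ?_⟩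
    exact congrArg Subtype.val (Subgroup.mem_center_iff.mp h2 ⟨t, ht⟩)
  apply hw1
  show π d = 1
  rw [QuotientGroup.mk'_apply, QuotientGroup.eq_one_iff, Subgroup.mem_center_iff]
  exact fun s => Subtype.ext (hcR _ hdR s s.2).eq

end CfsgLib.PairClosed
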