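import Cfsg.Agent.PairClosed.Basic
import Mathlib.GroupTheory.Nilpotent
import Mathlib.Algebra.Group.Subgroup.Basic

/-!
# A quadratic identity

`exists_commutator_mem`: a `q`-element normalising a `q`-group centralises modulo `Z` some element
outside `Z`.

`commute_of_quadratic`: let `P` be a `q`-group of class at most two normalised by `a` and by the
`q`-element `t`, which commute; assume that the elements of `P` commuting with `a` are central in `P`,
that every other `x` has a noncommuting conjugate `a ^ j x a ^ (-j)`, and that `t` acts on `⁅P, P⁆`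
with `[[u, t], t] = 1`. Then every `[t, x]` commutes with `a`.
-/

set_option autoImplicit false
set_option linter.style.haveILetI false
set_option maxHeartbeats 400000

namespace CfsgLib.PairClosed

open scoped commutatorElement IsMulCommutative

variable {G : Type*} [Group G]

theorem commutator_mul_left {x y z : G} (hy : Commute x ⁅y, z⁆) :
    ⁅x * y, z⁆ = ⁅y, z⁆ * ⁅x, z⁆ := by
  have e1 : ⁅x * y, z⁆ = x * ⁅y, z⁆ * x⁻¹ * ⁅x, z⁆ := by
    simp only [commutatorElement_def]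
    group
  rw [e1, hy.eq, mul_inv_cancel_right]

theorem commutator_mul_right {x y z : G} (hy : Commute y ⁅x, z⁆) :
    ⁅x, y * z⁆ = ⁅x, y⁆ * ⁅x, z⁆ := by
  have e1 : ⁅x, y * z⁆ = ⁅x, y⁆ * (y * ⁅x, z⁆ * y⁻¹) := by
    simp only [commutatorElement_def]
    group
  rw [e1, hy.eq, mul_inv_cancel_right]

variable [Finite G]

theorem exists_iterate_commutator {q : ℕ} [Fact q.Prime] {P : Subgroup G} {t : G}
    (hP : IsPGroup q P) (ht : ∀ x ∈ P, t * x * t⁻¹ ∈ P) (htq : ∃ m, t ^ q ^ m = 1) {x : G}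
    (hx : x ∈ P) : ∃ i, (fun v => ⁅t, v⁆)^[i] x = 1 := by
  have htP : Subgroup.zpowers t ≤ Subgroup.normalizer (P : Set G) := by
    rw [Subgroup.zpowers_le, Subgroup.mem_normalizer_iff]
    intro y
    refine ⟨ht y, fun hy => ?_⟩
    have hmap : P.map (MulAut.conj t).toMonoidHom = P :=
      Subgroup.eq_of_le_of_card_ge (by rintro _ ⟨z, hz, rfl⟩; exact ht z hz) (card_cj t P).ge
    have hy' : t * y * t⁻¹ ∈ cj t P := hmap.ge hy
    simpa [mul_assoc] using mem_cj.mp hy'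
  have hTq : IsPGroup q (Subgroup.zpowers t) := by
    obtain ⟨m, hm⟩ := htq
    obtain ⟨i, -, hi⟩ := (Nat.dvd_prime_pow Fact.out).mp (orderOf_dvd_of_pow_eq_one hm)
    exact IsPGroup.of_card (n := i) (by rw [Nat.card_zpowers, hi])
  set T := Subgroup.zpowers t ⊔ P with hT
  have hTP : IsPGroup q T := IsPGroup.to_sup_of_normal_right' hTq hP htP
  haveI : Group.IsNilpotent T := hTP.isNilpotent
  obtain ⟨m, hm⟩ := (Subgroup.isNilpotent_iff_lowerCentralSeries T).mp inferInstance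
  refine ⟨m, ?_⟩
  have key : ∀ i, (fun v => ⁅t, v⁆)^[i] x ∈ T.lowerCentralSeries i := by
    intro i
    induction i with
    | zero => exact Subgroup.mem_sup_right hx
    | succ i ih =>
      have h1 : ⁅(fun v => ⁅t, v⁆)^[i] x, t⁆ ∈ T.lowerCentralSeries (i + 1) := by
        rw [Subgroup.lowerCentralSeries_succ]
        exact Subgroup.commutator_mem_commutator ih
          (Subgroup.mem_sup_left (Subgroup.mem_zpowers t))
      rw [Function.iterate_succ_apply']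
      show ⁅t, (fun v => ⁅t, v⁆)^[i] x⁆ ∈ _
      rw [← commutatorElement_inv]
      exact inv_mem h1
  simpa [hm] using key m

/-- A `q`-element normalising a `q`-group centralises modulo `Z` some element outside `Z`. -/
theorem exists_commutator_mem {q : ℕ} [Fact q.Prime] {P Z : Subgroup G} {t : G}
    (hP : IsPGroup q P) (ht : ∀ x ∈ P, t * x * t⁻¹ ∈ P) (htq : ∃ m, t ^ q ^ m = 1) {x : G}
    (hx : x ∈ P) (hxZ : x ∉ Z) : ∃ y ∈ P, y ∉ Z ∧ ⁅t, y⁆ ∈ Z := by
  by_contra hcon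
  have key : ∀ i, (fun v => ⁅t, v⁆)^[i] x ∈ P ∧ (fun v => ⁅t, v⁆)^[i] x ∉ Z := by
    intro i
    induction i with
    | zero => exact ⟨hx, hxZ⟩
    | succ i ih =>
      rw [Function.iterate_succ_apply']
      refine ⟨?_, fun hz => hcon ⟨_, ih.1, ih.2, hz⟩⟩
      show ⁅t, (fun v => ⁅t, v⁆)^[i] x⁆ ∈ P
      rw [commutatorElement_def]
      exact P.mul_mem (ht _ ih.1) (P.inv_mem ih.1)
  obtain ⟨i, hi⟩ := exists_iterate_commutator hP ht htq hx
  exact (key i).2 (hi ▸ one_mem Z)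

theorem commute_of_quadratic {q : ℕ} [Fact q.Prime] (hq : q ≠ 2) {P : Subgroup G} {a t : G}
    (hP : IsPGroup q P) (ha : ∀ x ∈ P, a * x * a⁻¹ ∈ P) (ht : ∀ x ∈ P, t * x * t⁻¹ ∈ P)
    (htq : ∃ m, t ^ q ^ m = 1) (hta : Commute t a)
    (hclass : ∀ u ∈ ⁅P, P⁆, ∀ x ∈ P, Commute x u)
    (hfix : ∀ c ∈ P, Commute a c → ∀ x ∈ P, Commute x c)
    (hanis : ∀ x ∈ P, ¬ Commute a x → ∃ j : ℕ, ¬ Commute x (a ^ j * x * (a ^ j)⁻¹))
    (hquad : ∀ u ∈ ⁅P, P⁆, Commute t ⁅t, u⁆) :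
    ∀ x ∈ P, Commute a ⁅t, x⁆ := by
  classical
  intro x0 hx0
  by_contra hcon
  have hpow : ∀ m : ℕ, ∀ x ∈ P, a ^ m * x * (a ^ m)⁻¹ ∈ P := by
    intro m
    induction m with
    | zero => intro x hx; simpa using hx
    | succ m ih =>
      intro x hx
      have := ha _ (ih x hx)
      rw [pow_succ']
      simpa [mul_assoc] using this
  have hbr : ∀ x ∈ P, ⁅t, x⁆ ∈ P := fun x hx => by
    rw [commutatorElement_def]
    exact P.mul_mem (ht x hx) (P.inv_mem hx)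
  let seq : ℕ → G := fun i => (fun v => ⁅t, v⁆)^[i] x0
  have hseq : ∀ i, seq i ∈ P := fun i => by
    induction i with
    | zero => exact hx0
    | succ i ih =>
      show (fun v => ⁅t, v⁆)^[i + 1] x0 ∈ P
      rw [Function.iterate_succ_apply']
      exact hbr _ ih
  have hend : ∃ i, seq i = 1 := exists_iterate_commutator hP ht htq hx0
  have hex : ∃ i, Commute a (seq i) := by
    obtain ⟨i, hi⟩ := hend
    exact ⟨i, by rw [hi]; exact Commute.one_right a⟩
  set m := Nat.find hex with hm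
  have hmin : ∀ i < m, ¬ Commute a (seq i) := fun i hi => Nat.find_min hex hi
  have hm2 : 2 ≤ m := by
    rcases Nat.lt_or_ge m 2 with hlt | hge
    · exfalso
      have hspec := Nat.find_spec hex
      rw [← hm] at hspec
      rcases m, hm with ⟨_ | _ | _, hm⟩
      · -- then `x0` commutes with `a`
        have h0 : Commute a x0 := hspec
        refine hcon ?_
        exact ((hta.symm.mul_right h0).mul_right hta.symm.inv_right).mul_right h0.inv_right
      · exact hcon hspec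
      · omega
    · exact hge
  obtain ⟨i, hi⟩ : ∃ i, m = i + 2 := ⟨m - 2, by omega⟩
  set x := seq i with hx
  set r := ⁅t, x⁆ with hr
  have hr' : seq (i + 1) = r := Function.iterate_succ_apply' _ _ _
  have hxP : x ∈ P := hseq i
  have hrP : r ∈ P := hbr x hxP
  have hrn : ¬ Commute a r := hr' ▸ hmin (i + 1) (by omega)
  set c := ⁅t, r⁆ with hc
  have hcP : c ∈ P := hbr r hrP
  have hca : Commute a c := by
    have hspec := Nat.find_spec hex
    rw [← hm, hi] at hspec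
    have e : seq (i + 2) = c := by
      show (fun v => ⁅t, v⁆)^[i + 1 + 1] x0 = c
      rw [Function.iterate_succ_apply']
      exact congrArg (fun v => ⁅t, v⁆) hr'
    rwa [e] at hspec
  obtain ⟨j, hj⟩ := hanis r hrP hrn
  apply hj
  set s := a ^ j with hs
  have hts : Commute t s := hta.pow_right j
  let σ : G →* G := (MulAut.conj s).toMonoidHom
  have hσP : ∀ y ∈ P, σ y ∈ P := fun y hy => hpow j y hy
  have hσc : σ c = c := by
    show s * c * s⁻¹ = c
    rw [(hca.pow_left j).eq, mul_inv_cancel_right]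
  have hcz : ∀ y ∈ P, ⁅c, y⁆ = 1 ∧ ⁅y, c⁆ = 1 := fun y hy =>
    ⟨commutatorElement_eq_one_iff_commute.mpr (hfix c hcP hca y hy).symm,
      commutatorElement_eq_one_iff_commute.mpr (hfix c hcP hca y hy)⟩
  have hmem : ∀ y ∈ P, ∀ z ∈ P, ⁅y, z⁆ ∈ ⁅P, P⁆ := fun y hy z hz =>
    Subgroup.commutator_mem_commutator hy hz
  haveI : IsMulCommutative ↥⁅P, P⁆ := ⟨⟨fun u v => Subtype.ext (hclass v v.2 u (by
    have hle : ⁅P, P⁆ ≤ P := Subgroup.commutator_le.mpr fun y hy z hz => by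
      rw [commutatorElement_def]
      exact P.mul_mem (P.mul_mem (P.mul_mem hy hz) (P.inv_mem hy)) (P.inv_mem hz)
    exact hle u.2)).eq⟩⟩
  let β : ∀ y, y ∈ P → ∀ z, z ∈ P → ↥⁅P, P⁆ := fun y hy z hz => ⟨⁅y, z⁆, hmem y hy z hz⟩
  have hsx := hσP x hxP
  have hsr := hσP r hrP
  set A := β r hrP (σ r) hsr
  set B := β r hrP (σ x) hsx
  set C := β x hxP (σ r) hsr
  set E := β x hxP (σ x) hsx
  have bl : ∀ y ∈ P, ∀ y' ∈ P, ∀ z ∈ P, ⁅y * y', z⁆ = ⁅y', z⁆ * ⁅y, z⁆ := fun y hy y' hy' z hz =>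
    commutator_mul_left (hclass _ (hmem y' hy' z hz) y hy)
  have br' : ∀ y ∈ P, ∀ z ∈ P, ∀ z' ∈ P, ⁅y, z * z'⁆ = ⁅y, z⁆ * ⁅y, z'⁆ := fun y hy z hz z' hz' =>
    commutator_mul_right (hclass _ (hmem y hy z' hz') z hz)
  have f1 : ⁅r * x, σ (r * x)⁆ = ((C * E * (A * B) : ↥⁅P, P⁆) : G) := by
    rw [map_mul, bl r hrP x hxP _ (P.mul_mem hsr hsx), br' x hxP _ hsr _ hsx, br' r hrP _ hsr _ hsx]
    rfl
  have f2 : ⁅c * (r * (r * x)), σ (c * (r * (r * x)))⁆ =
      ((C * (C * E) * (A * (A * B)) * (A * (A * B)) : ↥⁅P, P⁆) : G) := by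
    have hrr : r * (r * x) ∈ P := P.mul_mem hrP (P.mul_mem hrP hxP)
    have hσrr : σ r * (σ r * σ x) ∈ P := P.mul_mem hsr (P.mul_mem hsr hsx)
    rw [map_mul, hσc, map_mul, map_mul, bl c hcP _ hrr _ (P.mul_mem hcP hσrr),
      (hcz _ (P.mul_mem hcP hσrr)).1, mul_one, br' _ hrr c hcP _ hσrr, (hcz _ hrr).2, one_mul,
      bl r hrP _ (P.mul_mem hrP hxP) _ hσrr, bl r hrP x hxP _ hσrr,
      br' x hxP _ hsr _ (P.mul_mem hsr hsx), br' x hxP _ hsr _ hsx,
      br' r hrP _ hsr _ (P.mul_mem hsr hsx), br' r hrP _ hsr _ hsx]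
    rfl
  -- `t` maps the three values along
  have hTx : t * x * t⁻¹ = r * x := by rw [hr, commutatorElement_def]; group
  have hTr : t * r * t⁻¹ = c * r := by rw [hc, commutatorElement_def]; group
  have hTσ : ∀ y, t * σ y * t⁻¹ = σ (t * y * t⁻¹) := fun y => by
    show t * (s * y * s⁻¹) * t⁻¹ = s * (t * y * t⁻¹) * s⁻¹
    calc t * (s * y * s⁻¹) * t⁻¹ = (t * s) * y * (t * s)⁻¹ := by group
      _ = (s * t) * y * (s * t)⁻¹ := by rw [hts.eq]
      _ = _ := by group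
  have hTc : ∀ y z, t * ⁅y, z⁆ * t⁻¹ = ⁅t * y * t⁻¹, t * z * t⁻¹⁆ := fun y z =>
    map_commutatorElement (MulAut.conj t).toMonoidHom y z
  have g1 : t * ⁅x, σ x⁆ * t⁻¹ = ⁅r * x, σ (r * x)⁆ := by rw [hTc, hTσ, hTx]
  have hTrx : t * (r * x) * t⁻¹ = c * (r * (r * x)) := by
    calc t * (r * x) * t⁻¹ = (t * r * t⁻¹) * (t * x * t⁻¹) := by group
      _ = _ := by rw [hTr, hTx, mul_assoc]
  have g2 : t * ⁅r * x, σ (r * x)⁆ * t⁻¹ = ⁅c * (r * (r * x)), σ (c * (r * (r * x)))⁆ := by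
    rw [hTc, hTσ, hTrx]
  -- second difference
  have hq2 : t * ((C * E * (A * B) : ↥⁅P, P⁆) : G) * t⁻¹ * (E : G) =
      ((C * E * (A * B) : ↥⁅P, P⁆) : G) * ((C * E * (A * B) : ↥⁅P, P⁆) : G) := by
    have hδ := hquad _ (hmem x hxP _ hsx)
    set u := ⁅x, σ x⁆ with hu
    have hE : (E : G) = u := rfl
    rw [← f1, ← g1, hE]
    have hδ' : t * u * t⁻¹ = ⁅t, u⁆ * u := by rw [commutatorElement_def]; group
    have hmem1 : t * u * t⁻¹ ∈ ⁅P, P⁆ := by rw [g1, f1]; exact Subtype.mem _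
    have hδmem : ⁅t, u⁆ ∈ ⁅P, P⁆ := by
      rw [commutatorElement_def]
      exact mul_mem hmem1 (inv_mem (hmem x hxP _ hsx))
    have hcomm : Commute u ⁅t, u⁆ := hclass _ hδmem _ (by
      rw [hu, commutatorElement_def]
      exact P.mul_mem (P.mul_mem (P.mul_mem hxP hsx) (P.inv_mem hxP)) (P.inv_mem hsx))
    have e2 : t * (t * u * t⁻¹) * t⁻¹ = ⁅t, u⁆ * (⁅t, u⁆ * u) := by
      rw [hδ', show t * (⁅t, u⁆ * u) * t⁻¹ = t * ⁅t, u⁆ * t⁻¹ * (t * u * t⁻¹) by group, hδ.eq,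
        mul_inv_cancel_right, hδ']
    rw [e2, hδ']
    calc ⁅t, u⁆ * (⁅t, u⁆ * u) * u = ⁅t, u⁆ * ((⁅t, u⁆ * u) * u) := by group
      _ = ⁅t, u⁆ * ((u * ⁅t, u⁆) * u) := by rw [hcomm.eq]
      _ = _ := by group
  rw [← f1, g2, f2, f1, ← Subgroup.coe_mul, ← Subgroup.coe_mul] at hq2
  have hAA : A * A = 1 := by
    have h2 := Subtype.ext hq2
    have e1 : C * (C * E) * (A * (A * B)) * (A * (A * B)) * E =
        (A * A) * ((A * A) * (B * B) * (C * C) * (E * E)) := by ac_rfl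
    have e2 : (C * E * (A * B)) * (C * E * (A * B)) = (A * A) * (B * B) * (C * C) * (E * E) := by
      ac_rfl
    rw [e1, e2] at h2
    exact mul_eq_right.mp h2
  have hA1 : (A : G) = 1 := by
    obtain ⟨n, hn⟩ := IsPGroup.iff_orderOf.mp hP ⟨⁅r, σ r⁆, by
      rw [commutatorElement_def]
      exact P.mul_mem (P.mul_mem (P.mul_mem hrP hsr) (P.inv_mem hrP)) (P.inv_mem hsr)⟩
    rw [Subgroup.orderOf_mk] at hn
    refine eq_one_of_sq_eq_one ?_ (congrArg Subtype.val hAA)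
    show Odd (orderOf ⁅r, σ r⁆)
    rw [hn]
    exact ((Fact.out : q.Prime).odd_of_ne_two hq).pow
  exact commutatorElement_eq_one_iff_commute.mp hA1

end CfsgLib.PairClosed
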