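import Cfsg.Agent.PairClosed.Critical
import Cfsg.Agent.PairClosed.Quadratic

/-!
# The largest proper subgroup around a noncentral fixed element

* `bigOf D z`: the subgroup generated by the members commuting with `z`.
* `Piv D q z S A`: `z` is a noncentral element of the kernel `S` commuting with `A`; then `bigOf D z`
  is the largest proper subgroup generated by members above `S ⊔ A`.
* `Data.anisotropic`: in the nonabelian case an element of the kernel commuting with its conjugates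
  under `a` commutes with `a`.
* `Data.commute_of_quadratic`: a quadratic element commuting with `n` and `a` centralises the kernel.
* `PairSys.cj_le_of_fixed`, `PairSys.cj_le_of_inverted`: an involution, and an inverted element
  centralising its fixed members, preserve every subgroup generated by members above the fixed ones.
-/

set_option autoImplicit false
set_option linter.style.haveILetI false
set_option maxHeartbeats 400000

namespace CfsgLib.PairClosed

open scoped commutatorElement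

universe u

variable {G : Type u} [Group G] [Finite G] {p q k : ℕ} {ab : Prop} {D : Set (Subgroup G)}

omit [Finite G] in
/-- An element of odd order is the square of one of its powers. -/
theorem exists_pow_sq {x : G} (ho : Odd (orderOf x)) : ∃ m : ℕ, x ^ m * x ^ m = x := by
  obtain ⟨i, hi⟩ := ho
  exact ⟨i + 1, by rw [← pow_add, show i + 1 + (i + 1) = (2 * i + 1) + 1 by ring, pow_succ, ← hi,
    pow_orderOf_eq_one, one_mul]⟩

theorem PairSys.odd_orderOf (h : PairSys p q k ab D) {S : Subgroup G} (hS : IsPGroup q S) {x : G}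
    (hx : x ∈ S) : Odd (orderOf x) := by
  haveI := Fact.mk h.hq
  obtain ⟨m, hm⟩ := IsPGroup.iff_orderOf.mp hS ⟨x, hx⟩
  rw [Subgroup.orderOf_mk] at hm
  rw [hm]
  exact (h.hq.odd_of_ne_two h.q2).pow

omit [Finite G] in
theorem Full.cj_full {H : Subgroup G} (hH : Full D H) (hconj : ∀ A ∈ D, ∀ g : G, cj g A ∈ D)
    (g : G) : Full D (cj g H) := by
  refine Subgroup.map_le_iff_le_comap.mpr (hH.trans (sSup_le fun C hC => ?_))
  rw [← Subgroup.map_le_iff_le_comap]
  exact le_sSup (show cj g C ∈ {B | B ∈ D ∧ B ≤ cj g H} from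
    ⟨hconj C hC.1 g, Subgroup.map_mono hC.2⟩)

theorem cj_eq_of_le {H : Subgroup G} {g : G} (hle : cj g H ≤ H) : cj g H = H :=
  Subgroup.eq_of_le_of_card_ge hle (card_cj g H).ge

theorem cj_ne_top {H : Subgroup G} (hH : H ≠ ⊤) (g : G) : cj g H ≠ ⊤ := fun e =>
  hH (Subgroup.eq_top_of_card_eq H (by rw [← card_cj g H, e, Subgroup.card_top]))

/-- The subgroup generated by the members commuting with `z`. -/
def bigOf (D : Set (Subgroup G)) (z : G) : Subgroup G :=
  sSup {C | C ∈ D ∧ ∀ x ∈ C, Commute x z}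

omit [Finite G] in
theorem le_bigOf {z : G} {C : Subgroup G} (hC : C ∈ D) (hc : ∀ x ∈ C, Commute x z) :
    C ≤ bigOf D z :=
  le_sSup (show C ∈ {C | C ∈ D ∧ ∀ x ∈ C, Commute x z} from ⟨hC, hc⟩)

omit [Finite G] in
theorem commute_bigOf {z x : G} (hx : x ∈ bigOf D z) : Commute x z := by
  have hle : bigOf D z ≤ Subgroup.centralizer {z} := sSup_le fun C hC y hy =>
    Subgroup.mem_centralizer_singleton_iff.mpr (hC.2 y hy).eq
  exact Subgroup.mem_centralizer_singleton_iff.mp (hle hx)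

omit [Finite G] in
theorem full_bigOf (z : G) : Full D (bigOf D z) := full_sSup fun _ hC => hC.1

omit [Finite G] in
theorem bigOf_ne_top {z : G} (hz : z ∉ Subgroup.center G) : bigOf D z ≠ ⊤ := fun e =>
  hz (Subgroup.mem_center_iff.mpr fun g => (commute_bigOf (e ▸ Subgroup.mem_top g)).eq)

/-- A noncentral element of a kernel commuting with its member. -/
structure Piv (D : Set (Subgroup G)) (q : ℕ) (z : G) (S A : Subgroup G) : Prop where
  dat : Data D q S A
  mem : z ∈ S
  comm : ∀ x ∈ A, Commute x z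
  nc : z ∉ Subgroup.center G

theorem Data.conj {S A : Subgroup G} (d : Data D q S A) (h : PairSys p q k ab D) (g : G) :
    Data D q (cj g S) (cj g A) :=
  ⟨⟨d.grp.map _, (Subgroup.map_mono d.nrm).trans (Subgroup.le_normalizer_map _)⟩,
    h.conj A d.mem g, by
      rw [show cj g S ⊔ cj g A = cj g (S ⊔ A) from (Subgroup.map_sup _ _ _).symm]
      exact d.full.cj_full h.conj g⟩

/-- An element preserving `S ⊔ A` normalises `S`. -/
theorem Data.conj_mem {S A : Subgroup G} (d : Data D q S A) (h : PairSys p q k ab D) {g : G}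
    (hg : cj g (S ⊔ A) ≤ S ⊔ A) {x : G} (hx : x ∈ S) : g * x * g⁻¹ ∈ S :=
  d.le_kernel h (d.grp.map _) ((Subgroup.map_mono le_sup_left).trans hg) (conj_mem_cj hx)

namespace Piv

variable {z : G} {S A : Subgroup G}

theorem self_le (P : Piv D q z S A) (h : PairSys p q k ab D) : S ⊔ A ≤ bigOf D z := by
  refine P.dat.full.trans (sSup_le fun C hC => le_bigOf hC.1 fun x hx => ?_)
  obtain ⟨a, ha, ha1⟩ := h.exists_mem_ne_one P.dat.mem
  exact P.dat.fixed_central h ha ha1 P.mem (P.comm a ha) (hC.2 hx)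

theorem le_big (P : Piv D q z S A) (hc : Crit p q k ab D) {H : Subgroup G} (hH : H ≠ ⊤)
    (hfull : Full D H) (hle : S ⊔ A ≤ H) : H ≤ bigOf D z := by
  obtain ⟨T, dT, hT, -⟩ := hc.exists_kernel hH hfull P.dat.mem (le_sup_right.trans hle)
  have hST : S ≤ T := dT.le_kernel hc.sys P.dat.grp (le_sup_left.trans (hle.trans hT.ge))
  obtain ⟨a, ha, ha1⟩ := hc.sys.exists_mem_ne_one P.dat.mem
  refine hfull.trans (sSup_le fun C hC => le_bigOf hC.1 fun x hx => ?_)
  exact dT.fixed_central hc.sys ha ha1 (hST P.mem) (P.comm a ha) (hT.symm ▸ hC.2 hx)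

theorem bigOf_eq (P : Piv D q z S A) (hc : Crit p q k ab D) {w : G}
    (hw : w ∉ Subgroup.center G) (hcomm : ∀ x ∈ bigOf D z, Commute x w) :
    bigOf D w = bigOf D z := by
  have hle : bigOf D z ≤ bigOf D w :=
    (full_bigOf z).trans (sSup_le fun C hC => le_bigOf hC.1 fun x hx => hcomm x (hC.2 hx))
  exact le_antisymm (P.le_big hc (bigOf_ne_top hw) (full_bigOf w) ((P.self_le hc.sys).trans hle)) hle

theorem cj_bigOf (P : Piv D q z S A) (hc : Crit p q k ab D) {g : G}
    (hg : cj g (S ⊔ A) ≤ bigOf D z) : cj g (bigOf D z) = bigOf D z := by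
  have hne : cj g⁻¹ (bigOf D z) ≠ ⊤ := cj_ne_top (bigOf_ne_top P.nc) g⁻¹
  have hle : S ⊔ A ≤ cj g⁻¹ (bigOf D z) := by
    have := Subgroup.map_mono (f := (MulAut.conj g⁻¹).toMonoidHom) hg
    change cj g⁻¹ (cj g (S ⊔ A)) ≤ cj g⁻¹ (bigOf D z) at this
    rwa [← cj_mul, inv_mul_cancel, cj_one] at this
  have h1 : cj g⁻¹ (bigOf D z) = bigOf D z := Subgroup.eq_of_le_of_card_ge
    (P.le_big hc hne ((full_bigOf z).cj_full hc.sys.conj g⁻¹) hle) (card_cj _ _).ge
  calc cj g (bigOf D z) = cj g (cj g⁻¹ (bigOf D z)) := by rw [h1]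
    _ = bigOf D z := by rw [← cj_mul, mul_inv_cancel, cj_one]

theorem conj (P : Piv D q z S A) (h : PairSys p q k ab D) (g : G) :
    Piv D q (g * z * g⁻¹) (cj g S) (cj g A) :=
  ⟨P.dat.conj h g, conj_mem_cj P.mem, by
    rintro _ ⟨x, hx, rfl⟩
    exact (P.comm x hx).map (MulAut.conj g).toMonoidHom,
    fun hz => P.nc (by simpa [mul_assoc] using Subgroup.Normal.conj_mem inferInstance _ hz g⁻¹)⟩

end Piv

namespace Data

variable {S A : Subgroup G}

/-- In the nonabelian case an element of the kernel commuting with all its conjugates under `a`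
commutes with `a`. -/
theorem anisotropic (d : Data D q S A) (h : PairSys p q k ab D) (hab : ¬ ab) {a : G} (ha : a ∈ A)
    (ha1 : a ≠ 1) {x : G} (hx : x ∈ S) (hc : ∀ j : ℕ, Commute x (a ^ j * x * (a ^ j)⁻¹)) :
    Commute a x := by
  set T : Set G := Set.range fun j : ℕ => a ^ j * x * (a ^ j)⁻¹ with hT
  have hTS : T ⊆ (S : Set G) := by
    rintro _ ⟨j, rfl⟩
    exact d.conj_inv (A.pow_mem ha j) hx
  have hle : ∀ i j : ℕ, i ≤ j →
      Commute (a ^ i * x * (a ^ i)⁻¹) (a ^ j * x * (a ^ j)⁻¹) := by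
    intro i j hij
    have e : a ^ j * x * (a ^ j)⁻¹ =
        a ^ i * (a ^ (j - i) * x * (a ^ (j - i))⁻¹) * (a ^ i)⁻¹ := by
      rw [show a ^ j = a ^ i * a ^ (j - i) by rw [← pow_add, Nat.add_sub_cancel' hij]]
      group
    rw [e]
    exact (hc (j - i)).map (MulAut.conj (a ^ i)).toMonoidHom
  have hpair : ∀ u ∈ T, ∀ v ∈ T, Commute u v := by
    rintro _ ⟨i, rfl⟩ _ ⟨j, rfl⟩
    rcases le_total i j with hij | hij
    · exact hle i j hij
    · exact (hle j i hij).symm
  have hcomm : ∀ u ∈ Subgroup.closure T, ∀ v ∈ Subgroup.closure T, Commute u v := by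
    have h1 : Subgroup.closure T ≤ Subgroup.centralizer T := (Subgroup.closure_le _).mpr
      fun u hu => Subgroup.mem_centralizer_iff.mpr fun v hv => (hpair v hv u hu).eq
    intro u hu v hv
    have h2 : Subgroup.closure T ≤ Subgroup.centralizer {u} := (Subgroup.closure_le _).mpr
      fun w hw => Subgroup.mem_centralizer_singleton_iff.mpr
        (Subgroup.mem_centralizer_iff.mp (h1 hu) w hw)
    exact (Subgroup.mem_centralizer_singleton_iff.mp (h2 hv)).symm
  refine d.abelian_inv_commute h hab ha ha1 ((Subgroup.closure_le _).mpr hTS) hcomm ?_ x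
    (Subgroup.subset_closure ⟨0, by simp⟩)
  intro u hu
  have h3 : Subgroup.closure T ≤ (Subgroup.closure T).comap (MulAut.conj a).toMonoidHom := by
    refine (Subgroup.closure_le _).mpr ?_
    rintro _ ⟨j, rfl⟩
    refine Subgroup.subset_closure ⟨j + 1, ?_⟩
    simp [pow_succ', mul_assoc]
  exact h3 hu

/-- An element commuting with `a` whose commutators with the kernel commute with `a` centralises
the whole of `S ⊔ A`. -/
theorem commute_of_diff (d : Data D q S A) (h : PairSys p q k ab D) {a : G} (ha : a ∈ A)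
    (ha1 : a ≠ 1) {t : G} (hta : Commute t a)
    (hdiff : ∀ x ∈ S, ⁅t, x⁆ ∈ S ∧ Commute a ⁅t, x⁆) {g : G} (hg : g ∈ S ⊔ A) : Commute g t := by
  have hle : S ≤ Subgroup.centralizer {t} := by
    refine (d.genBy h ha ha1).gen.trans ((Subgroup.closure_le _).mpr ?_)
    rintro _ ⟨s, hs, rfl⟩
    rw [SetLike.mem_coe, Subgroup.mem_centralizer_singleton_iff]
    obtain ⟨heS, hea⟩ := hdiff s hs
    have hec : ∀ x ∈ S ⊔ A, Commute x ⁅t, s⁆ := fun x hx => d.fixed_central h ha ha1 heS hea hx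
    have hd := hec (s * a * s⁻¹) (mul_mem (mul_mem (Subgroup.mem_sup_left hs)
      (Subgroup.mem_sup_right ha)) (inv_mem (Subgroup.mem_sup_left hs)))
    set e := ⁅t, s⁆ with he
    have e1 : t * s = e * s * t := by rw [he, commutatorElement_def]; group
    have e2 : t * (s * a * s⁻¹ * a⁻¹) * t⁻¹ = s * a * s⁻¹ * a⁻¹ := by
      calc t * (s * a * s⁻¹ * a⁻¹) * t⁻¹
          = (t * s) * a * (t * s)⁻¹ * (t * a⁻¹ * t⁻¹) := by group
        _ = (e * s * t) * a * (e * s * t)⁻¹ * a⁻¹ := by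
          rw [e1, hta.inv_right.eq, mul_inv_cancel_right]
        _ = e * (s * (t * a * t⁻¹) * s⁻¹) * e⁻¹ * a⁻¹ := by group
        _ = s * a * s⁻¹ * a⁻¹ := by
          rw [hta.eq, mul_inv_cancel_right, ← hd.eq, mul_inv_cancel_right]
    exact (mul_inv_eq_iff_eq_mul.mp e2).symm
  obtain ⟨s, hs, b, hb, rfl⟩ := d.toKern.mem_sup hg
  exact Commute.mul_left (Subgroup.mem_centralizer_singleton_iff.mp (hle hs))
    (d.commute_pow h ha ha1 hta.symm hb)

/-- A quadratic element commuting with `n` and `a` centralises the kernel. -/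
theorem commute_of_quadratic (d : Data D q S A) (h : PairSys p q k ab D) (hab : ¬ ab) {a : G}
    (ha : a ∈ A) (ha1 : a ≠ 1) {n t : G} (hn : n * n = 1) (hna : Commute n a)
    (hnS : ∀ x ∈ S, n * x * n ∈ S) (hts : ∀ x ∈ S, t * x * t⁻¹ ∈ S) (htq : ∃ m, t ^ q ^ m = 1)
    (hta : Commute t a) (htn : Commute t n)
    (hquad : ∀ u ∈ ⁅S, S⁆, Commute n u → Commute t ⁅t, u⁆) {g : G} (hg : g ∈ S ⊔ A) :
    Commute g t := by
  haveI := Fact.mk h.hq
  have hcen : ∀ z ∈ S, Commute a z → ∀ y ∈ S, Commute y z := fun z hz hza y hy =>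
    d.fixed_central h ha ha1 hz hza (Subgroup.mem_sup_left hy)
  have hDS : ⁅S, S⁆ ≤ S := Subgroup.commutator_le.mpr fun x hx y hy =>
    S.mul_mem (S.mul_mem (S.mul_mem hx hy) (S.inv_mem hx)) (S.inv_mem hy)
  have hclass : ∀ u ∈ ⁅S, S⁆, ∀ x ∈ S, Commute x u := fun u hu => (d.central h hab hu).1
  have hDa : ∀ u ∈ ⁅S, S⁆, Commute a u := fun u hu => (d.central h hab hu).2 a ha
  have hni := inv_eq_self hn
  have hnmul : ∀ x y, n * (x * y) * n = (n * x * n) * (n * y * n) := fun x y => by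
    rw [show (n * x * n) * (n * y * n) = n * x * (n * n) * y * n by group, hn]
    group
  have hninv : ∀ x, n * x⁻¹ * n = (n * x * n)⁻¹ := fun x => by
    rw [mul_inv_rev, mul_inv_rev, hni]; group
  let Pp : Subgroup G :=
    { carrier := {x | x ∈ S ∧ Commute a (x⁻¹ * (n * x * n))}
      one_mem' := ⟨one_mem _, by simp [hn]⟩
      mul_mem' := fun {x y} hx hy => by
        refine ⟨S.mul_mem hx.1 hy.1, ?_⟩
        set z := x⁻¹ * (n * x * n) with hz
        have hzS : z ∈ S := S.mul_mem (S.inv_mem hx.1) (hnS x hx.1)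
        have e : (x * y)⁻¹ * (n * (x * y) * n) = z * (y⁻¹ * (n * y * n)) := by
          rw [hnmul, mul_inv_rev, show y⁻¹ * x⁻¹ * ((n * x * n) * (n * y * n)) =
            y⁻¹ * z * (n * y * n) by rw [hz]; group, (hcen z hzS hx.2 y⁻¹ (S.inv_mem hy.1)).eq]
          group
        rw [e]
        exact hx.2.mul_right hy.2
      inv_mem' := fun {x} hx => by
        refine ⟨S.inv_mem hx.1, ?_⟩
        set z := x⁻¹ * (n * x * n) with hz
        have hzS : z ∈ S := S.mul_mem (S.inv_mem hx.1) (hnS x hx.1)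
        have e : x⁻¹⁻¹ * (n * x⁻¹ * n) = z⁻¹ := by
          rw [hninv, inv_inv, show (n * x * n)⁻¹ = z⁻¹ * x⁻¹ by rw [hz]; group, ← mul_assoc,
            (hcen z hzS hx.2 x hx.1).inv_right.eq, mul_inv_cancel_right]
        rw [e]
        exact hx.2.inv_right }
  let Pm : Subgroup G :=
    { carrier := {x | x ∈ S ∧ Commute a (x * (n * x * n))}
      one_mem' := ⟨one_mem _, by simp [hn]⟩
      mul_mem' := fun {x y} hx hy => by
        refine ⟨S.mul_mem hx.1 hy.1, ?_⟩
        set z := x * (n * x * n) with hz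
        have hzS : z ∈ S := S.mul_mem hx.1 (hnS x hx.1)
        have hcS : ⁅x, y⁆ ∈ ⁅S, S⁆ := Subgroup.commutator_mem_commutator hx.1 hy.1
        have e : (x * y) * (n * (x * y) * n) = ⁅x, y⁆ * (z * (y * (n * y * n))) := by
          rw [hnmul, show x * y * ((n * x * n) * (n * y * n)) =
            ⁅x, y⁆ * (y * z * (n * y * n)) by rw [hz, commutatorElement_def]; group,
            (hcen z hzS hx.2 y hy.1).eq]
          group
        rw [e]
        exact (hDa _ hcS).mul_right (hx.2.mul_right hy.2)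
      inv_mem' := fun {x} hx => by
        refine ⟨S.inv_mem hx.1, ?_⟩
        set z := x * (n * x * n) with hz
        have hzS : z ∈ S := S.mul_mem hx.1 (hnS x hx.1)
        have e : x⁻¹ * (n * x⁻¹ * n) = z⁻¹ := by
          rw [hninv, show (n * x * n)⁻¹ = z⁻¹ * x by rw [hz]; group, ← mul_assoc,
            (hcen z hzS hx.2 x⁻¹ (S.inv_mem hx.1)).inv_right.eq, inv_mul_cancel_right]
        rw [e]
        exact hx.2.inv_right }
  have hconj : ∀ s, Commute s a → Commute s n → ∀ x : G,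
      Commute a (x⁻¹ * (n * x * n)) →
        Commute a ((s * x * s⁻¹)⁻¹ * (n * (s * x * s⁻¹) * n)) := by
    intro s hsa hsn x hx
    have e : (s * x * s⁻¹)⁻¹ * (n * (s * x * s⁻¹) * n) = s * (x⁻¹ * (n * x * n)) * s⁻¹ := by
      calc (s * x * s⁻¹)⁻¹ * (n * (s * x * s⁻¹) * n)
          = s * x⁻¹ * s⁻¹ * ((n * s) * x * (s⁻¹ * n)) := by group
        _ = s * x⁻¹ * s⁻¹ * ((s * n) * x * (n * s⁻¹)) := by rw [hsn.eq, hsn.inv_left.eq]
        _ = _ := by group
    rw [e]
    exact (hsa.symm.mul_right hx).mul_right hsa.symm.inv_right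
  have hconj' : ∀ s, Commute s a → Commute s n → ∀ x : G,
      Commute a (x * (n * x * n)) →
        Commute a ((s * x * s⁻¹) * (n * (s * x * s⁻¹) * n)) := by
    intro s hsa hsn x hx
    have e : (s * x * s⁻¹) * (n * (s * x * s⁻¹) * n) = s * (x * (n * x * n)) * s⁻¹ := by
      calc (s * x * s⁻¹) * (n * (s * x * s⁻¹) * n)
          = s * x * s⁻¹ * ((n * s) * x * (s⁻¹ * n)) := by group
        _ = s * x * s⁻¹ * ((s * n) * x * (n * s⁻¹)) := by rw [hsn.eq, hsn.inv_left.eq]
        _ = _ := by group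
    rw [e]
    exact (hsa.symm.mul_right hx).mul_right hsa.symm.inv_right
  have hsub : ∀ P : Subgroup G, P ≤ S → (∀ x ∈ P, a * x * a⁻¹ ∈ P) → (∀ x ∈ P, t * x * t⁻¹ ∈ P) →
      (∀ x ∈ P, ∀ y ∈ P, Commute n ⁅x, y⁆) → ∀ x ∈ P, Commute a ⁅t, x⁆ := by
    intro P hPS hPa hPt hPn
    have hDD : ⁅P, P⁆ ≤ ⁅S, S⁆ := Subgroup.commutator_mono hPS hPS
    refine CfsgLib.PairClosed.commute_of_quadratic (q := q) h.q2 (d.grp.to_le hPS) hPa hPt htq hta
      (fun u hu x hx => hclass u (hDD hu) x (hPS hx))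
      (fun c hc hca x hx => hcen c (hPS hc) hca x (hPS hx)) ?_ ?_
    · intro x hx hnc
      by_contra hj
      push Not at hj
      exact hnc (d.anisotropic h hab ha ha1 (hPS hx) hj)
    · intro u hu
      refine hquad u (hDD hu) ?_
      have hle : ⁅P, P⁆ ≤ Subgroup.centralizer {n} := Subgroup.commutator_le.mpr fun x hx y hy =>
        Subgroup.mem_centralizer_singleton_iff.mpr (hPn x hx y hy).symm.eq
      exact (Subgroup.mem_centralizer_singleton_iff.mp (hle hu)).symm
  have hmulc : ∀ x ∈ S, ∀ y ∈ S, ∀ z ∈ S, ∀ z' ∈ S, Commute a z → Commute a z' →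
      ⁅x * z, y * z'⁆ = ⁅x, y⁆ := by
    intro x hx y hy z hz z' hz' hza hz'a
    have hzy := hcen z hz hza (y * z') (S.mul_mem hy hz')
    rw [commutatorElement_def, commutatorElement_def]
    calc x * z * (y * z') * (x * z)⁻¹ * (y * z')⁻¹
        = x * (z * (y * z') * z⁻¹) * x⁻¹ * (z'⁻¹ * y⁻¹) := by group
      _ = x * (y * z') * x⁻¹ * (z'⁻¹ * y⁻¹) := by rw [← hzy.eq, mul_inv_cancel_right]
      _ = x * y * (z' * x⁻¹ * z'⁻¹) * y⁻¹ := by group
      _ = x * y * x⁻¹ * y⁻¹ := by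
        rw [← (hcen z' hz' hz'a x⁻¹ (S.inv_mem hx)).eq, mul_inv_cancel_right]
  have hnc : ∀ x y : G, Commute n ⁅x, y⁆ ↔ ⁅n * x * n, n * y * n⁆ = ⁅x, y⁆ := by
    intro x y
    have e : ⁅n * x * n, n * y * n⁆ = n * ⁅x, y⁆ * n⁻¹ := by
      rw [show n * x * n = n * x * n⁻¹ by rw [hni], show n * y * n = n * y * n⁻¹ by rw [hni]]
      exact (map_commutatorElement (MulAut.conj n).toMonoidHom x y).symm
    rw [e, mul_inv_eq_iff_eq_mul]
    exact Iff.rfl
  have hplus : ∀ x ∈ Pp, Commute a ⁅t, x⁆ := by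
    refine hsub Pp (fun x hx => hx.1) (fun x hx => ⟨d.conj_inv ha hx.1, hconj a (Commute.refl a) hna.symm x hx.2⟩)
      (fun x hx => ⟨hts x hx.1, hconj t hta htn x hx.2⟩) fun x hx y hy => (hnc x y).mpr ?_
    rw [show n * x * n = x * (x⁻¹ * (n * x * n)) by group,
      show n * y * n = y * (y⁻¹ * (n * y * n)) by group]
    exact hmulc x hx.1 y hy.1 _ (S.mul_mem (S.inv_mem hx.1) (hnS x hx.1)) _
      (S.mul_mem (S.inv_mem hy.1) (hnS y hy.1)) hx.2 hy.2
  have hminus : ∀ x ∈ Pm, Commute a ⁅t, x⁆ := by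
    refine hsub Pm (fun x hx => hx.1) (fun x hx => ⟨d.conj_inv ha hx.1, hconj' a (Commute.refl a) hna.symm x hx.2⟩)
      (fun x hx => ⟨hts x hx.1, hconj' t hta htn x hx.2⟩) fun x hx y hy => (hnc x y).mpr ?_
    rw [show n * x * n = x⁻¹ * (x * (n * x * n)) by group,
      show n * y * n = y⁻¹ * (y * (n * y * n)) by group]
    rw [hmulc _ (S.inv_mem hx.1) _ (S.inv_mem hy.1) _ (S.mul_mem hx.1 (hnS x hx.1)) _
      (S.mul_mem hy.1 (hnS y hy.1)) hx.2 hy.2]
    have hc := hclass _ (Subgroup.commutator_mem_commutator hx.1 hy.1) ((y * x)⁻¹)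
      (S.inv_mem (S.mul_mem hy.1 hx.1))
    rw [show ⁅x⁻¹, y⁻¹⁆ = (y * x)⁻¹ * ⁅x, y⁆ * (y * x) by
      simp only [commutatorElement_def]; group, hc.eq, inv_mul_cancel_right]
  refine d.commute_of_diff h ha ha1 hta (fun x hx => ?_) hg
  have hbr : ∀ v ∈ S, ⁅t, v⁆ ∈ S := fun v hv => by
    rw [commutatorElement_def]
    exact S.mul_mem (hts v hv) (S.inv_mem hv)
  refine ⟨hbr x hx, ?_⟩
  set y := x⁻¹ * (n * x * n) with hy
  have hyS : y ∈ S := S.mul_mem (S.inv_mem hx) (hnS x hx)
  obtain ⟨m, hm⟩ := exists_pow_sq (h.odd_orderOf d.grp hyS)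
  set y' := y ^ m with hy'
  have hny : n * y * n = y⁻¹ := by
    calc n * y * n = (n * x⁻¹ * n) * (x * (n * n)) := by rw [hy]; group
      _ = (n * x * n)⁻¹ * x := by rw [hninv, hn, mul_one]
      _ = y⁻¹ := by rw [hy]; group
  have hny' : n * y' * n = y'⁻¹ := by
    calc n * y' * n = n * y ^ m * n⁻¹ := by rw [hy', hni]
      _ = (n * y * n⁻¹) ^ m := conj_pow.symm
      _ = y'⁻¹ := by rw [hni, hny, inv_pow]
  have hy'S : y' ∈ S := S.pow_mem hyS m
  have hnw : n * (x * y') * n = x * y' := by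
    rw [hnmul, hny', show n * x * n = x * y by rw [hy]; group, ← hm]
    group
  have hw : x * y' ∈ Pp := ⟨S.mul_mem hx hy'S, by
    rw [hnw, inv_mul_cancel]; exact Commute.one_right a⟩
  have hv : y'⁻¹ ∈ Pm := Pm.inv_mem ⟨hy'S, by rw [hny', mul_inv_cancel]; exact Commute.one_right a⟩
  have e : ⁅t, x⁆ = ⁅t, x * y'⁆ * ⁅t, y'⁻¹⁆ := by
    have hc := hcen _ (hbr _ hv.1) (hminus _ hv) (x * y') hw.1
    calc ⁅t, x⁆ = ⁅t, x * y'⁆ * ((x * y') * ⁅t, y'⁻¹⁆ * (x * y')⁻¹) := by
          simp only [commutatorElement_def]; group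
      _ = _ := by rw [hc.eq, mul_inv_cancel_right]
  rw [e]
  exact (hplus _ hw).mul_right (hminus _ hv)

end Data

namespace PairSys

variable (h : PairSys p q k ab D)

include h

/-- An involution preserves every subgroup generated by members that contains its fixed members. -/
theorem cj_le_of_fixed (hgen : sSup D = ⊤) {n : G} (hn : n * n = 1) {H : Subgroup G}
    (hH : Full D H) (hfix : ∀ C ∈ D, cj n C = C → C ≤ H) : cj n H ≤ H := by
  refine Subgroup.map_le_iff_le_comap.mpr (hH.trans (sSup_le fun B hB => ?_))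
  rw [← Subgroup.map_le_iff_le_comap]
  by_cases hmov : cj n B = B
  · exact hmov.le.trans hB.2
  obtain ⟨X, Q, L, hXf, -, hQ, hQ'⟩ := h.exists_line hgen hn hB.1 hmov
  exact ((le_sup_right.trans hQ'.ge).trans hQ.le).trans (sup_le (hfix X L.dat.mem hXf) hB.2)

/-- An inverted element of odd order centralising the fixed members preserves such subgroups. -/
theorem cj_le_of_inverted (hgen : sSup D = ⊤) {n : G} (hn : n * n = 1) {u : G}
    (hu : n * u * n = u⁻¹) (hodd : Odd (orderOf u))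
    (hcomm : ∀ x ∈ fixedSub D n, Commute x u) {H : Subgroup G} (hH : Full D H)
    (hle : fixedSub D n ≤ H) : cj u H ≤ H := by
  obtain ⟨m, hm⟩ := exists_pow_sq hodd
  set v := u ^ m with hv
  have hni := inv_eq_self hn
  have hnv : n * v * n = v⁻¹ := by
    calc n * v * n = n * u ^ m * n⁻¹ := by rw [hv, hni]
      _ = (n * u * n⁻¹) ^ m := conj_pow.symm
      _ = v⁻¹ := by rw [hni, hu, inv_pow]
  have hnv' : n * v⁻¹ * n = v := by
    rw [← hnv, show n * (n * v * n) * n = n * n * v * (n * n) by group, hn, one_mul, mul_one]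
  set j := v * n * v⁻¹ with hj
  have hjj : j * j = 1 := by
    rw [hj, show v * n * v⁻¹ * (v * n * v⁻¹) = v * (n * n) * v⁻¹ by group, hn, mul_one,
      mul_inv_cancel]
  have hfix : ∀ C ∈ D, cj j C = C → C ≤ H := by
    intro C hC hCj
    have hC0 : cj n (cj v⁻¹ C) = cj v⁻¹ C := by
      conv_rhs => rw [← hCj]
      rw [← cj_mul, ← cj_mul, hj]
      congr 1
      group
    intro x hx
    have h0 : v⁻¹ * x * v⁻¹⁻¹ ∈ fixedSub D n :=
      le_fixedSub (h.conj C hC _) hC0 (conj_mem_cj hx)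
    have hc := (hcomm _ h0).pow_right m
    rw [← hv] at hc
    have e : v * (v⁻¹ * x * v⁻¹⁻¹) * v⁻¹ = x := by group
    rw [← e, ← hc.eq, mul_inv_cancel_right]
    exact hle h0
  have e : u = j * n := by
    rw [hj, show v * n * v⁻¹ * n = v * (n * v⁻¹ * n) by group, hnv', hm]
  rw [e, cj_mul]
  exact (Subgroup.map_mono (h.cj_le_of_fixed hgen hn hH fun C hC hCn =>
    (le_fixedSub hC hCn).trans hle)).trans (h.cj_le_of_fixed hgen hjj hH hfix)

end PairSys

end CfsgLib.PairClosed
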