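import Cfsg.Agent.PairClosed.Kernel

/-!
# Elements of a kernel commuting with its member

* `Data.kernel_abelian_of_pair`: in the abelian case the kernel of a pair is abelian.
* `Data.commute_trivial`: in the abelian case the only element of a kernel commuting with the member
  is `1`.
* `Data.fixed_central`: in both cases such an element commutes with all of `S ⊔ A`.
-/

set_option autoImplicit false
set_option linter.style.haveILetI false
set_option maxHeartbeats 400000

namespace CfsgLib.PairClosed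

open scoped commutatorElement

universe u

variable {G : Type u} [Group G] [Finite G] {p q k : ℕ} {ab : Prop} {D : Set (Subgroup G)}
  (h : PairSys p q k ab D)

include h

theorem PairSys.pair_trivial (hab : ab) {A B Q : Subgroup G} (hA : A ∈ D) (hB : B ∈ D)
    (hne : A ≠ B) (K : Kern q Q A) (hQ : Q ⊔ A = A ⊔ B) {a z : G} (ha : a ∈ A) (ha1 : a ≠ 1)
    (hz : z ∈ Q) (hc : Commute a z) : z = 1 := by
  have d : Data D q Q A := ⟨K, hA, hQ ▸ full_pair hA hB⟩
  have hcomm := (h.pair_ab A hA B hB hne).mpr hab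
  have h1 : ⁅Q, Q⁆ = ⊥ := by
    rw [eq_bot_iff, Subgroup.commutator_le]
    intro x hx y hy
    rw [Subgroup.mem_bot, commutatorElement_eq_one_iff_commute]
    rw [d.kernel_eq_commutator h, hQ] at hx hy
    exact hcomm x hx y hy
  exact Subgroup.mem_bot.mp (h1 ▸ d.mem_commutator h ha ha1 hz hc)

theorem Data.commute_trivial {S A : Subgroup G} (d : Data D q S A) (hab : ab) {a : G} (ha : a ∈ A)
    (ha1 : a ≠ 1) {s : G} (hs : s ∈ S) (hc : Commute a s) : s = 1 := by
  have hinv := fun {b : G} (hb : b ∈ A) {t : G} (ht : t ∈ S) => d.conj_inv hb ht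
  let f : ℕ → G → G := fun i z => z * a ^ i * z⁻¹ * (a ^ i)⁻¹
  have hf : ∀ i, ∀ z ∈ S, f i z ∈ S := fun i z hz => by
    have := S.mul_mem hz (hinv (A.pow_mem ha i) (S.inv_mem hz))
    simpa [f, mul_assoc] using this
  have hodd : a = (a ^ 2) ^ ((p + 1) / 2) := by
    obtain ⟨m, hm⟩ := h.hp.odd_of_ne_two h.p2
    rw [← pow_mul, show 2 * ((p + 1) / 2) = p + 1 by omega, pow_succ,
      ← h.orderOf_eq d.mem ha ha1, pow_orderOf_eq_one, one_mul]
  have hc2 : ∀ z, Commute (a ^ 2) z → Commute a z := fun z hz => by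
    rw [hodd]; exact hz.pow_left _
  have hfeq : ∀ i y z, f i y = f i z ↔ Commute (a ^ i) (z⁻¹ * y) := by
    intro i y z
    simp only [f, mul_left_inj]
    constructor
    · intro e
      show a ^ i * (z⁻¹ * y) = z⁻¹ * y * a ^ i
      calc a ^ i * (z⁻¹ * y) = z⁻¹ * (z * a ^ i * z⁻¹) * y := by group
        _ = z⁻¹ * (y * a ^ i * y⁻¹) * y := by rw [e]
        _ = z⁻¹ * y * a ^ i := by group
    · intro e
      calc y * a ^ i * y⁻¹ = z * ((z⁻¹ * y) * a ^ i) * y⁻¹ := by group
        _ = z * (a ^ i * (z⁻¹ * y)) * y⁻¹ := by rw [e.eq]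
        _ = z * a ^ i * z⁻¹ := by group
  -- a product of two conjugates of `a` is a conjugate of `a ^ 2`
  have hprod : ∀ w ∈ S, ∃ z ∈ S, a * (w * a * w⁻¹) = z * a ^ 2 * z⁻¹ := by
    intro w hw
    by_cases he : cj w A = A
    · refine ⟨1, one_mem _, ?_⟩
      rw [← (h.commute_of_cj_eq d.mem d.toKern hw ha he).eq]
      simp [pow_two, mul_assoc]
    obtain ⟨Q, KQ, hQ⟩ := h.exists_pair_kernel d.mem (h.conj A d.mem w) (Ne.symm he)
    have hQS : Q ≤ S := d.pair_kernel_le h (cj_le (Subgroup.mem_sup_left hw) le_sup_right) KQ hQ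
    have hm : w * a * w⁻¹ ∈ Q ⊔ A := hQ ▸ Subgroup.mem_sup_right (conj_mem_cj ha)
    obtain ⟨r, hr, b, hb, e⟩ := KQ.mem_sup hm
    have hb' : b * a⁻¹ = r⁻¹ * f 1 w := by
      simp only [f, pow_one]
      rw [e]
      group
    have hba : b = a := mul_inv_eq_one.mp (h.eq_one_of_mem_of_qgroup d.mem d.grp
      (A.mul_mem hb (A.inv_mem ha)) (hb' ▸ S.mul_mem (S.inv_mem (hQS hr)) (hf 1 w hw)))
    have hQ2 : ∀ z : Q, (z : G) * a ^ 2 * (z : G)⁻¹ * (a ^ 2)⁻¹ ∈ Q := fun z => by
      have := Q.mul_mem z.2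
        ((Subgroup.mem_normalizer_iff.mp (KQ.nrm (A.pow_mem ha 2)) _).mp (Q.inv_mem z.2))
      simpa [mul_assoc] using this
    let g : Q → Q := fun z => ⟨_, hQ2 z⟩
    have hinj : Function.Injective g := fun y z e' => by
      have := (hfeq 2 y z).mp (congrArg Subtype.val e')
      have h1 := h.pair_trivial hab d.mem (h.conj A d.mem w) (Ne.symm he) KQ hQ ha ha1
        (Q.mul_mem (Q.inv_mem z.2) y.2) (hc2 _ this)
      exact Subtype.ext (inv_mul_eq_one.mp h1).symm
    obtain ⟨z, hz⟩ := (Finite.injective_iff_surjective.mp hinj)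
      ⟨a * r * a⁻¹, (Subgroup.mem_normalizer_iff.mp (KQ.nrm ha) r).mp hr⟩
    refine ⟨z, hQS z.2, ?_⟩
    have hz' : (z : G) * a ^ 2 * (z : G)⁻¹ * (a ^ 2)⁻¹ = a * r * a⁻¹ := congrArg Subtype.val hz
    calc a * (w * a * w⁻¹) = (a * r * a⁻¹) * a ^ 2 := by rw [e, hba, pow_two]; group
      _ = (z : G) * a ^ 2 * (z : G)⁻¹ := by rw [← hz']; group
  let R : ℕ → Set G := fun i => f i '' (S : Set G)
  have hsub : ∀ x ∈ S, ∀ y ∈ S, f 1 x * (a * f 1 y * a⁻¹) ∈ R 2 := by
    intro x hx y hy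
    obtain ⟨z, hz, e⟩ := hprod (x⁻¹ * y) (S.mul_mem (S.inv_mem hx) hy)
    refine ⟨x * z, S.mul_mem hx hz, ?_⟩
    simp only [f, pow_one]
    calc x * z * a ^ 2 * (x * z)⁻¹ * (a ^ 2)⁻¹
        = x * (z * a ^ 2 * z⁻¹) * x⁻¹ * (a ^ 2)⁻¹ := by group
      _ = x * (a * (x⁻¹ * y * a * (x⁻¹ * y)⁻¹)) * x⁻¹ * (a ^ 2)⁻¹ := by rw [e]
      _ = _ := by rw [pow_two]; group
  have hcard : (R 2).ncard ≤ (R 1).ncard := by
    classical
    let φ : G → G := fun v => if hv : v ∈ R 1 then f 2 hv.choose else 1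
    refine (Set.ncard_le_ncard (t := φ '' R 1) ?_ (Set.toFinite _)).trans (Set.ncard_image_le (Set.toFinite _))
    rintro _ ⟨z, hz, rfl⟩
    have hv : f 1 z ∈ R 1 := ⟨z, hz, rfl⟩
    refine ⟨f 1 z, hv, ?_⟩
    show φ (f 1 z) = f 2 z
    simp only [φ, dif_pos hv]
    rw [hfeq]
    have := (hfeq 1 hv.choose z).mp hv.choose_spec.2
    rw [pow_one] at this
    exact this.pow_left 2
  have hone : (1 : G) ∈ R 1 := ⟨1, one_mem _, by simp [f]⟩
  have heq : ∀ u ∈ R 1, (fun v => v * (a * u * a⁻¹)) '' R 1 = R 2 := by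
    rintro _ ⟨y, hy, rfl⟩
    refine Set.eq_of_subset_of_ncard_le ?_ ?_ (Set.toFinite _)
    · rintro _ ⟨_, ⟨x, hx, rfl⟩, rfl⟩
      exact hsub x hx y hy
    · rw [Set.ncard_image_of_injective _ (mul_left_injective _)]
      exact hcard
  have h12 : R 1 = R 2 := by simpa using heq 1 hone
  let K : Subgroup G :=
    { carrier := {g | (fun v => v * g) '' R 1 = R 1}
      one_mem' := by simp
      mul_mem' := fun {g g'} hg hg' => by
        show (fun v => v * (g * g')) '' R 1 = R 1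
        rw [show (fun v => v * (g * g')) = (fun v => v * g') ∘ (fun v => v * g) from
          funext fun v => (mul_assoc v g g').symm, Set.image_comp, hg, hg']
      inv_mem' := fun {g} hg => by
        show (fun v => v * g⁻¹) '' R 1 = R 1
        nth_rewrite 1 [← hg]
        rw [← Set.image_comp]
        simp }
  have hSR : S ≤ Subgroup.closure (R 1) := by
    refine (d.genBy h ha ha1).gen.trans (Subgroup.closure_mono ?_)
    rintro _ ⟨t, ht, rfl⟩
    exact ⟨t, ht, by simp [f]⟩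
  have hSK : ∀ t ∈ S, t ∈ R 1 := by
    intro t ht
    have h1 : a⁻¹ * t * a ∈ Subgroup.closure (R 1) := hSR (by
      simpa using hinv (A.inv_mem ha) ht)
    have h2 : Subgroup.closure (R 1) ≤ K.comap (MulAut.conj a).toMonoidHom :=
      (Subgroup.closure_le _).mpr fun u hu => by
        show (fun v => v * (a * u * a⁻¹)) '' R 1 = R 1
        rw [heq u hu, h12]
    have h3 : (fun v => v * t) '' R 1 = R 1 := by
      have h4 : a * (a⁻¹ * t * a) * a⁻¹ ∈ K := h2 h1
      rw [show a * (a⁻¹ * t * a) * a⁻¹ = t by group] at h4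
      exact h4
    rw [← h3]
    exact ⟨1, hone, one_mul t⟩
  let g : S → S := fun z => ⟨f 1 z, hf 1 z z.2⟩
  have hgs : Function.Surjective g := fun t => by
    obtain ⟨z, hz, e⟩ := hSK t t.2
    exact ⟨⟨z, hz⟩, Subtype.ext e⟩
  have hgi := Finite.injective_iff_surjective.mpr hgs
  have h0 : g ⟨s, hs⟩ = g 1 := Subtype.ext ((hfeq 1 s 1).mpr (by simpa using hc))
  exact congrArg Subtype.val (hgi h0)

/-- An element of the kernel commuting with the member commutes with the whole group. -/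
theorem Data.fixed_central {S A : Subgroup G} (d : Data D q S A) {a : G} (ha : a ∈ A)
    (ha1 : a ≠ 1) {s : G} (hs : s ∈ S) (hc : Commute a s) {g : G} (hg : g ∈ S ⊔ A) :
    Commute g s := by
  by_cases hab : ab
  · rw [d.commute_trivial h hab ha ha1 hs hc]
    exact Commute.one_right g
  · obtain ⟨t, ht, b, hb, rfl⟩ := d.toKern.mem_sup hg
    have hcen := d.central h hab (d.mem_commutator h ha ha1 hs hc)
    exact (hcen.1 t ht).mul_left (hcen.2 b hb)

end CfsgLib.PairClosed
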