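import Cfsg.Prelude.Def_Solvable
import Cfsg.Agent.Eq.Def_Solvable
import Cfsg.Agent.PairClosed.Fixed

/-!
# The quotient by the centre in the solvable case

`PairSys.quotient_center`: a nonabelian solvable group generated by the members has a quotient by the
centre of odd order with a Frobenius complement.
-/

set_option autoImplicit false
set_option linter.style.haveILetI false
set_option maxHeartbeats 400000

namespace CfsgLib.PairClosed

open scoped Pointwise

universe u

variable {G : Type u} [Group G] [Finite G] {p q k : ℕ} {ab : Prop} {D : Set (Subgroup G)}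

theorem PairSys.quotient_center [Group.IsSolvable G] (h : PairSys p q k ab D) (hgen : sSup D = ⊤)
    (hG : ¬ IsMulCommutative G) :
    Odd (Nat.card (G ⧸ Subgroup.center G)) ∧
      ∃ H : Subgroup (G ⧸ Subgroup.center G), Cfsg.IsFrobeniusComplement H := by
  haveI := Fact.mk h.hp
  haveI := Fact.mk h.hq
  obtain ⟨A, hA⟩ : D.Nonempty := by
    rcases D.eq_empty_or_nonempty with h0 | h0
    · exfalso
      apply hG
      rw [h0, sSup_empty] at hgen
      exact ⟨⟨fun x y => by
        have hx : x ∈ (⊥ : Subgroup G) := hgen ▸ Subgroup.mem_top x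
        rw [Subgroup.mem_bot.mp hx, one_mul, mul_one]⟩⟩
    · exact h0
  obtain ⟨a, ha, ha1⟩ := h.exists_mem_ne_one hA
  obtain ⟨S, hSn, hK, hsup⟩ := h.exists_kernel_of_solvable hgen hA
  have d : Data D q S A := ⟨hK, hA, by
    rw [hsup]
    intro x hx
    rw [show {C | C ∈ D ∧ C ≤ (⊤ : Subgroup G)} = D by simp, hgen]
    exact hx⟩
  set Z := Subgroup.center G with hZ
  have hfix : ∀ s ∈ S, Commute a s → s ∈ Z := fun s hs hc =>
    Subgroup.mem_center_iff.mpr fun g =>
      (d.fixed_central h ha ha1 hs hc (hsup ▸ Subgroup.mem_top g)).eq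
  have hSA : S ⊓ A = ⊥ := by
    rw [eq_bot_iff]
    exact fun x hx => Subgroup.mem_bot.mpr (h.eq_one_of_mem_of_qgroup hA hK.grp hx.2 hx.1)
  have hcard : Nat.card G = Nat.card S * p := by
    rw [← h.card A hA]
    exact (Subgroup.isComplement'_of_disjoint_and_mul_eq_univ (disjoint_iff.mpr hSA)
      (by rw [← Subgroup.coe_mul_of_right_le_normalizer_left S A hK.nrm, hsup, Subgroup.coe_top])).card_mul_card.symm
  have hodd : Odd (Nat.card G) := by
    obtain ⟨m, hm⟩ := hK.grp.exists_card_eq
    rw [hcard, hm]
    exact (h.hq.odd_of_ne_two h.q2).pow.mul (h.hp.odd_of_ne_two h.p2)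
  refine ⟨hodd.of_dvd_nat Z.card_quotient_dvd_card, A.map (QuotientGroup.mk' Z), ?_, ?_, ?_⟩
  · intro h0
    rw [Subgroup.map_eq_bot_iff, QuotientGroup.ker_mk'] at h0
    apply hG
    refine ⟨⟨fun x y => ?_⟩⟩
    have hle : (⊤ : Subgroup G) ≤ Z := by
      rw [← hgen]
      refine sSup_le fun C hC => ?_
      obtain ⟨g, rfl⟩ := h.members_conj hA hC
      rintro _ ⟨b, hb, rfl⟩
      have := Subgroup.mem_center_iff.mp (h0 hb) g
      show g * b * g⁻¹ ∈ Z
      rw [this, mul_inv_cancel_right]
      exact h0 hb
    exact Subgroup.mem_center_iff.mp (hle (Subgroup.mem_top y)) x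
  · intro h0
    apply hG
    -- the kernel is then central
    have hS : ∀ s ∈ S, s ∈ Z := by
      intro s hs
      obtain ⟨b, hb, e⟩ : QuotientGroup.mk' Z s ∈ A.map (QuotientGroup.mk' Z) := h0 ▸ Subgroup.mem_top _
      have hz : b⁻¹ * s ∈ Z := QuotientGroup.eq.mp e
      refine hfix s hs ?_
      obtain ⟨j, rfl⟩ := Subgroup.mem_zpowers_iff.mp
        (show b ∈ Subgroup.zpowers a by rw [h.zpowers_eq hA ha ha1]; exact hb)
      have h1 : Commute a ((a ^ j) * ((a ^ j)⁻¹ * s)) :=
        ((Commute.refl a).zpow_right j).mul_right (Subgroup.mem_center_iff.mp hz a)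
      rwa [mul_inv_cancel_left] at h1
    refine ⟨⟨fun x y => ?_⟩⟩
    obtain ⟨s, hs, b, hb, rfl⟩ := hK.mem_sup (hsup ▸ Subgroup.mem_top x : x ∈ S ⊔ A)
    obtain ⟨t, ht, c, hc, rfl⟩ := hK.mem_sup (hsup ▸ Subgroup.mem_top y : y ∈ S ⊔ A)
    have hbc : Commute b c := by
      rw [← h.zpowers_eq hA ha ha1] at hb hc
      obtain ⟨i, rfl⟩ := Subgroup.mem_zpowers_iff.mp hb
      obtain ⟨j, rfl⟩ := Subgroup.mem_zpowers_iff.mp hc
      exact (Commute.refl a).zpow_zpow i j
    have hs' : ∀ w, Commute s w := fun w => (Subgroup.mem_center_iff.mp (hS s hs) w).symm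
    have ht' : ∀ w, Commute t w := fun w => (Subgroup.mem_center_iff.mp (hS t ht) w).symm
    exact (((hs' _).mul_left ((ht' b).symm.mul_right hbc)) : Commute (s * b) (t * c)).eq
  · intro g hg
    rw [eq_bot_iff]
    intro x hx
    obtain ⟨⟨b, hb, rfl⟩, hx2⟩ := Subgroup.mem_inf.mp hx
    obtain ⟨g', rfl⟩ := QuotientGroup.mk'_surjective Z g
    rw [Subgroup.mem_pointwise_smul_iff_inv_smul_mem] at hx2
    obtain ⟨c, hc, e⟩ := hx2
    rw [MulAut.smul_def, ← map_inv, MulAut.conj_apply] at e
    rw [Subgroup.mem_bot]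
    by_contra hb1
    have hb1' : b ≠ 1 := fun h1 => hb1 (by rw [h1, map_one])
    obtain ⟨s, hs, a', ha', rfl⟩ := hK.mem_sup (hsup ▸ Subgroup.mem_top g' : g' ∈ S ⊔ A)
    -- `c` is congruent to the conjugate of `b`
    have hz : c⁻¹ * (a'⁻¹ * (s⁻¹ * b * s) * a') ∈ Z := by
      refine QuotientGroup.eq.mp ?_
      show QuotientGroup.mk' Z c = QuotientGroup.mk' Z _
      rw [e]
      simp only [map_mul, map_inv, inv_inv, mul_inv_rev]
      group
    have hz2 : c⁻¹ * (s⁻¹ * b * s) ∈ Z := by
      have hca : Commute a' c := by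
        rw [← h.zpowers_eq hA ha ha1] at ha' hc
        obtain ⟨i, rfl⟩ := Subgroup.mem_zpowers_iff.mp ha'
        obtain ⟨j, rfl⟩ := Subgroup.mem_zpowers_iff.mp hc
        exact (Commute.refl a).zpow_zpow i j
      have h1 := (inferInstance : Z.Normal).conj_mem _ hz a'
      convert h1 using 1
      calc c⁻¹ * (s⁻¹ * b * s) = c⁻¹ * a' * (a'⁻¹ * (s⁻¹ * b * s) * a') * a'⁻¹ := by group
        _ = a' * c⁻¹ * (a'⁻¹ * (s⁻¹ * b * s) * a') * a'⁻¹ := by rw [hca.inv_right.eq]
        _ = _ := by group
    -- so `s` normalises the cyclic group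
    have hsb : Commute b s := by
      have hd : s⁻¹ * b * s * b⁻¹ ∈ S := by
        simpa [mul_assoc] using S.mul_mem (S.inv_mem hs) (d.conj_inv hb hs)
      set z := c⁻¹ * (s⁻¹ * b * s) with hzdef
      have hcz : Commute c z := Subgroup.mem_center_iff.mp hz2 c
      have hcb : c = b := by
        -- compare the images modulo `S`
        obtain ⟨m, hm⟩ := hK.grp.exists_card_eq
        have hzp : z ^ p = 1 := by
          have hb' : (s⁻¹ * b * s) ^ p = 1 := by
            rw [show s⁻¹ * b * s = s⁻¹ * b * (s⁻¹)⁻¹ by group, conj_pow,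
              ← h.orderOf_eq hA hb hb1', pow_orderOf_eq_one]
            group
          have hc' : c ^ p = 1 := by
            rw [← h.card A hA]; exact (congrArg Subtype.val (pow_card_eq_one' (x := (⟨c, hc⟩ : A))))
          have h2 : (c * z) ^ p = 1 := by rwa [hzdef, mul_inv_cancel_left]
          rwa [hcz.mul_pow, hc', one_mul] at h2
        have hzA : z = c⁻¹ * ((s⁻¹ * b * s * b⁻¹) * b) := by rw [hzdef]; group
        have hzS : b⁻¹ * (c * z) ∈ S := by
          rw [hzdef, mul_inv_cancel_left]
          have := d.conj_inv (A.inv_mem hb) hd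
          simpa [mul_assoc] using this
        -- a central element of order dividing `p` is trivial
        have hz1 : z = 1 := by
          by_contra hzne
          obtain ⟨r, hr, w, hw, er⟩ := hK.mem_sup (hsup ▸ Subgroup.mem_top z : z ∈ S ⊔ A)
          have hzop : orderOf z = p := orderOf_eq_prime hzp hzne
          by_cases hw1 : w = 1
          · rw [hw1, mul_one] at er
            obtain ⟨j, hj⟩ := IsPGroup.iff_orderOf.mp hK.grp ⟨z, er ▸ hr⟩
            rw [Subgroup.orderOf_mk, hzop] at hj
            exact h.ne ((Nat.prime_dvd_prime_iff_eq h.hp h.hq).mp (h.hp.dvd_of_dvd_pow (dvd_of_eq hj)))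
          · -- then `G` is generated by `S` and a central element
            apply hG
            have hall : ∀ t ∈ S, t ∈ Z := by
              intro t ht
              have hzt : Commute z t := (Subgroup.mem_center_iff.mp hz2 t).symm
              have hrw : Commute a r := by
                have h3 : Commute a (r * w) := er ▸ Subgroup.mem_center_iff.mp hz2 a
                have h4 : Commute a w := by
                  obtain ⟨j, rfl⟩ := Subgroup.mem_zpowers_iff.mp
                    (show w ∈ Subgroup.zpowers a by rw [h.zpowers_eq hA ha ha1]; exact hw)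
                  exact (Commute.refl a).zpow_right j
                simpa using h3.mul_right h4.inv_right
              have hwt : Commute w t := by
                have h5 : Commute r t := (Subgroup.mem_center_iff.mp (hfix r hr hrw) t).symm
                have := h5.inv_left.mul_left (er ▸ hzt : Commute (r * w) t)
                simpa using this
              exact hfix t ht (d.commute_pow h hw hw1 hwt ha)
            refine ⟨⟨fun x y => ?_⟩⟩
            obtain ⟨t, ht, b', hb', rfl⟩ := hK.mem_sup (hsup ▸ Subgroup.mem_top x : x ∈ S ⊔ A)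
            obtain ⟨t', ht', c', hc', rfl⟩ := hK.mem_sup (hsup ▸ Subgroup.mem_top y : y ∈ S ⊔ A)
            have hbc : Commute b' c' := by
              rw [← h.zpowers_eq hA ha ha1] at hb' hc'
              obtain ⟨i, rfl⟩ := Subgroup.mem_zpowers_iff.mp hb'
              obtain ⟨j, rfl⟩ := Subgroup.mem_zpowers_iff.mp hc'
              exact (Commute.refl a).zpow_zpow i j
            have hs' : ∀ v, Commute t v := fun v => (Subgroup.mem_center_iff.mp (hall t ht) v).symm
            have ht'' : ∀ v, Commute t' v := fun v => (Subgroup.mem_center_iff.mp (hall t' ht') v).symm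
            exact (((hs' _).mul_left ((ht'' b').symm.mul_right hbc)) : Commute (t * b') (t' * c')).eq
        rw [hz1, mul_one] at hzS
        exact (eq_of_inv_mul_eq_one
          (h.eq_one_of_mem_of_qgroup hA hK.grp (A.mul_mem (A.inv_mem hb) hc) hzS)).symm
      have h1 : s⁻¹ * b * s * b⁻¹ ∈ Z := by
        rw [hzdef, hcb] at hz2
        have := (inferInstance : Z.Normal).conj_mem _ hz2 b
        simpa [mul_assoc] using this
      -- a central commutator with `b` is trivial
      set e := s⁻¹ * b * s * b⁻¹ with he'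
      have hpow : e ^ p = 1 := by
        have hbe : Commute e b := (Subgroup.mem_center_iff.mp h1 b).symm
        have h2 : (e * b) ^ p = 1 := by
          rw [he', inv_mul_cancel_right, show s⁻¹ * b * s = s⁻¹ * b * (s⁻¹)⁻¹ by group, conj_pow,
            ← h.orderOf_eq hA hb hb1', pow_orderOf_eq_one]
          group
        rw [hbe.mul_pow, ← h.orderOf_eq hA hb hb1', pow_orderOf_eq_one, mul_one,
          h.orderOf_eq hA hb hb1'] at h2
        exact h2
      have he1 : e = 1 := eq_one_of_pow_mem_pgroup hK.grp hd hpow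
        fun hd' => h.not_q_dvd_p hd'
      show b * s = s * b
      calc b * s = s * e * b := by rw [he']; group
        _ = s * b := by rw [he1, mul_one]
    apply hg
    refine ⟨a', ha', ?_⟩
    symm
    rw [QuotientGroup.mk'_eq_mk']
    refine ⟨s⁻¹, inv_mem (hfix s hs (d.commute_pow h hb hb1' hsb ha)), ?_⟩
    rw [mul_assoc, Subgroup.mem_center_iff.mp
      (inv_mem (hfix s hs (d.commute_pow h hb hb1' hsb ha))) a', mul_inv_cancel_left]
    
end CfsgLib.PairClosed
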