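import Mathlib.FieldTheory.Finite.Basic
import Cfsg.Agent.PairClosed.Fixed

/-!
# Parity in a group generated by members

* `PairSys.members_odd`: a pair contains an odd number of members.
* `PairSys.class_odd`: the class has odd cardinality.
* `PairSys.centralizes_fixed`: an involution normalising a member of a generating class centralises it.
-/

set_option autoImplicit false
set_option linter.style.haveILetI false
set_option maxHeartbeats 400000

namespace CfsgLib.PairClosed

universe u

variable {G : Type u} [Group G]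

/-- An involutive map of a finite set of odd cardinality into itself has a fixed point. -/
theorem exists_fixed_of_odd {α : Type*} (s : Finset α) (f : α → α) (hmem : ∀ x ∈ s, f x ∈ s)
    (hinv : ∀ x ∈ s, f (f x) = x) (hodd : Odd s.card) : ∃ x ∈ s, f x = x := by
  by_contra hcon
  push Not at hcon
  have h0 : ∑ _x ∈ s, (1 : ZMod 2) = 0 :=
    Finset.sum_involution (fun x _ => f x) (fun _ _ => rfl) (fun x hx _ => hcon x hx)
      (fun x hx => hmem x hx) (fun x hx => hinv x hx)
  rw [Finset.sum_const, nsmul_one, ZMod.natCast_eq_zero_iff_even] at h0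
  exact Nat.not_even_iff_odd.mpr hodd h0

theorem cj_involutive {n : G} (hn : n * n = 1) (B : Subgroup G) : cj n (cj n B) = B := by
  rw [← cj_mul, hn, cj_one]

variable [Finite G] {p q k : ℕ} {ab : Prop} {D : Set (Subgroup G)} (h : PairSys p q k ab D)

include h

theorem PairSys.members_odd {A B : Subgroup G} (hA : A ∈ D) (hB : B ∈ D) (hne : A ≠ B) :
    Odd (Set.ncard {C | C ∈ D ∧ C ≤ A ⊔ B}) := by
  obtain ⟨Q, KQ, hQ⟩ := h.exists_pair_kernel hA hB hne
  have d : Data D q Q A := ⟨KQ, hA, hQ ▸ full_pair hA hB⟩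
  let C0 : Subgroup Q :=
    { carrier := {s | cj (s : G) A = A}
      one_mem' := cj_one A
      mul_mem' := fun {s t} hs ht => by
        show cj ((s : G) * t) A = A
        rw [cj_mul]
        exact (congrArg (cj (s : G)) ht).trans hs
      inv_mem' := fun {s} hs => by
        show cj (s : G)⁻¹ A = A
        have := congrArg (cj (s : G)⁻¹) hs
        rw [← cj_mul, inv_mul_cancel, cj_one] at this
        exact this.symm }
  have hwd : ∀ s t : Q, s⁻¹ * t ∈ C0 → cj (s : G) A = cj (t : G) A := by
    intro s t hst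
    have h1 : cj ((s : G)⁻¹ * t) A = A := hst
    calc cj (s : G) A = cj (s : G) (cj ((s : G)⁻¹ * t) A) := by rw [h1]
      _ = cj (t : G) A := by rw [← cj_mul, mul_inv_cancel_left]
  let φ : Q ⧸ C0 → {C | C ∈ D ∧ C ≤ A ⊔ B} := Quotient.lift
    (fun s => ⟨cj (s : G) A, h.conj A hA s,
      cj_le (hQ ▸ Subgroup.mem_sup_left s.2) le_sup_left⟩)
    (fun s t hst => Subtype.ext (hwd s t (QuotientGroup.leftRel_apply.mp hst)))
  have hbij : Function.Bijective φ := by
    constructor
    · intro x y
      induction x using QuotientGroup.induction_on with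
      | _ s => induction y using QuotientGroup.induction_on with
        | _ t =>
          intro e
          have e' : cj (s : G) A = cj (t : G) A := congrArg Subtype.val e
          refine QuotientGroup.eq.mpr ?_
          show cj ((s : G)⁻¹ * t) A = A
          rw [cj_mul, ← e', ← cj_mul, inv_mul_cancel, cj_one]
    · rintro ⟨C, hC, hle⟩
      obtain ⟨s, hs, e⟩ := d.conj_member h hC (hQ.symm ▸ hle)
      exact ⟨(⟨s, hs⟩ : Q), Subtype.ext e⟩
  rw [← Nat.card_coe_set_eq, ← Nat.card_congr (Equiv.ofBijective φ hbij)]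
  haveI := Fact.mk h.hq
  obtain ⟨m, hm⟩ := KQ.grp.exists_card_eq
  exact ((h.hq.odd_of_ne_two h.q2).pow (n := m)).of_dvd_nat (hm ▸ C0.card_quotient_dvd_card)

theorem PairSys.class_odd {A : Subgroup G} (hA : A ∈ D) : Odd D.ncard := by
  classical
  have hsplit : D.ncard = (D \ {A}).ncard + 1 :=
    (Set.ncard_sdiff_singleton_add_one hA (Set.toFinite D)).symm
  rw [hsplit]
  refine Even.add_one ?_
  rw [Set.ncard_eq_toFinset_card _ (Set.toFinite _),
    Finset.card_eq_sum_card_image (fun B => A ⊔ B)]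
  refine Finset.even_sum _ fun U hU => ?_
  obtain ⟨B, hB, rfl⟩ := Finset.mem_image.mp hU
  rw [Set.Finite.mem_toFinset, Set.mem_sdiff, Set.mem_singleton_iff] at hB
  have hset : ↑((Set.toFinite (D \ {A})).toFinset.filter fun C => A ⊔ C = A ⊔ B) =
      {C | C ∈ D ∧ C ≤ A ⊔ B} \ {A} := by
    ext C
    simp only [Finset.coe_filter, Set.Finite.mem_toFinset, Set.mem_sdiff, Set.mem_singleton_iff,
      Set.mem_ofPred_eq]
    constructor
    · rintro ⟨⟨hC, hCA⟩, e⟩
      exact ⟨⟨hC, e ▸ le_sup_right⟩, hCA⟩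
    · rintro ⟨⟨hC, hle⟩, hCA⟩
      refine ⟨⟨hC, hCA⟩, Subgroup.eq_of_le_of_card_ge (sup_le le_sup_left hle) ?_⟩
      rw [h.pair_card A hA B hB.1 (Ne.symm hB.2), h.pair_card A hA C hC (Ne.symm hCA)]
  rw [← Set.ncard_coe_finset, hset]
  have h1 := h.members_odd hA hB.1 (Ne.symm hB.2)
  rw [← Set.ncard_sdiff_singleton_add_one (show A ∈ {C | C ∈ D ∧ C ≤ A ⊔ B} from ⟨hA, le_sup_left⟩)
    (Set.toFinite _)] at h1
  rcases Nat.even_or_odd ({C | C ∈ D ∧ C ≤ A ⊔ B} \ {A}).ncard with he | ho
  · exact he
  · exact absurd h1 (Nat.not_odd_iff_even.mpr ho.add_one)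

/-- In a generated group an involution normalising a member centralises it. -/
theorem PairSys.centralizes_fixed (hgen : sSup D = ⊤) {n : G} (hn : n * n = 1) {A : Subgroup G}
    (hA : A ∈ D) (hfix : cj n A = A) : ∀ a ∈ A, Commute n a := by
  classical
  haveI := Fact.mk h.hp
  haveI := Fact.mk h.hq
  have hγ : ∀ B : D, ∃ b ∈ (B : Subgroup G), b ≠ 1 := fun B => h.exists_mem_ne_one B.2
  choose γ hγ1 hγ2 using hγ
  let act : G → D → D := fun g B => ⟨cj g B, h.conj _ B.2 g⟩
  have hex : ∀ g : G, ∀ B : D, ∃ j : ℕ, g * γ B * g⁻¹ = γ (act g B) ^ j := by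
    intro g B
    have hm : g * γ B * g⁻¹ ∈ Subgroup.zpowers (γ (act g B)) := by
      rw [h.zpowers_eq (act g B).2 (hγ1 _) (hγ2 _)]
      exact conj_mem_cj (hγ1 B)
    obtain ⟨j, hj⟩ := (isOfFinOrder_of_finite (γ (act g B))).mem_powers_iff_mem_zpowers.mpr hm
    exact ⟨j, hj.symm⟩
  choose E hE using hex
  have horder : ∀ B : D, orderOf (γ B) = p := fun B => h.orderOf_eq B.2 (hγ1 B) (hγ2 B)
  have hcast : ∀ (B : D) (i j : ℕ), γ B ^ i = γ B ^ j → (i : ZMod p) = j := fun B i j e => by
    rw [ZMod.natCast_eq_natCast_iff, ← horder B]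
    exact pow_eq_pow_iff_modEq.mp e
  have hact : ∀ g g' B, act (g * g') B = act g (act g' B) := fun g g' B => Subtype.ext (cj_mul g g' B)
  have hcoc : ∀ g g' B, (E (g * g') B : ZMod p) = E g (act g' B) * E g' B := by
    intro g g' B
    rw [← Nat.cast_mul]
    refine hcast (act (g * g') B) _ _ ?_
    rw [← hE]
    calc g * g' * γ B * (g * g')⁻¹ = g * (γ (act g' B)) ^ (E g' B) * g⁻¹ := by
          rw [← hE g' B]; group
      _ = (g * γ (act g' B) * g⁻¹) ^ (E g' B) := (conj_pow).symm
      _ = _ := by rw [hE g, ← pow_mul, hact]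
  haveI : Fintype D := Fintype.ofFinite D
  have h1act : ∀ B, act 1 B = B := fun B => Subtype.ext (cj_one _)
  let τ : G →* ZMod p :=
    { toFun := fun g => ∏ B : D, (E g B : ZMod p)
      map_one' := Finset.prod_eq_one fun B _ => by
        rw [← Nat.cast_one]
        refine hcast B _ _ ?_
        have := hE 1 B
        rw [h1act] at this
        simpa using this.symm
      map_mul' := fun g g' => by
        show ∏ B : D, (E (g * g') B : ZMod p) = (∏ B : D, (E g B : ZMod p)) * ∏ B : D, (E g' B : ZMod p)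
        simp only [hcoc]
        rw [Finset.prod_mul_distrib]
        congr 1
        have hb : Function.Bijective (act g') := Finite.injective_iff_bijective.mp fun x y e => by
          have := congrArg (act g'⁻¹) e
          rwa [← hact, ← hact, inv_mul_cancel, h1act, h1act] at this
        exact hb.prod_comp (fun B => (E g B : ZMod p)) }
  have htriv : ∀ g, τ g = 1 := by
    have hle : sSup D ≤ τ.ker := sSup_le fun B hB => by
      intro b hb
      rw [MonoidHom.mem_ker, ← ZMod.pow_card (τ b), ← map_pow,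
        show b ^ p = 1 by
          rw [← h.card B hB]; exact congrArg Subtype.val (pow_card_eq_one' (x := (⟨b, hb⟩ : B))),
        map_one]
    exact fun g => MonoidHom.mem_ker.mp (hle (hgen ▸ Subgroup.mem_top g))
  let Aι : D := ⟨A, hA⟩
  have hAfix : act n Aι = Aι := Subtype.ext hfix
  set i : ZMod p := (E n Aι : ZMod p) with hi
  have hsame : ∀ B : D, act n B = B → (E n B : ZMod p) = i := by
    intro B hBfix
    by_cases hBA : B = Aι
    · rw [hBA]
    have hne : A ≠ (B : Subgroup G) := fun e => hBA (Subtype.ext e.symm)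
    obtain ⟨Q, KQ, hQ⟩ := h.exists_pair_kernel hA B.2 hne
    have d : Data D q Q A := ⟨KQ, hA, hQ ▸ full_pair hA B.2⟩
    have hQn : cj n Q ≤ Q := by
      refine d.le_kernel h (KQ.grp.map _) ?_
      refine (Subgroup.map_mono (le_sup_left.trans hQ.le)).trans ?_
      rw [Subgroup.map_sup, hQ]
      exact sup_le_sup hfix.le (congrArg Subtype.val hBfix).le
    obtain ⟨y, hy, c, hc, e⟩ := KQ.mem_sup
      (hQ ▸ Subgroup.mem_sup_right (hγ1 B) : γ B ∈ Q ⊔ A)
    obtain ⟨j, rfl⟩ := (isOfFinOrder_of_finite (γ Aι)).mem_powers_iff_mem_zpowers.mpr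
      (show c ∈ Subgroup.zpowers (γ Aι) by rw [h.zpowers_eq hA (hγ1 Aι) (hγ2 Aι)]; exact hc)
    have e1 : n * γ B * n⁻¹ = γ B ^ E n B := (hE n B).trans (by rw [hBfix])
    have e2 : n * γ Aι * n⁻¹ = γ Aι ^ E n Aι := (hE n Aι).trans (by rw [hAfix])
    obtain ⟨y', hy', e3⟩ := KQ.pow_eq (n := E n B) hy hc
    simp only at e e3
    have hL : n * γ B * n⁻¹ = (n * y * n⁻¹) * γ Aι ^ (E n Aι * j) := by
      rw [e, pow_mul, ← e2, conj_pow]
      group
    have hR : γ B ^ E n B = y' * γ Aι ^ (j * E n B) := by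
      rw [e, e3, ← pow_mul]
    have h2 : (γ Aι ^ (E n Aι * j)) * (γ Aι ^ (j * E n B))⁻¹ = (n * y * n⁻¹)⁻¹ * y' := by
      have h3 := hL.symm.trans (e1.trans hR)
      calc _ = (n * y * n⁻¹)⁻¹ * ((n * y * n⁻¹) * γ Aι ^ (E n Aι * j)) *
            (γ Aι ^ (j * E n B))⁻¹ := by group
        _ = _ := by rw [h3]; group
    have h4 : (γ Aι ^ (E n Aι * j)) * (γ Aι ^ (j * E n B))⁻¹ = 1 :=
      h.eq_one_of_mem_of_qgroup hA KQ.grp
        (A.mul_mem (A.pow_mem (hγ1 Aι) _) (A.inv_mem (A.pow_mem (hγ1 Aι) _)))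
        (h2 ▸ Q.mul_mem (Q.inv_mem (hQn (conj_mem_cj hy))) hy')
    have h5 := hcast Aι _ _ (mul_inv_eq_one.mp h4)
    push_cast at h5
    have hj : (j : ZMod p) ≠ 0 := by
      intro hj0
      rw [ZMod.natCast_eq_zero_iff, ← horder Aι] at hj0
      have hb : γ B = y := by
        rw [e, orderOf_dvd_iff_pow_eq_one.mp hj0, mul_one]
      exact hγ2 B (h.eq_one_of_mem_of_qgroup B.2 KQ.grp (hγ1 B) (hb ▸ hy))
    rw [mul_comm] at h5
    exact (mul_left_cancel₀ hj h5).symm
  -- the product over the class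
  have hinv : ∀ B : D, act n (act n B) = B := fun B => by rw [← hact, hn, h1act]
  have hprod : i ^ (Finset.univ.filter fun B : D => act n B = B).card = 1 := by
    have h0 : ∏ B : D, (E n B : ZMod p) = 1 := htriv n
    have hmoved : ∏ B ∈ Finset.univ.filter (fun B : D => ¬ act n B = B), (E n B : ZMod p) = 1 := by
      refine Finset.prod_involution (fun B _ => act n B) ?_ (fun B hB _ => (Finset.mem_filter.mp hB).2)
        (fun B hB => ?_) (fun B _ => hinv B)
      · intro B _
        show (E n B : ZMod p) * (E n (act n B) : ZMod p) = 1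
        rw [mul_comm, ← hcoc, hn, ← Nat.cast_one]
        refine hcast B _ _ ?_
        have := hE 1 B
        rw [h1act] at this
        simpa using this.symm
      · refine Finset.mem_filter.mpr ⟨Finset.mem_univ _, fun e => (Finset.mem_filter.mp hB).2 ?_⟩
        have := congrArg (act n) e
        rw [hinv, hinv] at this
        exact this
    rw [← Finset.prod_filter_mul_prod_filter_not Finset.univ (fun B : D => act n B = B), hmoved,
      mul_one, Finset.prod_congr rfl (fun B hB => hsame B (Finset.mem_filter.mp hB).2),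
      Finset.prod_const] at h0
    exact h0
  have hodd : Odd (Finset.univ.filter fun B : D => act n B = B).card := by
    have h1 : Odd (Fintype.card D) := by
      rw [← Nat.card_eq_fintype_card, Nat.card_coe_set_eq]
      exact h.class_odd hA
    rw [← Finset.card_univ, ← Finset.card_filter_add_card_filter_not (fun B : D => act n B = B)] at h1
    rcases Nat.even_or_odd (Finset.univ.filter fun B : D => ¬ act n B = B).card with he | ho
    · exact (Nat.odd_add.mp h1).mpr he
    · exfalso
      obtain ⟨B, hB, hBf⟩ := exists_fixed_of_odd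
        (Finset.univ.filter fun B : D => ¬ act n B = B) (act n) (fun B hB =>
        Finset.mem_filter.mpr ⟨Finset.mem_univ _, fun e => (Finset.mem_filter.mp hB).2 (by
          have := congrArg (act n) e
          rw [hinv, hinv] at this
          exact this)⟩) (fun B _ => hinv B) ho
      exact (Finset.mem_filter.mp hB).2 hBf
  have hi1 : i = 1 := by
    have h2 : i * i = 1 := by
      have := hcoc n n Aι
      rw [hAfix, hn] at this
      rw [← this, ← Nat.cast_one]
      refine hcast Aι _ _ ?_
      have h3 := hE 1 Aι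
      rw [h1act] at h3
      simpa using h3.symm
    obtain ⟨m, hm⟩ := hodd
    rw [hm, pow_succ, pow_mul, pow_two, h2, one_pow, one_mul] at hprod
    exact hprod
  have hE1 : γ Aι ^ E n Aι = γ Aι := by
    conv_rhs => rw [← pow_one (γ Aι)]
    refine pow_eq_pow_iff_modEq.mpr ?_
    rw [horder, ← ZMod.natCast_eq_natCast_iff]
    simpa [hi] using hi1
  have hcomm : Commute n (γ Aι) := by
    have h1 := hE n Aι
    rw [hAfix, hE1] at h1
    calc n * γ Aι = n * γ Aι * n⁻¹ * n := by group
      _ = γ Aι * n := by rw [h1]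
  intro a ha
  obtain ⟨j, rfl⟩ := Subgroup.mem_zpowers_iff.mp
    (show a ∈ Subgroup.zpowers (γ Aι) by rw [h.zpowers_eq hA (hγ1 Aι) (hγ2 Aι)]; exact ha)
  exact hcomm.zpow_right j

end CfsgLib.PairClosed
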