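import Cfsg.Agent.ZStar.Theorem
import Cfsg.Agent.Chars.Basic.ClassSum

/-!
# Products with an involution in the principal 2-block

* `mem_coreC_of_normal`: membership in the odd core of the centralizer of `n`.
* `false_of_products`: `G` is not generated by the conjugates of `a` if every product of `a` with a
  conjugate of the involution `n` is conjugate to a product of `n` with an element of that core.
-/

set_option autoImplicit false
set_option linter.style.haveILetI false
set_option maxHeartbeats 400000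

namespace CfsgLib.PairClosed

open Cfsg CfsgLib.ZStar CfsgLib.Blocks

universe u

variable {G : Type u} [Group G] [Finite G]

theorem mem_coreC_of_normal {n r : G} (N : Subgroup G) (hN : ∀ x ∈ N, Commute n x)
    (hodd : Odd (Nat.card N)) (hnorm : ∀ g, Commute n g → ∀ x ∈ N, g * x * g⁻¹ ∈ N) (hr : r ∈ N) :
    r ∈ coreC 2 (Subgroup.zpowers n) := by
  set C := Subgroup.centralizer (Subgroup.zpowers n : Set G) with hC
  have hNC : N ≤ C := fun x hx => mem_centralizer_zpowers_iff.mpr (hN x hx)
  have hn : (N.subgroupOf C).Normal := ⟨fun x hx g => by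
    rw [Subgroup.mem_subgroupOf] at hx ⊢
    exact hnorm g (mem_centralizer_zpowers_iff.mp g.2) x hx⟩
  have hle : N.subgroupOf C ≤ pPrimeCore 2 C :=
    Constrained.le_pPrimeCore_of_not_dvd hn (by
      rw [Nat.card_congr (Subgroup.subgroupOfEquivOfLe hNC).toEquiv]
      exact fun hd => Nat.not_even_iff_odd.mpr hodd (even_iff_two_dvd.mpr hd))
  exact ⟨⟨r, hNC hr⟩, hle (Subgroup.mem_subgroupOf.mpr hr), rfl⟩

theorem false_of_products {n a : G} (hn : orderOf n = 2)
    (hgen : Subgroup.normalClosure ({a} : Set G) = ⊤)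
    (hkey : ∀ g : G, ∃ v r : G, r ∈ coreC 2 (Subgroup.zpowers n) ∧
      v * (a * (g * n * g⁻¹)) * v⁻¹ = n * r) : False := by
  classical
  haveI := Fintype.ofFinite G
  haveI := Fintype.ofFinite (IrrCharacter G)
  haveI : Fact (Nat.Prime 2) := ⟨Nat.prime_two⟩
  obtain ⟨M, hM⟩ := exists_isPModular 2 Nat.prime_two
  haveI := hM.2.1
  have hnormal : ∀ H : Subgroup G, H.Normal → a ∈ H → H = ⊤ := fun H hH ha => by
    rw [eq_top_iff, ← hgen]
    exact Subgroup.normalClosure_le_normal (Set.singleton_subset_iff.mpr ha)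
  have hzero : ∀ χ : IrrCharacter G, χ ∈ principalBlock M G → χ ≠ Chars.oneChar G →
      (χ : G → ℂ) n = 0 := by
    intro χ hχ hne
    by_contra hχn
    have hterm : ∀ g : G, (χ : G → ℂ) (a * (g * n * g⁻¹)) = (χ : G → ℂ) n := by
      intro g
      obtain ⟨v, r, hr, e⟩ := hkey g
      rw [← apply_mul_eq_apply hM ⟨1, by rw [hn, pow_one]⟩ hr hχ, ← e]
      exact (Chars.isClassFunction_coe χ _ v).symm
    have hsum := Chars.sum_map_mul_conjugate χ a n
    rw [Finset.sum_congr rfl fun g _ => hterm g, Finset.sum_const, Finset.card_univ, nsmul_eq_mul,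
      ← Nat.card_eq_fintype_card, eq_div_iff (Chars.map_one_ne_zero χ)] at hsum
    have hcard : (Nat.card G : ℂ) ≠ 0 := Nat.cast_ne_zero.mpr Nat.card_pos.ne'
    have h2 : ((χ : G → ℂ) 1 - (χ : G → ℂ) a) * ((Nat.card G : ℂ) * (χ : G → ℂ) n) = 0 := by
      linear_combination hsum
    rcases mul_eq_zero.mp h2 with h3 | h3
    · exact hne (eq_oneChar_of_apply_eq hnormal (sub_eq_zero.mp h3).symm)
    · exact (mul_ne_zero hcard hχn) h3
  have w := weak_orthogonality hM (g := n) (by rw [hn])
  rw [Finset.sum_eq_single (Chars.oneChar G)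
    (fun χ hχ hne => by rw [hzero χ (Finset.mem_filter.mp hχ).2 hne, mul_zero])
    (fun hn => absurd (Finset.mem_filter.mpr ⟨Finset.mem_univ _, oneChar_mem_principal⟩) hn)] at w
  simp only [Chars.oneChar_apply] at w
  norm_num at w

end CfsgLib.PairClosed
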