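import Cfsg.Agent.PairClosed.Line
import Cfsg.Agent.PairClosed.Identity

/-!
# A minimal nonsolvable group generated by members

* `Crit`: a nonsolvable generated group without central involutions whose proper subgroups generated
  by members are solvable.
* `Crit.fixedSub`: the subgroup generated by the members fixed by an involution; it is a proper normal
  subgroup of odd order of the centralizer.
* `Crit.false_of_lines`: some pair moved by the involution has a fixed element outside the core.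
* `Crit.false_of_abelian`: the abelian case is impossible.
-/

set_option autoImplicit false
set_option linter.style.haveILetI false
set_option maxHeartbeats 400000

namespace CfsgLib.PairClosed

open CfsgLib.ZStar

universe u

variable {G : Type u} [Group G] [Finite G] {p q k : ℕ} {ab : Prop} {D : Set (Subgroup G)}

/-- A minimal counterexample. -/
structure Crit (p q k : ℕ) (ab : Prop) (D : Set (Subgroup G)) : Prop where
  sys : PairSys p q k ab D
  gen : sSup D = ⊤
  ih : ∀ H : Subgroup G, H ≠ ⊤ → Full D H → Group.IsSolvable H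
  nsolv : ¬ Group.IsSolvable G
  noinv : ∀ z : G, orderOf z = 2 → z ∉ Subgroup.center G

/-- The subgroup generated by the members normalised by `n`. -/
def fixedSub (D : Set (Subgroup G)) (n : G) : Subgroup G := sSup {C | C ∈ D ∧ cj n C = C}

theorem le_fixedSub {n : G} {C : Subgroup G} (hC : C ∈ D) (hf : cj n C = C) : C ≤ fixedSub D n :=
  le_sSup (show C ∈ {C | C ∈ D ∧ cj n C = C} from ⟨hC, hf⟩)

theorem Data.odd_card {S A : Subgroup G} (d : Data D q S A) (h : PairSys p q k ab D) :
    Odd (Nat.card ↥(S ⊔ A)) := by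
  haveI := Fact.mk h.hq
  have hle : S ⊔ A ≤ Subgroup.normalizer (S : Set G) := sup_le Subgroup.le_normalizer d.nrm
  haveI : (S.subgroupOf (S ⊔ A)).Normal :=
    (Subgroup.normal_subgroupOf_iff_le_normalizer le_sup_left).mpr hle
  obtain ⟨m, hm⟩ := d.grp.exists_card_eq
  have hS : Nat.card (S.subgroupOf (S ⊔ A)) = q ^ m := by
    rw [Nat.card_congr (Subgroup.subgroupOfEquivOfLe le_sup_left).toEquiv, hm]
  rw [Subgroup.card_eq_card_quotient_mul_card_subgroup (S.subgroupOf (S ⊔ A)), hS]
  refine Odd.mul ?_ (h.hq.odd_of_ne_two h.q2).pow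
  -- the quotient is an image of `A`
  let f : A →* ↥(S ⊔ A) ⧸ S.subgroupOf (S ⊔ A) :=
    (QuotientGroup.mk' _).comp (Subgroup.inclusion le_sup_right)
  have hf : Function.Surjective f := by
    intro x
    induction x using QuotientGroup.induction_on with
    | _ x =>
      obtain ⟨s, hs, b, hb, e⟩ := d.toKern.mem_sup x.2
      refine ⟨⟨b, hb⟩, QuotientGroup.eq.mpr ?_⟩
      rw [Subgroup.mem_subgroupOf]
      show b⁻¹ * (x : G) ∈ S
      rw [e]
      simpa [mul_assoc] using (Subgroup.mem_normalizer_iff.mp (d.nrm (A.inv_mem hb)) s).mp hs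
  exact ((h.card A d.mem).symm ▸ h.hp.odd_of_ne_two h.p2).of_dvd_nat
    (Subgroup.card_dvd_of_surjective f hf)

namespace Crit

variable (hc : Crit p q k ab D)

include hc

theorem exists_member : ∃ A, A ∈ D := by
  rcases D.eq_empty_or_nonempty with h0 | ⟨A, hA⟩
  · exfalso
    apply hc.nsolv
    have hg := hc.gen
    rw [h0, sSup_empty] at hg
    haveI : Subsingleton G := ⟨fun x y => by
      have hx : x ∈ (⊥ : Subgroup G) := hg ▸ Subgroup.mem_top x
      have hy : y ∈ (⊥ : Subgroup G) := hg ▸ Subgroup.mem_top y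
      rw [Subgroup.mem_bot.mp hx, Subgroup.mem_bot.mp hy]⟩
    infer_instance
  · exact ⟨A, hA⟩

theorem exists_involution : ∃ n : G, orderOf n = 2 ∧ n * n = 1 ∧ ∃ A ∈ D, cj n A = A := by
  classical
  haveI : Fact (Nat.Prime 2) := ⟨Nat.prime_two⟩
  have h2 : 2 ∣ Nat.card G := by
    by_contra h2
    exact hc.nsolv (Cfsg.Agent.S0205.result (Nat.not_even_iff_odd.mp fun he =>
      h2 (even_iff_two_dvd.mp he)))
  obtain ⟨n, hn⟩ := exists_prime_orderOf_dvd_card' 2 h2
  have hnn : n * n = 1 := by rw [← pow_two, ← hn, pow_orderOf_eq_one]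
  obtain ⟨A, hA⟩ := hc.exists_member
  have hodd := hc.sys.class_odd hA
  rw [Set.ncard_eq_toFinset_card _ (Set.toFinite D)] at hodd
  obtain ⟨B, hB, hBf⟩ := exists_fixed_of_odd (Set.toFinite D).toFinset (cj n)
    (fun C hC => by
      rw [Set.Finite.mem_toFinset] at hC ⊢
      exact hc.sys.conj C hC n) (fun C _ => cj_involutive hnn C) hodd
  exact ⟨n, hn, hnn, B, (Set.Finite.mem_toFinset _).mp hB, hBf⟩

theorem commute_fixedSub {n x : G} (hn : n * n = 1) (hx : x ∈ fixedSub D n) : Commute n x := by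
  have hle : fixedSub D n ≤ Subgroup.centralizer {n} := sSup_le fun C hC y hy =>
    Subgroup.mem_centralizer_singleton_iff.mpr
      (hc.sys.centralizes_fixed hc.gen hn hC.1 hC.2 y hy).symm.eq
  exact (Subgroup.mem_centralizer_singleton_iff.mp (hle hx)).symm

theorem fixedSub_ne_top {n : G} (hn : orderOf n = 2) : fixedSub D n ≠ ⊤ := by
  intro h0
  refine hc.noinv n hn (Subgroup.mem_center_iff.mpr fun g => ?_)
  exact (hc.commute_fixedSub (by rw [← pow_two, ← hn, pow_orderOf_eq_one])
    (h0 ▸ Subgroup.mem_top g)).symm.eq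

theorem full_fixedSub (n : G) : Full D (fixedSub D n) := full_sSup fun _ hC => hC.1

theorem solvable_fixedSub {n : G} (hn : orderOf n = 2) : Group.IsSolvable ↥(fixedSub D n) :=
  hc.ih _ (hc.fixedSub_ne_top hn) (hc.full_fixedSub n)

/-- A proper subgroup generated by members has a kernel for each of them. -/
theorem exists_kernel {H A : Subgroup G} (hH : H ≠ ⊤) (hfull : Full D H) (hA : A ∈ D) (hle : A ≤ H) :
    ∃ S : Subgroup G, Data D q S A ∧ S ⊔ A = H ∧ H ≤ Subgroup.normalizer (S : Set G) :=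
  hc.sys.exists_kernel hA hle (hc.ih H hH hfull) hfull

theorem exists_fixed_kernel {n : G} (hn : orderOf n = 2) {A : Subgroup G} (hA : A ∈ D)
    (hf : cj n A = A) : ∃ S : Subgroup G, Data D q S A ∧ S ⊔ A = fixedSub D n ∧
      fixedSub D n ≤ Subgroup.normalizer (S : Set G) :=
  hc.exists_kernel (hc.fixedSub_ne_top hn) (hc.full_fixedSub n) hA (le_fixedSub hA hf)

theorem fixedSub_normalized {n g : G} (hg : Commute n g) {x : G} (hx : x ∈ fixedSub D n) :
    g * x * g⁻¹ ∈ fixedSub D n := by
  have hle : fixedSub D n ≤ (fixedSub D n).comap (MulAut.conj g).toMonoidHom := by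
    refine sSup_le fun C hC y hy => ?_
    refine le_fixedSub (hc.sys.conj C hC.1 g) ?_ (conj_mem_cj hy)
    rw [← cj_mul, hg.eq, cj_mul, hC.2]
  exact hle hx

theorem mem_coreC_fixedSub {n : G} (hn : orderOf n = 2) {A : Subgroup G} (hA : A ∈ D)
    (hf : cj n A = A) {x : G} (hx : x ∈ fixedSub D n) : x ∈ coreC 2 (Subgroup.zpowers n) := by
  obtain ⟨S, d, hS, -⟩ := hc.exists_fixed_kernel hn hA hf
  refine mem_coreC_of_normal _ (fun y hy => hc.commute_fixedSub (by rw [← pow_two, ← hn, pow_orderOf_eq_one]) hy)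
    (hS ▸ d.odd_card hc.sys) (fun g hg y hy => hc.fixedSub_normalized hg hy) hx

/-- Some fixed element of a moved pair lies outside the core. -/
theorem false_of_lines {n : G} (hn : orderOf n = 2) {A : Subgroup G} (hA : A ∈ D) (hf : cj n A = A)
    (hline : ∀ X Q : Subgroup G, Line D q n X Q → ∀ c ∈ Q, (∀ x ∈ X, Commute x c) →
      c ∈ coreC 2 (Subgroup.zpowers n)) : False := by
  have hnn : n * n = 1 := by rw [← pow_two, ← hn, pow_orderOf_eq_one]
  obtain ⟨a, ha, ha1⟩ := hc.sys.exists_mem_ne_one hA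
  refine false_of_products hn ?_ (a := a) fun g => ?_
  · rw [eq_top_iff, ← hc.gen]
    refine sSup_le fun C hC => ?_
    obtain ⟨u, rfl⟩ := hc.sys.members_conj hA hC
    exact hc.sys.le_of_ne_bot hC (conj_mem_cj ha) (fun e => ha1 (conj_eq_one_iff.mp e))
      (Subgroup.normalClosure_normal.conj_mem _ (Subgroup.subset_normalClosure (Set.mem_singleton a)) u)
  · set B := cj g⁻¹ A with hB
    have hBD : B ∈ D := hc.sys.conj A hA g⁻¹
    have hb : g⁻¹ * a * g ∈ B := by
      have := conj_mem_cj (g := g⁻¹) ha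
      rwa [inv_inv] at this
    have e0 : g⁻¹ * (a * (g * n * g⁻¹)) * g⁻¹⁻¹ = (g⁻¹ * a * g) * n := by group
    by_cases hmov : cj n B = B
    · refine ⟨g⁻¹, g⁻¹ * a * g, hc.mem_coreC_fixedSub hn hBD hmov (le_fixedSub hBD hmov hb), ?_⟩
      rw [e0]
      exact (hc.sys.centralizes_fixed hc.gen hnn hBD hmov _ hb).symm.eq
    · obtain ⟨X, Q, L, hXf, -, hQ, -⟩ := hc.sys.exists_line hc.gen hnn hBD hmov
      obtain ⟨v, c, hcQ, hcX, x, hx, e⟩ :=
        L.conj_mul hc.sys (hQ ▸ Subgroup.mem_sup_right hb : g⁻¹ * a * g ∈ Q ⊔ X)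
      refine ⟨v * g⁻¹, c * x, mul_mem (hline X Q L c hcQ hcX)
        (hc.mem_coreC_fixedSub hn hA hf (le_fixedSub L.dat.mem hXf hx)), ?_⟩
      rw [← e, ← e0]
      group

/-- The abelian case does not occur. -/
theorem false_of_abelian (hab : ab) : False := by
  obtain ⟨n, hn, -, A, hA, hf⟩ := hc.exists_involution
  refine hc.false_of_lines hn hA hf fun X Q L c hcQ hcX => ?_
  obtain ⟨a, ha, ha1⟩ := hc.sys.exists_mem_ne_one L.dat.mem
  obtain ⟨B, hB, hne, hQ⟩ := L.pair
  rw [hc.sys.pair_trivial hab L.dat.mem hB hne L.dat.toKern hQ ha ha1 hcQ (hcX a ha)]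
  exact one_mem _

end Crit

end CfsgLib.PairClosed
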