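import Cfsg.Agent.S0205
import Cfsg.Agent.PairClosed.Action

/-!
# Classes of subgroups of order `p` with pairs of order `p * q ^ k`

* `PairSys`: an invariant class `D` of subgroups of order `p`, any two of which generate a subgroup
  of order `p * q ^ k`; `ab` records whether these subgroups have abelian derived subgroup.
* `Kern S A`: `S` is a `q`-group normalised by `A`.
* `PairSys.exists_pair_kernel`: the structure of the pairs.
-/

set_option autoImplicit false
set_option linter.style.haveILetI false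
set_option maxHeartbeats 400000

namespace CfsgLib.PairClosed

open scoped commutatorElement

universe u

variable {G : Type u} [Group G]

/-- An invariant class of subgroups of prime order with pairs of order `p * q ^ k`. -/
structure PairSys (p q k : ℕ) (ab : Prop) (D : Set (Subgroup G)) : Prop where
  hp : p.Prime
  hq : q.Prime
  ne : p ≠ q
  p2 : p ≠ 2
  q2 : q ≠ 2
  card : ∀ A ∈ D, Nat.card A = p
  conj : ∀ A ∈ D, ∀ g : G, cj g A ∈ D
  pair_card : ∀ A ∈ D, ∀ B ∈ D, A ≠ B → Nat.card ↥(A ⊔ B) = p * q ^ k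
  pair_ab : ∀ A ∈ D, ∀ B ∈ D, A ≠ B →
    ((∀ x ∈ ⁅A ⊔ B, A ⊔ B⁆, ∀ y ∈ ⁅A ⊔ B, A ⊔ B⁆, Commute x y) ↔ ab)

variable {p q k : ℕ} {ab : Prop} {D : Set (Subgroup G)}

namespace PairSys

variable (h : PairSys p q k ab D)

include h

theorem exists_mem_ne_one {A : Subgroup G} (hA : A ∈ D) : ∃ a ∈ A, a ≠ 1 := by
  have hne : A ≠ ⊥ := fun hb => by
    have := h.card A hA
    rw [hb, Subgroup.card_bot] at this
    exact h.hp.ne_one this.symm
  obtain ⟨⟨a, ha⟩, h1⟩ := Subgroup.ne_bot_iff_exists_ne_one.mp hne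
  exact ⟨a, ha, fun he => h1 (Subtype.ext he)⟩

theorem zpowers_eq {A : Subgroup G} (hA : A ∈ D) {a : G} (ha : a ∈ A) (h1 : a ≠ 1) :
    Subgroup.zpowers a = A :=
  zpowers_eq_of_card_prime h.hp (h.card A hA) ha h1

theorem orderOf_eq {A : Subgroup G} (hA : A ∈ D) {a : G} (ha : a ∈ A) (h1 : a ≠ 1) :
    orderOf a = p := by
  rw [← Nat.card_zpowers, h.zpowers_eq hA ha h1, h.card A hA]

theorem le_of_ne_bot {A H : Subgroup G} (hA : A ∈ D) {a : G} (ha : a ∈ A) (h1 : a ≠ 1)
    (haH : a ∈ H) : A ≤ H := by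
  rw [← h.zpowers_eq hA ha h1]
  exact Subgroup.zpowers_le.mpr haH

theorem cj_eq_iff {A B : Subgroup G} (hA : A ∈ D) (hB : B ∈ D) {a g : G} (ha : a ∈ A) (h1 : a ≠ 1) :
    cj g A = B ↔ g * a * g⁻¹ ∈ B := by
  refine ⟨fun e => e ▸ conj_mem_cj ha, fun hm => ?_⟩
  have h1' : g * a * g⁻¹ ≠ 1 := fun e => h1 (conj_eq_one_iff.mp e)
  rw [← h.zpowers_eq hB hm h1', ← h.zpowers_eq (h.conj A hA g) (conj_mem_cj ha) h1']

theorem not_q_dvd_p : ¬ q ∣ p := fun hd => h.ne
  ((Nat.prime_dvd_prime_iff_eq h.hq h.hp).mp hd).symm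

variable [Finite G]

theorem isSolvable_pair {A B : Subgroup G} (hA : A ∈ D) (hB : B ∈ D) :
    Group.IsSolvable ↥(A ⊔ B) := by
  refine Cfsg.Agent.S0205.result ?_
  by_cases hne : A = B
  · subst hne
    rw [sup_idem, h.card A hA]
    exact h.hp.odd_of_ne_two h.p2
  · rw [h.pair_card A hA B hB hne]
    exact (h.hp.odd_of_ne_two h.p2).mul (h.hq.odd_of_ne_two h.q2).pow

theorem pair_conj {A B : Subgroup G} (hA : A ∈ D) (hB : B ∈ D) (hne : A ≠ B) :
    ∃ u ∈ A ⊔ B, cj u A = B := by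
  haveI := Fact.mk h.hp
  have hcard : ∀ C : Subgroup G, C ∈ D → C ≤ A ⊔ B →
      ∃ P : Sylow p ↥(A ⊔ B), (P : Subgroup ↥(A ⊔ B)) = C.subgroupOf (A ⊔ B) := by
    intro C hC hle
    refine ⟨Sylow.ofCard (C.subgroupOf (A ⊔ B)) ?_, rfl⟩
    rw [Nat.card_congr (Subgroup.subgroupOfEquivOfLe hle).toEquiv, h.card C hC,
      h.pair_card A hA B hB hne, Nat.factorization_mul h.hp.ne_zero (pow_ne_zero _ h.hq.ne_zero),
      Finsupp.add_apply, h.hp.factorization_self, Nat.Prime.factorization_pow h.hq,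
      Finsupp.single_apply, if_neg h.ne.symm, add_zero, pow_one]
  obtain ⟨PA, hPA⟩ := hcard A hA le_sup_left
  obtain ⟨PB, hPB⟩ := hcard B hB le_sup_right
  obtain ⟨u, hu⟩ := MulAction.exists_smul_eq ↥(A ⊔ B) PA PB
  obtain ⟨a, ha, h1⟩ := h.exists_mem_ne_one hA
  refine ⟨u, u.2, (h.cj_eq_iff hA hB ha h1).mpr ?_⟩
  have hm : u * ⟨a, le_sup_left (a := A) (b := B) ha⟩ * u⁻¹ ∈ (PB : Subgroup ↥(A ⊔ B)) := by
    rw [← hu, Sylow.coe_subgroup_smul]
    exact Subgroup.smul_mem_pointwise_smul _ _ _ (hPA ▸ Subgroup.mem_subgroupOf.mpr ha)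
  rw [hPB, Subgroup.mem_subgroupOf] at hm
  simpa using hm

theorem members_conj {A B : Subgroup G} (hA : A ∈ D) (hB : B ∈ D) : ∃ g, cj g A = B := by
  by_cases hne : A = B
  · exact ⟨1, by rw [cj_one, hne]⟩
  · obtain ⟨u, -, hu⟩ := h.pair_conj hA hB hne
    exact ⟨u, hu⟩

end PairSys

/-- The subgroup `S` is a `q`-group normalised by `A`. -/
structure Kern (q : ℕ) (S A : Subgroup G) : Prop where
  grp : IsPGroup q S
  nrm : A ≤ Subgroup.normalizer (S : Set G)

theorem Kern.mem_sup {S A : Subgroup G} (K : Kern q S A) {g : G} (hg : g ∈ S ⊔ A) :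
    ∃ s ∈ S, ∃ b ∈ A, g = s * b := by
  rw [← SetLike.mem_coe, Subgroup.coe_mul_of_right_le_normalizer_left S A K.nrm,
    Set.mem_mul] at hg
  obtain ⟨s, hs, b, hb, rfl⟩ := hg
  exact ⟨s, hs, b, hb, rfl⟩

namespace PairSys

variable [Finite G] (h : PairSys p q k ab D)

include h

theorem eq_one_of_mem_of_qgroup {A S : Subgroup G} (hA : A ∈ D) (hS : IsPGroup q S) {x : G}
    (hxA : x ∈ A) (hxS : x ∈ S) : x = 1 := by
  haveI := Fact.mk h.hp
  haveI := Fact.mk h.hq
  by_contra h1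
  obtain ⟨m, hm⟩ := IsPGroup.iff_orderOf.mp hS ⟨x, hxS⟩
  rw [Subgroup.orderOf_mk, h.orderOf_eq hA hxA h1] at hm
  rcases m with _ | m
  · exact h.hp.ne_one (by simpa using hm)
  · exact h.not_q_dvd_p (hm ▸ dvd_pow_self q m.succ_ne_zero)

/-- An element normalising `A` inside a kernel commutes with `A`. -/
theorem commute_of_cj_eq {A S : Subgroup G} (hA : A ∈ D) (K : Kern q S A) {s a : G} (hs : s ∈ S)
    (ha : a ∈ A) (he : cj s A = A) : Commute a s := by
  have h1 : s * a * s⁻¹ * a⁻¹ ∈ A :=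
    A.mul_mem (by rw [← he]; exact conj_mem_cj ha) (A.inv_mem ha)
  have h2 : s * a * s⁻¹ * a⁻¹ ∈ S := by
    have := S.mul_mem hs ((Subgroup.mem_normalizer_iff.mp (K.nrm ha) s⁻¹).mp (S.inv_mem hs))
    simpa [mul_assoc] using this
  have h3 := h.eq_one_of_mem_of_qgroup hA K.grp h1 h2
  have h4 : s * a = a * s := by
    calc s * a = (s * a * s⁻¹ * a⁻¹) * (a * s) := by group
      _ = a * s := by rw [h3, one_mul]
  exact h4.symm

/-- The pair generated by two members: a `q`-group extended by the first member. -/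
theorem exists_pair_kernel {A B : Subgroup G} (hA : A ∈ D) (hB : B ∈ D) (hne : A ≠ B) :
    ∃ Q : Subgroup G, Kern q Q A ∧ Q ⊔ A = A ⊔ B := by
  haveI := Fact.mk h.hp
  haveI := Fact.mk h.hq
  set U := A ⊔ B with hU
  haveI : Group.IsSolvable U := h.isSolvable_pair hA hB
  obtain ⟨a, ha, ha1⟩ := h.exists_mem_ne_one hA
  obtain ⟨u, hu, hub⟩ := h.pair_conj hA hB hne
  let aU : U := ⟨a, le_sup_left (a := A) (b := B) ha⟩
  have hgen : Subgroup.normalClosure ({aU} : Set U) = ⊤ := by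
    rw [eq_top_iff]
    have hA' : A ≤ (Subgroup.normalClosure ({aU} : Set U)).map U.subtype :=
      h.le_of_ne_bot hA ha ha1 ⟨aU, Subgroup.subset_normalClosure rfl, rfl⟩
    have hB' : B ≤ (Subgroup.normalClosure ({aU} : Set U)).map U.subtype := by
      have hb : u * a * u⁻¹ ∈ B := hub ▸ conj_mem_cj ha
      have hb1 : u * a * u⁻¹ ≠ 1 := fun e => ha1 (conj_eq_one_iff.mp e)
      refine h.le_of_ne_bot hB hb hb1 ?_
      have hmem : (⟨u, hu⟩ : U) * aU * (⟨u, hu⟩ : U)⁻¹ ∈ Subgroup.normalClosure ({aU} : Set U) :=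
        (Subgroup.normalClosure_normal (s := ({aU} : Set U))).conj_mem aU
          (Subgroup.subset_normalClosure (Set.mem_singleton aU)) ⟨u, hu⟩
      exact Subgroup.mem_map_of_mem U.subtype hmem
    intro x _
    obtain ⟨y, hy, hyx⟩ := (sup_le hA' hB' : U ≤ _) x.2
    rwa [← Subtype.ext (show (y : G) = x from hyx)]
  obtain ⟨r, hr, R, hRn, hRr, x, hx, hxa⟩ : ∃ r : ℕ, r.Prime ∧ ∃ R : Subgroup U, R.Normal ∧
      IsPGroup r R ∧ ∃ x ∈ R, ¬ Commute aU x := by
    by_contra hcon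
    push Not at hcon
    have hcomm := commute_all_of_normal_pgroups hgen hcon
    refine hne (Eq.trans ?_ hub)
    refine ((h.cj_eq_iff hA hA ha ha1).mpr ?_).symm
    have := congrArg Subtype.val (hcomm ⟨u, hu⟩ aU)
    simp only [Subgroup.coe_mul] at this
    rw [this, mul_inv_cancel_right]
    exact ha
  have hcardU : Nat.card U = p * q ^ k := h.pair_card A hA B hB hne
  haveI := Fact.mk hr
  have hxA : cj (x : G) A ≠ A := by
    intro he
    have hm : (x : G) * a * (x : G)⁻¹ * a⁻¹ ∈ A :=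
      A.mul_mem (he ▸ conj_mem_cj ha) (A.inv_mem ha)
    have hR : x * aU * x⁻¹ * aU⁻¹ ∈ R := by
      have := R.mul_mem hx (hRn.conj_mem _ (R.inv_mem hx) aU)
      simpa [mul_assoc] using this
    by_cases h1 : (x : G) * a * (x : G)⁻¹ * a⁻¹ = 1
    · apply hxa
      refine Subtype.ext ?_
      show a * x = x * a
      calc a * x = ((x : G) * a * (x : G)⁻¹ * a⁻¹) * (a * x) := by rw [h1, one_mul]
        _ = x * a := by group
    · have hAR : aU ∈ R := by
        have hle : A ≤ R.map U.subtype := h.le_of_ne_bot hA hm h1 ⟨_, hR, rfl⟩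
        obtain ⟨y, hy, hya⟩ := hle ha
        rwa [show aU = y from Subtype.ext hya.symm]
      have hRt : R = ⊤ := by
        rw [eq_top_iff, ← hgen]
        exact Subgroup.normalClosure_le_normal (Set.singleton_subset_iff.mpr hAR)
      obtain ⟨m, hm'⟩ := hRr.exists_card_eq
      rw [hRt, Subgroup.card_top, hcardU] at hm'
      have hpr : p = r := (Nat.prime_dvd_prime_iff_eq h.hp hr).mp
        (h.hp.dvd_of_dvd_pow (hm' ▸ dvd_mul_right p _))
      rcases k with _ | k
      · have hAU : A = U := Subgroup.eq_of_le_of_card_ge le_sup_left (by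
          rw [hcardU, h.card A hA, pow_zero, mul_one])
        exact hne (Subgroup.eq_of_le_of_card_ge (hAU.symm ▸ le_sup_right : B ≤ A)
          (by rw [h.card A hA, h.card B hB])).symm
      · exact h.ne (hpr.trans ((Nat.prime_dvd_prime_iff_eq h.hq hr).mp (h.hq.dvd_of_dvd_pow
          (hm' ▸ Dvd.dvd.mul_left (dvd_pow_self q k.succ_ne_zero) p))).symm)
  set Q := R.map U.subtype with hQ
  have hQU : Q ≤ U := Subgroup.map_subtype_le R
  have hnrm : A ≤ Subgroup.normalizer (Q : Set G) := by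
    refine le_sup_left.trans ((?_ : U ≤ _))
    intro g hg
    rw [Subgroup.mem_normalizer_iff]
    intro z
    constructor
    · rintro ⟨y, hy, rfl⟩
      exact ⟨⟨g, hg⟩ * y * ⟨g, hg⟩⁻¹, hRn.conj_mem y hy _, rfl⟩
    · rintro ⟨y, hy, hyz⟩
      refine ⟨⟨g, hg⟩⁻¹ * y * ⟨g, hg⟩, by simpa using hRn.conj_mem y hy ⟨g, hg⟩⁻¹, ?_⟩
      show g⁻¹ * (y : G) * g = z
      rw [show (y : G) = g * z * g⁻¹ from hyz]
      group
  have hxU : cj (x : G) A ≤ U := cj_le x.2 le_sup_left
  have hUle : U ≤ Q ⊔ A := by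
    have h1 : A ⊔ cj (x : G) A = U := Subgroup.eq_of_le_of_card_ge (sup_le le_sup_left hxU) (by
      rw [hcardU, h.pair_card A hA _ (h.conj A hA x) hxA.symm])
    rw [← h1]
    exact sup_le le_sup_right (cj_le (Subgroup.mem_sup_left ⟨x, hx, rfl⟩) le_sup_right)
  have hrq : r = q := by
    have hdvd : r ∣ p * q ^ k := by
      rw [← hcardU]
      obtain ⟨m, hm⟩ := hRr.exists_card_eq
      rcases m with _ | m
      · exfalso
        rw [pow_zero, Subgroup.card_eq_one] at hm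
        rw [hm, Subgroup.mem_bot] at hx
        exact hxA (by rw [hx, Subgroup.coe_one, cj_one])
      · exact (dvd_pow_self r m.succ_ne_zero).trans (hm ▸ Subgroup.card_subgroup_dvd_card R)
    rcases hr.dvd_mul.mp hdvd with hd | hd
    · exfalso
      have hrp : r = p := (Nat.prime_dvd_prime_iff_eq hr h.hp).mp hd
      subst hrp
      have hAU : A ≤ U := le_sup_left
      have hpg : IsPGroup r ↥(R ⊔ A.subgroupOf U) :=
        IsPGroup.to_sup_of_normal_left hRr
          ((IsPGroup.of_card (n := 1) (by rw [h.card A hA, pow_one])).of_equiv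
            (Subgroup.subgroupOfEquivOfLe hAU).symm)
      obtain ⟨m, hm⟩ := hpg.exists_card_eq
      have hle : A.subgroupOf U = R ⊔ A.subgroupOf U := by
        refine Subgroup.eq_of_le_of_card_ge le_sup_right ?_
        rw [Nat.card_congr (Subgroup.subgroupOfEquivOfLe hAU).toEquiv, h.card A hA, hm]
        have hd2 : r ^ m ∣ r * q ^ k := hcardU ▸ hm ▸ Subgroup.card_subgroup_dvd_card _
        have hco : Nat.Coprime (r ^ m) (q ^ k) :=
          Nat.Coprime.pow _ _ ((Nat.coprime_primes hr h.hq).mpr h.ne)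
        exact Nat.le_of_dvd hr.pos (hco.dvd_of_dvd_mul_right hd2)
      have hxm : (x : G) ∈ A := Subgroup.mem_subgroupOf.mp (hle ▸ Subgroup.mem_sup_left hx)
      exact hxA ((h.cj_eq_iff hA hA ha ha1).mpr
        (A.mul_mem (A.mul_mem hxm ha) (A.inv_mem hxm)))
    · exact (Nat.prime_dvd_prime_iff_eq hr h.hq).mp (hr.dvd_of_dvd_pow hd)
  subst hrq
  exact ⟨Q, ⟨hRr.map _, hnrm⟩, le_antisymm (sup_le hQU le_sup_left) hUle⟩

end PairSys

end CfsgLib.PairClosed
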