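import Cfsg.Agent.PairClosed.Solvable

/-!
# The kernel of a solvable subgroup generated by members

* `Data D q S A`: `S ⊔ A` is generated by members, `S` is a `q`-group normalised by `A`.
* `Data.commute_trivial`: in the abelian case the elements of `S` commuting with `A` are trivial.
* `Data.mem_commutator`, `Data.central`: in the nonabelian case they form the derived subgroup, which is
  central in `S ⊔ A`.
-/

set_option autoImplicit false
set_option linter.style.haveILetI false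
set_option maxHeartbeats 400000

namespace CfsgLib.PairClosed

open scoped commutatorElement

universe u

variable {G : Type u} [Group G] [Finite G] {p q k : ℕ} {ab : Prop} {D : Set (Subgroup G)}

/-- A kernel for a member. -/
structure Data (D : Set (Subgroup G)) (q : ℕ) (S A : Subgroup G) : Prop extends Kern q S A where
  mem : A ∈ D
  full : Full D (S ⊔ A)

variable (h : PairSys p q k ab D)

include h

/-- A solvable subgroup generated by members has a kernel. -/
theorem PairSys.exists_kernel {H A : Subgroup G} (hA : A ∈ D) (hAH : A ≤ H)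
    (hsolv : Group.IsSolvable H) (hfull : Full D H) :
    ∃ S : Subgroup G, Data D q S A ∧ S ⊔ A = H ∧ H ≤ Subgroup.normalizer (S : Set G) := by
  haveI := hsolv
  have hA' : A.subgroupOf H ∈ {A : Subgroup H | A.map H.subtype ∈ D} := by
    show (A.subgroupOf H).map H.subtype ∈ D
    rwa [Subgroup.subgroupOf_map_subtype, inf_eq_left.mpr hAH]
  have hgen : sSup {A : Subgroup H | A.map H.subtype ∈ D} = ⊤ := by
    rw [eq_top_iff]
    intro x _
    have hle : H ≤ (sSup {A : Subgroup H | A.map H.subtype ∈ D}).map H.subtype := by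
      refine hfull.trans (sSup_le fun C hC => ?_)
      have hC' : C.subgroupOf H ∈ {A : Subgroup H | A.map H.subtype ∈ D} := by
        show (C.subgroupOf H).map H.subtype ∈ D
        rw [Subgroup.subgroupOf_map_subtype, inf_eq_left.mpr hC.2]
        exact hC.1
      have := Subgroup.map_mono (f := H.subtype) (le_sSup hC')
      rwa [Subgroup.subgroupOf_map_subtype, inf_eq_left.mpr hC.2] at this
    obtain ⟨y, hy, hyx⟩ := hle x.2
    rwa [← Subtype.ext (show (y : G) = x from hyx)]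
  obtain ⟨S, hSn, hK, hsup⟩ := (h.toSub H).exists_kernel_of_solvable hgen hA'
  have hn : H ≤ Subgroup.normalizer (S.map H.subtype : Set G) := by
    intro g hg
    rw [Subgroup.mem_normalizer_iff]
    intro z
    constructor
    · rintro ⟨y, hy, rfl⟩
      exact ⟨⟨g, hg⟩ * y * ⟨g, hg⟩⁻¹, hSn.conj_mem y hy _, rfl⟩
    · rintro ⟨y, hy, hyz⟩
      refine ⟨⟨g, hg⟩⁻¹ * y * ⟨g, hg⟩, by simpa using hSn.conj_mem y hy ⟨g, hg⟩⁻¹, ?_⟩
      show g⁻¹ * (y : G) * g = z
      rw [show (y : G) = g * z * g⁻¹ from hyz]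
      group
  have hSA : S.map H.subtype ⊔ A = H := by
    have := congrArg (Subgroup.map H.subtype) hsup
    rwa [Subgroup.map_sup, Subgroup.subgroupOf_map_subtype, inf_eq_left.mpr hAH,
      ← MonoidHom.range_eq_map, Subgroup.range_subtype] at this
  exact ⟨_, ⟨⟨hK.grp.map _, hAH.trans hn⟩, hA, by rw [hSA]; exact hfull⟩, hSA, hn⟩

namespace Data

variable {S A : Subgroup G} (d : Data D q S A)

include d

/-- The `q`-subgroups of `S ⊔ A` lie in `S`. -/
theorem le_kernel {T : Subgroup G} (hT : IsPGroup q T) (hle : T ≤ S ⊔ A) : T ≤ S := by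
  haveI := Fact.mk h.hq
  intro t ht
  obtain ⟨s, hs, b, hb, rfl⟩ := d.toKern.mem_sup (hle ht)
  obtain ⟨m, hm⟩ := hT ⟨s * b, ht⟩
  have hm' : (s * b) ^ q ^ m = 1 := congrArg Subtype.val hm
  obtain ⟨s', hs', e⟩ := d.toKern.pow_eq (n := q ^ m) hs hb
  rw [hm'] at e
  have hbm : b ^ q ^ m = 1 := h.eq_one_of_mem_of_qgroup d.mem d.grp (A.pow_mem hb _)
    (by rw [eq_inv_of_mul_eq_one_right e.symm]; exact S.inv_mem hs')
  by_cases hb1 : b = 1
  · rw [hb1, mul_one]; exact hs
  · have hd : p ∣ q ^ m := h.orderOf_eq d.mem hb hb1 ▸ orderOf_dvd_of_pow_eq_one hbm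
    exact absurd ((Nat.prime_dvd_prime_iff_eq h.hp h.hq).mp (h.hp.dvd_of_dvd_pow hd)) h.ne

theorem conj_member {C : Subgroup G} (hC : C ∈ D) (hle : C ≤ S ⊔ A) : ∃ s ∈ S, cj s A = C := by
  by_cases hne : A = C
  · exact ⟨1, one_mem _, by rw [cj_one, hne]⟩
  obtain ⟨u, hu, hu'⟩ := h.pair_conj d.mem hC hne
  obtain ⟨s, hs, b, hb, rfl⟩ := d.toKern.mem_sup ((sup_le le_sup_right hle : A ⊔ C ≤ S ⊔ A) hu)
  refine ⟨s, hs, ?_⟩
  rw [← hu', cj_mul]
  congr 1
  obtain ⟨a, ha, ha1⟩ := h.exists_mem_ne_one d.mem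
  exact ((h.cj_eq_iff d.mem d.mem ha ha1).mpr (A.mul_mem (A.mul_mem hb ha) (A.inv_mem hb))).symm

omit h in
theorem conj_inv {a : G} (ha : a ∈ A) {s : G} (hs : s ∈ S) : a * s * a⁻¹ ∈ S :=
  (Subgroup.mem_normalizer_iff.mp (d.nrm ha) s).mp hs

/-- The kernel is generated by commutators with the member. -/
theorem genBy {a : G} (ha : a ∈ A) (ha1 : a ≠ 1) : GenBy a S := by
  refine ⟨fun s hs => d.conj_inv ha hs, ?_⟩
  set K := Subgroup.closure {x | ∃ s ∈ S, x = s * a * s⁻¹ * a⁻¹} with hK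
  have hmem : ∀ s ∈ S, s * a * s⁻¹ * a⁻¹ ∈ K := fun s hs => Subgroup.subset_closure ⟨s, hs, rfl⟩
  have hKS : K ≤ S := (Subgroup.closure_le _).mpr fun x ⟨s, hs, e⟩ => by
    rw [e]
    simpa [mul_assoc] using S.mul_mem hs (d.conj_inv ha (S.inv_mem hs))
  have hAK : A ≤ Subgroup.normalizer (K : Set G) := by
    refine h.le_of_ne_bot d.mem ha ha1 ?_
    rw [Subgroup.mem_normalizer_iff]
    have key : ∀ x ∈ K, a * x * a⁻¹ ∈ K := by
      intro x hx
      have hle : K ≤ K.comap (MulAut.conj a).toMonoidHom := (Subgroup.closure_le _).mpr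
        fun x ⟨s, hs, e⟩ => by
          rw [SetLike.mem_coe, Subgroup.mem_comap, e]
          convert hmem (a * s * a⁻¹) (d.conj_inv ha hs) using 1
          simp [mul_assoc]
      exact hle hx
    intro x
    refine ⟨key x, fun hx => ?_⟩
    have hmap : K.map (MulAut.conj a).toMonoidHom = K :=
      Subgroup.eq_of_le_of_card_ge (by rintro _ ⟨y, hy, rfl⟩; exact key y hy) (card_cj a K).ge
    have hx' : a * x * a⁻¹ ∈ cj a K := hmap.ge hx
    simpa [mul_assoc] using mem_cj.mp hx'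
  have hle : S ⊔ A ≤ K ⊔ A := by
    refine d.full.trans (sSup_le fun C hC => ?_)
    obtain ⟨s, hs, rfl⟩ := d.conj_member h hC.1 hC.2
    refine h.le_of_ne_bot hC.1 (conj_mem_cj ha) (fun e => ha1 (conj_eq_one_iff.mp e)) ?_
    simpa using mul_mem (Subgroup.mem_sup_left (T := A) (hmem s hs)) (Subgroup.mem_sup_right ha)
  intro s hs
  have hs' := hle (Subgroup.mem_sup_left hs)
  rw [← SetLike.mem_coe, Subgroup.coe_mul_of_right_le_normalizer_left K A hAK,
    Set.mem_mul] at hs'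
  obtain ⟨x, hx, b, hb, rfl⟩ := hs'
  have hbS : b ∈ S := by
    simpa using S.mul_mem (S.inv_mem (hKS hx)) hs
  rw [h.eq_one_of_mem_of_qgroup d.mem d.grp hb hbS, mul_one]
  exact hx

theorem commute_pow {a : G} (ha : a ∈ A) (ha1 : a ≠ 1) {s b : G} (hs : Commute a s) (hb : b ∈ A) :
    Commute b s := by
  obtain ⟨j, rfl⟩ := Subgroup.mem_zpowers_iff.mp
    (show b ∈ Subgroup.zpowers a by rw [h.zpowers_eq d.mem ha ha1]; exact hb)
  exact hs.zpow_left j

/-- A member moved by an element of `S` gives a pair inside `S ⊔ A`. -/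
theorem pair_kernel_le {C Q : Subgroup G} (hle : C ≤ S ⊔ A) (K : Kern q Q A)
    (hQ : Q ⊔ A = A ⊔ C) : Q ≤ S :=
  d.le_kernel h K.grp ((le_sup_left.trans hQ.le).trans (sup_le le_sup_right hle))

omit h in
theorem kern_commutator_le (K : Kern q S A) : ⁅S ⊔ A, S ⊔ A⁆ ≤ S ⊔ ⁅A, A⁆ := by
  refine Subgroup.commutator_le.mpr fun x hx y hy => ?_
  obtain ⟨s, hs, b, hb, rfl⟩ := K.mem_sup hx
  obtain ⟨t, ht, c, hc, rfl⟩ := K.mem_sup hy
  have hn : ∀ b ∈ A, ∀ s ∈ S, b * s * b⁻¹ ∈ S := fun b hb s hs =>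
    (Subgroup.mem_normalizer_iff.mp (K.nrm hb) s).mp hs
  have e : ⁅s * b, t * c⁆ = (s * (b * t * b⁻¹) * ((b * c * b⁻¹) * s⁻¹ * (b * c * b⁻¹)⁻¹) *
      (⁅b, c⁆ * t⁻¹ * ⁅b, c⁆⁻¹)) * ⁅b, c⁆ := by
    simp only [commutatorElement_def]
    group
  rw [e]
  refine mul_mem (Subgroup.mem_sup_left (S.mul_mem (S.mul_mem (S.mul_mem hs (hn b hb t ht))
    (hn _ (A.mul_mem (A.mul_mem hb hc) (A.inv_mem hb)) _ (S.inv_mem hs))) (hn _ ?_ _ (S.inv_mem ht))))
    (Subgroup.mem_sup_right (Subgroup.commutator_mem_commutator hb hc))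
  rw [commutatorElement_def]
  exact A.mul_mem (A.mul_mem (A.mul_mem hb hc) (A.inv_mem hb)) (A.inv_mem hc)

theorem commutator_le : ⁅S ⊔ A, S ⊔ A⁆ ≤ S := by
  have hA : ⁅A, A⁆ = ⊥ := by
    rw [eq_bot_iff, Subgroup.commutator_le]
    intro x hx y hy
    obtain ⟨a, ha, ha1⟩ := h.exists_mem_ne_one d.mem
    rw [← h.zpowers_eq d.mem ha ha1] at hx hy
    obtain ⟨i, rfl⟩ := Subgroup.mem_zpowers_iff.mp hx
    obtain ⟨j, rfl⟩ := Subgroup.mem_zpowers_iff.mp hy
    exact Subgroup.mem_bot.mpr (commutatorElement_eq_one_iff_commute.mpr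
      ((Commute.refl a).zpow_zpow i j))
  simpa [hA] using d.kern_commutator_le d.toKern

/-- The kernel of a pair has abelian derived group exactly when it is abelian. -/
theorem kernel_eq_commutator : S = ⁅S ⊔ A, S ⊔ A⁆ := by
  refine le_antisymm ?_ (d.commutator_le h)
  obtain ⟨a, ha, ha1⟩ := h.exists_mem_ne_one d.mem
  refine (d.genBy h ha ha1).gen.trans ((Subgroup.closure_le _).mpr ?_)
  rintro _ ⟨s, hs, rfl⟩
  rw [← commutatorElement_def]
  exact Subgroup.commutator_mem_commutator (Subgroup.mem_sup_left hs) (Subgroup.mem_sup_right ha)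

/-- In the nonabelian case the abelian subgroups of `S` invariant under `A` commute with `A`. -/
theorem abelian_inv_commute (hab : ¬ ab) {a : G} (ha : a ∈ A) (ha1 : a ≠ 1) {R : Subgroup G}
    (hR : R ≤ S) (hc : ∀ x ∈ R, ∀ y ∈ R, Commute x y) (hinv : ∀ x ∈ R, a * x * a⁻¹ ∈ R) :
    ∀ x ∈ R, Commute a x := by
  intro x hx
  by_cases he : cj x A = A
  · exact h.commute_of_cj_eq d.mem d.toKern (hR hx) ha he
  exfalso
  apply hab
  obtain ⟨Q, KQ, hQ⟩ := h.exists_pair_kernel d.mem (h.conj A d.mem x) (Ne.symm he)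
  have hRn : A ≤ Subgroup.normalizer (R : Set G) := by
    refine h.le_of_ne_bot d.mem ha ha1 ?_
    rw [Subgroup.mem_normalizer_iff]
    intro z
    refine ⟨hinv z, fun hz => ?_⟩
    have hmap : R.map (MulAut.conj a).toMonoidHom = R :=
      Subgroup.eq_of_le_of_card_ge (by rintro _ ⟨y, hy, rfl⟩; exact hinv y hy) (card_cj a R).ge
    have hz' : a * z * a⁻¹ ∈ cj a R := hmap.ge hz
    simpa [mul_assoc] using mem_cj.mp hz'
  have hRd : Kern q R A := ⟨d.grp.to_le hR, hRn⟩
  have hQR : Q ≤ R := by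
    intro y hy
    have hy' : y ∈ R ⊔ A := by
      have : A ⊔ cj x A ≤ R ⊔ A := sup_le le_sup_right
        (cj_le (Subgroup.mem_sup_left hx) le_sup_right)
      exact this (hQ ▸ Subgroup.mem_sup_left hy)
    obtain ⟨r, hr, b, hb, e⟩ := hRd.mem_sup hy'
    have hyS : y ∈ S := d.pair_kernel_le h (cj_le (Subgroup.mem_sup_left (hR hx)) le_sup_right)
      KQ hQ hy
    have hb1 : b = 1 := h.eq_one_of_mem_of_qgroup d.mem d.grp hb
      (by rw [show b = r⁻¹ * y by rw [e]; group]; exact S.mul_mem (S.inv_mem (hR hr)) hyS)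
    rw [e, hb1, mul_one]
    exact hr
  have dQ : Data D q Q A := ⟨KQ, d.mem, hQ ▸ full_pair d.mem (h.conj A d.mem x)⟩
  refine (h.pair_ab A d.mem _ (h.conj A d.mem x) (Ne.symm he)).mp fun u hu v hv => ?_
  rw [← hQ] at hu hv
  exact hc u (hQR (dQ.commutator_le h hu)) v (hQR (dQ.commutator_le h hv))

theorem mem_commutator {a : G} (ha : a ∈ A) (ha1 : a ≠ 1) {s : G} (hs : s ∈ S)
    (hc : Commute a s) : s ∈ ⁅S, S⁆ :=
  mem_commutator_of_commute (d.genBy h ha ha1) hs hc

/-- In the nonabelian case the derived subgroup is central. -/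
theorem central (hab : ¬ ab) {u : G} (hu : u ∈ ⁅S, S⁆) :
    (∀ s ∈ S, Commute s u) ∧ ∀ b ∈ A, Commute b u := by
  haveI := Fact.mk h.hq
  obtain ⟨a, ha, ha1⟩ := h.exists_mem_ne_one d.mem
  obtain ⟨h1, h2⟩ := commutator_central d.grp (d.genBy h ha ha1)
    (fun R hR hc hi => d.abelian_inv_commute h hab ha ha1 hR hc hi) hu
  exact ⟨h1, fun b hb => d.commute_pow h ha ha1 h2 hb⟩

end Data

end CfsgLib.PairClosed
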