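import Cfsg.Agent.PairClosed.Count

/-!
# The pair of a member and its image under an involution

* `exists_conj_mul_invol`: in an odd order group normalised by an involution `n`, every `u * n` is
  conjugate to `n * r` with `r` commuting with `n`.
* `Line n X Q`: a pair `Q ⊔ X` normalised by `n` in which `n` fixes the member `X` only.
* `PairSys.exists_line`: every member moved by `n` lies in such a pair.
-/

set_option autoImplicit false
set_option linter.style.haveILetI false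
set_option maxHeartbeats 400000

namespace CfsgLib.PairClosed

open scoped commutatorElement

universe u

variable {G : Type u} [Group G] [Finite G]

omit [Finite G] in
theorem inv_eq_self {n : G} (hn : n * n = 1) : n⁻¹ = n := inv_eq_of_mul_eq_one_right hn

/-- Conjugacy in the coset of an involution normalising a subgroup of odd order. -/
theorem exists_conj_mul_invol {U : Subgroup G} (hU : Odd (Nat.card U)) {n : G} (hn : n * n = 1)
    (hnU : ∀ u ∈ U, n * u * n ∈ U) {u : G} (hu : u ∈ U) :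
    ∃ v ∈ U, ∃ r ∈ U, Commute n r ∧ v * (u * n) * v⁻¹ = n * r := by
  have hodd : ∀ x ∈ U, Odd (orderOf x) := fun x hx =>
    hU.of_dvd_nat (Subgroup.orderOf_dvd_natCard U hx)
  have hni := inv_eq_self hn
  set w := u * n with hw
  set s := w * w with hsdef
  have hsU : s ∈ U := by
    rw [hsdef, show w * w = u * (n * u * n) by rw [hw]; simp [mul_assoc]]
    exact U.mul_mem hu (hnU u hu)
  obtain ⟨m, hm⟩ := hodd s hsU
  set t := w ^ (2 * m + 1) with ht
  have htt : t * t = 1 := by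
    rw [ht, ← pow_add, show 2 * m + 1 + (2 * m + 1) = 2 * (2 * m + 1) by ring, pow_mul, pow_two,
      ← hsdef, ← hm, pow_orderOf_eq_one]
  have hts : t = s ^ m * u * n := by
    rw [ht, pow_succ, pow_mul, pow_two, ← hsdef, hw, mul_assoc]
  set u' := t * n with hu'
  have hu'U : u' ∈ U := by
    rw [hu', hts, mul_assoc, hn, mul_one]
    exact U.mul_mem (U.pow_mem hsU m) hu
  have hnu' : n * u' * n = u'⁻¹ := by
    rw [hu', mul_inv_rev, hni, inv_eq_self htt, mul_assoc, mul_assoc, hn, mul_one]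
  obtain ⟨m', hm'⟩ := hodd u' hu'U
  set v := u' ^ (m' + 1) with hv
  have hvv : v * v = u' := by
    rw [hv, ← pow_add, show m' + 1 + (m' + 1) = (2 * m' + 1) + 1 by ring, pow_succ, ← hm',
      pow_orderOf_eq_one, one_mul]
  have hnv : n * v⁻¹ = v * n := by
    have h1 : n * v * n = v⁻¹ := by
      calc n * v * n = n * u' ^ (m' + 1) * n⁻¹ := by rw [hv, hni]
        _ = (n * u' * n⁻¹) ^ (m' + 1) := conj_pow.symm
        _ = v⁻¹ := by rw [hni, hnu', inv_pow, ← hv]
    calc n * v⁻¹ = n * (n * v * n) := by rw [h1]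
      _ = (n * n) * (v * n) := by group
      _ = v * n := by rw [hn, one_mul]
  have hvt : v * n * v⁻¹ = t := by
    rw [mul_assoc, hnv, ← mul_assoc, hvv, hu', mul_assoc, hn, mul_one]
  have hvU : v ∈ U := U.pow_mem hu'U _
  refine ⟨v⁻¹, U.inv_mem hvU, n * (v⁻¹ * w * v), ?_, ?_, ?_⟩
  · rw [show n * (v⁻¹ * w * v) = (n * (v⁻¹ * u) * n) * v by rw [hw]; group]
    exact U.mul_mem (hnU _ (U.mul_mem (U.inv_mem hvU) hu)) hvU
  · have hct : Commute t w := (Commute.refl w).pow_left _
    have hc : Commute n (v⁻¹ * w * v) := by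
      rw [← hvt] at hct
      show n * (v⁻¹ * w * v) = v⁻¹ * w * v * n
      calc n * (v⁻¹ * w * v) = v⁻¹ * ((v * n * v⁻¹) * w) * v := by group
        _ = v⁻¹ * (w * (v * n * v⁻¹)) * v := by rw [hct.eq]
        _ = v⁻¹ * w * v * n := by group
    exact (Commute.refl n).mul_right hc
  · rw [inv_inv, ← mul_assoc n n, hn, one_mul]

/-- A pair normalised by `n` in which `X` is the only fixed member. -/
structure Line (D : Set (Subgroup G)) (q : ℕ) (n : G) (X Q : Subgroup G) : Prop where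
  invol : n * n = 1
  dat : Data D q Q X
  pair : ∃ B ∈ D, X ≠ B ∧ Q ⊔ X = X ⊔ B
  comm : ∀ x ∈ X, Commute n x
  nQ : ∀ y ∈ Q, n * y * n ∈ Q
  uniq : ∀ y ∈ Q, cj n (cj y X) = cj y X → cj y X = X

variable {p q k : ℕ} {ab : Prop} {D : Set (Subgroup G)} (h : PairSys p q k ab D)

include h

/-- A member moved by an involution lies in a pair with one fixed member. -/
theorem PairSys.exists_line (hgen : sSup D = ⊤) {n : G} (hn : n * n = 1) {B : Subgroup G}
    (hB : B ∈ D) (hmov : cj n B ≠ B) :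
    ∃ X Q : Subgroup G, Line D q n X Q ∧ cj n X = X ∧ X ≠ B ∧ Q ⊔ X = X ⊔ B ∧
      Q ⊔ X = B ⊔ cj n B := by
  classical
  set U := B ⊔ cj n B with hU
  have hBn := h.conj B hB n
  have hnU : cj n U = U := by
    rw [hU, cj, Subgroup.map_sup]
    show cj n B ⊔ cj n (cj n B) = _
    rw [cj_involutive hn, sup_comm]
  set T := (Set.toFinite {C | C ∈ D ∧ C ≤ U}).toFinset with hT
  have hmemT : ∀ C, C ∈ T ↔ C ∈ D ∧ C ≤ U := fun C => by simp [hT]
  have hodd : Odd T.card := by
    rw [hT, ← Set.ncard_eq_toFinset_card]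
    exact h.members_odd hB hBn hmov.symm
  obtain ⟨X, hX, hXf⟩ := exists_fixed_of_odd T (fun C => cj n C) (fun C hC => by
    rw [hmemT] at hC ⊢
    exact ⟨h.conj C hC.1 n, hnU ▸ Subgroup.map_mono hC.2⟩) (fun C _ => cj_involutive hn C) hodd
  rw [hmemT] at hX
  have hXB : X ≠ B := fun e => hmov (e ▸ hXf)
  have hsup : X ⊔ B = U := Subgroup.eq_of_le_of_card_ge (sup_le hX.2 le_sup_left)
    (by rw [hU, h.pair_card B hB _ hBn hmov.symm, h.pair_card X hX.1 B hB hXB])
  obtain ⟨Q, KQ, hQ⟩ := h.exists_pair_kernel hX.1 hB hXB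
  have d : Data D q Q X := ⟨KQ, hX.1, hQ ▸ full_pair hX.1 hB⟩
  have hcomm : ∀ x ∈ X, Commute n x := h.centralizes_fixed hgen hn hX.1 hXf
  refine ⟨X, Q, ⟨hn, d, ⟨B, hB, hXB, hQ⟩, hcomm, fun y hy => ?_, fun y hy hfix => ?_⟩, hXf, hXB, hQ,
    hQ.trans hsup⟩
  · have hle : cj n Q ≤ Q := by
      refine d.le_kernel h (KQ.grp.map _) ?_
      refine (Subgroup.map_mono (le_sup_left.trans (hQ.trans hsup).le)).trans ?_
      exact (hnU.trans (hQ.trans hsup).symm).le
    have := hle (conj_mem_cj (g := n) hy)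
    rwa [inv_eq_self hn] at this
  · by_contra hne
    set C := cj y X with hC
    have hCD : C ∈ D := h.conj X hX.1 y
    have hCU : C ≤ U := by
      rw [← hsup, ← hQ]
      exact cj_le (Subgroup.mem_sup_left hy) le_sup_right
    have hgen2 : X ⊔ C = U := Subgroup.eq_of_le_of_card_ge (sup_le hX.2 hCU)
      (by rw [hU, h.pair_card B hB _ hBn hmov.symm, h.pair_card X hX.1 C hCD (Ne.symm hne)])
    have hle : U ≤ Subgroup.centralizer {n} := by
      rw [← hgen2]
      refine sup_le (fun x hx => ?_) (fun x hx => ?_)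
      · exact Subgroup.mem_centralizer_singleton_iff.mpr (hcomm x hx).symm.eq
      · exact Subgroup.mem_centralizer_singleton_iff.mpr
          (h.centralizes_fixed hgen hn hCD hfix x hx).symm.eq
    apply hmov
    obtain ⟨b, hb, hb1⟩ := h.exists_mem_ne_one hB
    refine (h.cj_eq_iff hB hB hb hb1).mpr ?_
    rw [← Subgroup.mem_centralizer_singleton_iff.mp (hle (le_sup_left (a := B) hb)),
      mul_inv_cancel_right]
    exact hb

namespace Line

variable {n : G} {X Q : Subgroup G} (L : Line D q n X Q)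

include L

theorem commutator_commute {c : G} (hc : c ∈ ⁅Q, Q⁆) : ∀ x ∈ X, Commute x c := by
  intro x hx
  by_cases hab : ab
  · obtain ⟨B, hB, hne, hQ⟩ := L.pair
    have h1 : ⁅Q, Q⁆ = ⊥ := by
      rw [eq_bot_iff, Subgroup.commutator_le]
      intro u hu v hv
      rw [Subgroup.mem_bot, commutatorElement_eq_one_iff_commute]
      rw [L.dat.kernel_eq_commutator h, hQ] at hu hv
      exact (h.pair_ab X L.dat.mem B hB hne).mpr hab u hu v hv
    rw [h1, Subgroup.mem_bot] at hc
    rw [hc]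
    exact Commute.one_right x
  · exact (L.dat.central h hab hc).2 x hx

theorem fixed_central {c : G} (hcQ : c ∈ Q) (hc : ∀ x ∈ X, Commute x c) {g : G}
    (hg : g ∈ Q ⊔ X) : Commute g c := by
  obtain ⟨a, ha, ha1⟩ := h.exists_mem_ne_one L.dat.mem
  exact L.dat.fixed_central h ha ha1 hcQ (hc a ha) hg

omit h in
theorem cj_fix : cj n X = X := by
  apply le_antisymm
  · rintro _ ⟨x, hx, rfl⟩
    show n * x * n⁻¹ ∈ X
    rw [(L.comm x hx).eq, mul_inv_cancel_right]
    exact hx
  · intro x hx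
    rw [mem_cj, mul_assoc, ← (L.comm x hx).eq, inv_mul_cancel_left]
    exact hx

theorem cj_eq_of_commute {c : G} (hc : ∀ x ∈ X, Commute x c) : cj c X = X := by
  obtain ⟨a, ha, ha1⟩ := h.exists_mem_ne_one L.dat.mem
  refine (h.cj_eq_iff L.dat.mem L.dat.mem ha ha1).mpr ?_
  rw [← (hc a ha).eq, mul_inv_cancel_right]
  exact ha

/-- The product of an element of `Q` and its image commutes with `X`. -/
theorem mul_conj_commute {y : G} (hy : y ∈ Q) : ∀ x ∈ X, Commute x (y * (n * y * n)) := by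
  obtain ⟨a, ha, ha1⟩ := h.exists_mem_ne_one L.dat.mem
  have hnn := L.invol
  set v := n * y * n with hv
  have hvQ : v ∈ Q := L.nQ y hy
  set w := y * v with hw
  have hnw : n * w * n⁻¹ = w * ⁅v⁻¹, y⁻¹⁆ := by
    rw [inv_eq_self hnn, commutatorElement_def, inv_inv, inv_inv,
      show n * w * n = v * (n * v * n) by
        rw [hw, show v * (n * v * n) = (n * y * (n * n)) * v * n by rw [hv]; group, hnn, mul_one]
        group,
      show n * v * n = y by
        rw [hv, show n * (n * y * n) * n = n * n * y * (n * n) by group, hnn, one_mul, mul_one]]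
    rw [hw]
    group
  have hfix : cj n (cj w X) = cj w X := by
    rw [← cj_mul, show n * w = (n * w * n⁻¹) * n by group, hnw, cj_mul, L.cj_fix, cj_mul,
      L.cj_eq_of_commute h (L.commutator_commute h
        (Subgroup.commutator_mem_commutator (Q.inv_mem hvQ) (Q.inv_mem hy)))]
  have h1 := L.uniq w (Q.mul_mem hy hvQ) hfix
  intro x hx
  exact L.dat.commute_pow h ha ha1 (h.commute_of_cj_eq L.dat.mem L.dat.toKern (Q.mul_mem hy hvQ) ha h1) hx

/-- The elements of `Q` commuting with `X` commute with `n`. -/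
theorem fixed_comm {c : G} (hcQ : c ∈ Q) (hc : ∀ x ∈ X, Commute x c) : Commute n c := by
  obtain ⟨a, ha, ha1⟩ := h.exists_mem_ne_one L.dat.mem
  have hni := inv_eq_self L.invol
  have hle : ⁅Q, Q⁆ ≤ Subgroup.centralizer {n} := Subgroup.commutator_le.mpr fun x hx y hy => by
    rw [Subgroup.mem_centralizer_singleton_iff]
    have hcx := fun g (hg : g ∈ Q) => L.fixed_central h (Q.mul_mem hx (L.nQ x hx))
      (L.mul_conj_commute h hx) (Subgroup.mem_sup_left hg)
    have hcy := fun g (hg : g ∈ Q) => L.fixed_central h (Q.mul_mem hy (L.nQ y hy))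
      (L.mul_conj_commute h hy) (Subgroup.mem_sup_left hg)
    have hxy : ⁅x, y⁆ ∈ ⁅Q, Q⁆ := Subgroup.commutator_mem_commutator hx hy
    have hxyQ : ⁅x, y⁆ ∈ Q := by
      rw [commutatorElement_def]
      exact Q.mul_mem (Q.mul_mem (Q.mul_mem hx hy) (Q.inv_mem hx)) (Q.inv_mem hy)
    have hz := fun g (hg : g ∈ Q) => L.fixed_central h hxyQ (L.commutator_commute h hxy)
      (Subgroup.mem_sup_left hg)
    have ex : n * x * n = x⁻¹ * (x * (n * x * n)) := by group
    have ey : n * y * n = y⁻¹ * (y * (n * y * n)) := by group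
    have key : n * ⁅x, y⁆ * n⁻¹ = ⁅x, y⁆ := by
      rw [show n * ⁅x, y⁆ * n⁻¹ = ⁅n * x * n⁻¹, n * y * n⁻¹⁆ from
        map_commutatorElement (MulAut.conj n).toMonoidHom x y, hni]
      set c1 := x * (n * x * n) with hc1
      set c2 := y * (n * y * n) with hc2
      rw [ex, ey, commutatorElement_def (x⁻¹ * c1)]
      have k1 : Commute c1 (y⁻¹ * c2 * c1⁻¹ * x) := by
        have := hcx _ (Q.mul_mem (Q.inv_mem hy) (Q.mul_mem hy (L.nQ y hy)))
        exact (this.symm.mul_right (Commute.refl c1).inv_right).mul_right (hcx x hx).symm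
      calc x⁻¹ * c1 * (y⁻¹ * c2) * (x⁻¹ * c1)⁻¹ * (y⁻¹ * c2)⁻¹
          = x⁻¹ * (c1 * (y⁻¹ * c2 * c1⁻¹ * x)) * c2⁻¹ * y := by group
        _ = x⁻¹ * ((y⁻¹ * c2 * c1⁻¹ * x) * c1) * c2⁻¹ * y := by rw [k1.eq]
        _ = x⁻¹ * y⁻¹ * c2 * (c1⁻¹ * (x * c1)) * c2⁻¹ * y := by group
        _ = x⁻¹ * y⁻¹ * (c2 * x) * c2⁻¹ * y := by rw [(hcx x hx).eq]; group
        _ = x⁻¹ * y⁻¹ * (x * y) := by rw [← (hcy x hx).eq]; group
        _ = x⁻¹ * y⁻¹ * (⁅x, y⁆ * (y * x)) := by rw [commutatorElement_def]; group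
        _ = ⁅x, y⁆ := by
          rw [← mul_assoc, ((hz _ (Q.mul_mem (Q.inv_mem hx) (Q.inv_mem hy)))).eq]
          group
    calc ⁅x, y⁆ * n = (n * ⁅x, y⁆ * n⁻¹) * n := by rw [key]
      _ = n * ⁅x, y⁆ := by group
  exact (Subgroup.mem_centralizer_singleton_iff.mp
    (hle (L.dat.mem_commutator h ha ha1 hcQ (hc a ha)))).symm

/-- Every coset of the elements commuting with `X` has an inverted representative. -/
theorem exists_inverted {y : G} (hy : y ∈ Q) :
    ∃ z ∈ Q, n * z * n = z⁻¹ ∧ cj z X = cj y X := by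
  haveI := Fact.mk h.hq
  set c := y * (n * y * n) with hc
  have hcQ : c ∈ Q := Q.mul_mem hy (L.nQ y hy)
  have hcX := L.mul_conj_commute h hy
  have hodd : Odd (orderOf c) := by
    obtain ⟨m, hm⟩ := IsPGroup.iff_orderOf.mp L.dat.grp ⟨c, hcQ⟩
    rw [Subgroup.orderOf_mk] at hm
    rw [hm]
    exact (h.hq.odd_of_ne_two h.q2).pow
  obtain ⟨m, hm⟩ := hodd
  set d := c ^ (m + 1) with hd
  have hdd : d * d = c := by
    rw [hd, ← pow_add, show m + 1 + (m + 1) = (2 * m + 1) + 1 by ring, pow_succ, ← hm,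
      pow_orderOf_eq_one, one_mul]
  have hdQ : d ∈ Q := Q.pow_mem hcQ _
  have hdX : ∀ x ∈ X, Commute x d := fun x hx => (hcX x hx).pow_right _
  refine ⟨y * d⁻¹, Q.mul_mem hy (Q.inv_mem hdQ), ?_, ?_⟩
  · have hnd : n * d⁻¹ * n = d⁻¹ := by
      rw [(L.fixed_comm h hdQ hdX).inv_right.eq, mul_assoc, L.invol, mul_one]
    calc n * (y * d⁻¹) * n = (n * y * n) * (n * d⁻¹ * n) := by
          rw [show (n * y * n) * (n * d⁻¹ * n) = n * y * (n * n) * d⁻¹ * n by group, L.invol]
          group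
      _ = y⁻¹ * c * d⁻¹ := by rw [hnd, hc]; group
      _ = y⁻¹ * d := by rw [← hdd, mul_assoc, mul_inv_cancel_right]
      _ = (y * d⁻¹)⁻¹ := by
        rw [mul_inv_rev, inv_inv]
        exact (L.fixed_central h hdQ hdX (Subgroup.mem_sup_left (Q.inv_mem hy))).eq
  · rw [cj_mul, L.cj_eq_of_commute h fun x hx => (hdX x hx).inv_right]

/-- The elements of the pair commuting with `n`. -/
theorem fixed_in_pair {u : G} (hu : u ∈ Q ⊔ X) (hc : Commute n u) :
    ∃ c ∈ Q, (∀ x ∈ X, Commute x c) ∧ ∃ x ∈ X, u = c * x := by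
  haveI := Fact.mk h.hq
  obtain ⟨c, hcQ, b, hb, rfl⟩ := L.dat.toKern.mem_sup hu
  refine ⟨c, hcQ, ?_, b, hb, rfl⟩
  have hnc : Commute n c := by simpa using hc.mul_right (L.comm b hb).inv_right
  have h1 : ∀ x ∈ X, Commute x (c * c) := fun x hx => by
    have := L.mul_conj_commute h hcQ x hx
    rwa [hnc.eq, mul_assoc c n n, L.invol, mul_one] at this
  intro x hx
  have hodd : Odd (orderOf c) := by
    obtain ⟨m, hm⟩ := IsPGroup.iff_orderOf.mp L.dat.grp ⟨c, hcQ⟩
    rw [Subgroup.orderOf_mk] at hm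
    rw [hm]
    exact (h.hq.odd_of_ne_two h.q2).pow
  have hmem := mem_of_sq_mem (H := Subgroup.centralizer {x}) hodd
    (Subgroup.mem_centralizer_singleton_iff.mpr (h1 x hx).symm.eq)
  exact (Subgroup.mem_centralizer_singleton_iff.mp hmem).symm

/-- The elements of a pair times `n` are conjugate to `n` times a centralised element. -/
theorem conj_mul {u : G} (hu : u ∈ Q ⊔ X) :
    ∃ v : G, ∃ c ∈ Q, (∀ x ∈ X, Commute x c) ∧ ∃ x ∈ X, v * (u * n) * v⁻¹ = n * (c * x) := by
  have hodd : Odd (Nat.card ↥(Q ⊔ X)) := by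
    obtain ⟨B, hB, hne, hQ⟩ := L.pair
    rw [hQ, h.pair_card X L.dat.mem B hB hne]
    exact (h.hp.odd_of_ne_two h.p2).mul (h.hq.odd_of_ne_two h.q2).pow
  obtain ⟨v, -, r, hr, hnr, e⟩ := exists_conj_mul_invol hodd L.invol (fun u hu => by
    obtain ⟨y, hy, b, hb, rfl⟩ := L.dat.toKern.mem_sup hu
    have : n * (y * b) * n = (n * y * n) * b := by
      rw [mul_assoc n (y * b), mul_assoc y b n, ← (L.comm b hb).eq]
      group
    rw [this]
    exact mul_mem (Subgroup.mem_sup_left (L.nQ y hy)) (Subgroup.mem_sup_right hb)) hu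
  obtain ⟨c, hcQ, hcX, x, hx, rfl⟩ := L.fixed_in_pair h hr hnr
  exact ⟨v, c, hcQ, hcX, x, hx, e⟩

end Line

end CfsgLib.PairClosed
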