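import Cfsg.Agent.PairClosed.Nondeg
import Cfsg.Agent.PairClosed.Complement

/-!
# Classes of subgroups of order `p` generating pairwise a fixed group of odd order

* `PairSys.isSolvable`: a group generated by such a class is solvable.
* `exists_pairSys`: isomorphic pairs of odd order give a system with pairs of order `p * q ^ k`.
* `frobenius_quotient_center`: the quotient by the centre is a Frobenius group of odd order.
-/

set_option autoImplicit false
set_option linter.style.haveILetI false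
set_option maxHeartbeats 400000

namespace CfsgLib.PairClosed

open scoped commutatorElement

universe u v

theorem eq_one_of_mem_two {G : Type*} [Group G] [Finite G] {U Z : Subgroup G} {x : G}
    (hU : Odd (Nat.card U)) (hZ : Nat.card Z = 2) (hxU : x ∈ U) (hxZ : x ∈ Z) : x = 1 := by
  refine eq_one_of_sq_eq_one (hU.of_dvd_nat (Subgroup.orderOf_dvd_natCard U hxU)) ?_
  have h := Subgroup.orderOf_dvd_natCard Z hxZ
  rw [hZ] at h
  rw [← pow_two]
  exact orderOf_dvd_iff_pow_eq_one.mp h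

variable {p q k : ℕ} {ab : Prop}

theorem PairSys.odd_pair {G : Type u} [Group G] [Finite G] {D : Set (Subgroup G)}
    (h : PairSys p q k ab D) {A B : Subgroup G} (hA : A ∈ D) (hB : B ∈ D) :
    Odd (Nat.card ↥(A ⊔ B)) := by
  by_cases hne : A = B
  · rw [hne, sup_idem, h.card B hB]
    exact h.hp.odd_of_ne_two h.p2
  · rw [h.pair_card A hA B hB hne]
    exact (h.hp.odd_of_ne_two h.p2).mul (h.hq.odd_of_ne_two h.q2).pow

/-- Passing to the quotient by a central subgroup of order two. -/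
theorem PairSys.toQuot {G : Type u} [Group G] [Finite G] {D : Set (Subgroup G)}
    (h : PairSys p q k ab D) (Z : Subgroup G) [Z.Normal] (hZ : Nat.card Z = 2) :
    PairSys p q k ab (Subgroup.map (QuotientGroup.mk' Z) '' D) := by
  set π := QuotientGroup.mk' Z with hπ
  have hinj : ∀ U : Subgroup G, Odd (Nat.card U) → Nat.card (U.map π) = Nat.card U := by
    intro U hU
    refine (Nat.card_congr (Equiv.ofBijective (fun x : U => (⟨π x, Subgroup.mem_map_of_mem π x.2⟩ : U.map π))
      ⟨fun x y e => ?_, fun y => ?_⟩)).symm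
    · have h1 : (x : G)⁻¹ * y ∈ Z := QuotientGroup.eq.mp (congrArg Subtype.val e)
      exact Subtype.ext (inv_mul_eq_one.mp
        (eq_one_of_mem_two hU hZ (U.mul_mem (U.inv_mem x.2) y.2) h1))
    · obtain ⟨x, hx, e⟩ := y.2
      exact ⟨⟨x, hx⟩, Subtype.ext e⟩
  refine ⟨h.hp, h.hq, h.ne, h.p2, h.q2, ?_, ?_, ?_, ?_⟩
  · rintro _ ⟨A, hA, rfl⟩
    rw [hinj A (by rw [h.card A hA]; exact h.hp.odd_of_ne_two h.p2), h.card A hA]
  · rintro _ ⟨A, hA, rfl⟩ g
    obtain ⟨g, rfl⟩ := QuotientGroup.mk'_surjective Z g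
    refine ⟨cj g A, h.conj A hA g, ?_⟩
    rw [cj, cj, Subgroup.map_map, Subgroup.map_map]
    congr 1
  · rintro _ ⟨A, hA, rfl⟩ _ ⟨B, hB, rfl⟩ hne
    rw [← Subgroup.map_sup, hinj _ (h.odd_pair hA hB),
      h.pair_card A hA B hB fun e => hne (by rw [e])]
  · rintro _ ⟨A, hA, rfl⟩ _ ⟨B, hB, rfl⟩ hne
    rw [← h.pair_ab A hA B hB fun e => hne (by rw [e]), ← Subgroup.map_sup,
      ← Subgroup.map_commutator]
    constructor
    · intro hc x hx y hy
      have h1 := hc _ (Subgroup.mem_map_of_mem π hx) _ (Subgroup.mem_map_of_mem π hy)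
      refine commutatorElement_eq_one_iff_commute.mp (eq_one_of_mem_two (h.odd_pair hA hB) hZ ?_ ?_)
      · have hle : ⁅A ⊔ B, A ⊔ B⁆ ≤ A ⊔ B := Subgroup.commutator_le.mpr fun u hu w hw => by
          rw [commutatorElement_def]
          exact mul_mem (mul_mem (mul_mem hu hw) (inv_mem hu)) (inv_mem hw)
        rw [commutatorElement_def]
        exact mul_mem (mul_mem (mul_mem (hle hx) (hle hy)) (inv_mem (hle hx))) (inv_mem (hle hy))
      · refine (QuotientGroup.eq_one_iff _).mp ?_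
        show π ⁅x, y⁆ = 1
        rw [map_commutatorElement]
        exact commutatorElement_eq_one_iff_commute.mpr h1
    · rintro hc _ ⟨x, hx, rfl⟩ _ ⟨y, hy, rfl⟩
      exact (hc x hx y hy).map π

/-- A group generated by the members is solvable. -/
theorem PairSys.isSolvable : ∀ (G : Type u) [Group G] [Finite G] (D : Set (Subgroup G)),
    PairSys p q k ab D → sSup D = ⊤ → Group.IsSolvable G := by
  suffices key : ∀ N : ℕ, ∀ (G : Type u) [Group G] [Finite G] (D : Set (Subgroup G)),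
      Nat.card G = N → PairSys p q k ab D → sSup D = ⊤ → Group.IsSolvable G from
    fun G _ _ D h hgen => key _ G D rfl h hgen
  intro N
  induction N using Nat.strong_induction_on with
  | _ N ih =>
  intro G _ _ D hN h hgen
  by_contra hns
  by_cases hz : ∃ z : G, orderOf z = 2 ∧ z ∈ Subgroup.center G
  · obtain ⟨z, hz2, hzc⟩ := hz
    set Z := Subgroup.zpowers z with hZdef
    have hZc : Z ≤ Subgroup.center G := Subgroup.zpowers_le.mpr hzc
    haveI : Z.Normal := ⟨fun x hx g => by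
      rw [Subgroup.mem_center_iff.mp (hZc hx) g, mul_inv_cancel_right]
      exact hx⟩
    have hZ : Nat.card Z = 2 := by rw [hZdef, Nat.card_zpowers, hz2]
    have hlt : Nat.card (G ⧸ Z) < N := by
      have e := Subgroup.card_eq_card_quotient_mul_card_subgroup Z
      rw [hZ, hN] at e
      have : 0 < Nat.card (G ⧸ Z) := Nat.card_pos
      omega
    have hgen' : sSup (Subgroup.map (QuotientGroup.mk' Z) '' D) = ⊤ := by
      rw [eq_top_iff, ← Subgroup.map_top_of_surjective (QuotientGroup.mk' Z)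
        (QuotientGroup.mk'_surjective Z), ← hgen, Subgroup.map_le_iff_le_comap]
      exact sSup_le fun C hC => Subgroup.map_le_iff_le_comap.mp (le_sSup ⟨C, hC, rfl⟩)
    haveI := ih _ hlt (G ⧸ Z) _ rfl (h.toQuot Z hZ) hgen'
    haveI : Group.IsSolvable Z := Group.isSolvable_of_comm fun x y =>
      Subtype.ext (Subgroup.mem_center_iff.mp (hZc y.2) x)
    exact hns (Group.isSolvable_of_ker_le_range Z.subtype (QuotientGroup.mk' Z) (by simp))
  push Not at hz
  have hc : Crit p q k ab D := by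
    refine ⟨h, hgen, fun H hH hfull => ?_, hns, hz⟩
    have hlt : Nat.card H < N := hN ▸ lt_of_le_of_ne (Subgroup.card_le_card_group H)
      (fun e => hH (Subgroup.eq_top_of_card_eq H e))
    refine ih _ hlt H _ rfl (h.toSub H) ?_
    rw [eq_top_iff]
    intro x _
    have hle : H ≤ (sSup {A : Subgroup H | A.map H.subtype ∈ D}).map H.subtype := by
      refine hfull.trans (sSup_le fun C hC => ?_)
      have hC' : C.subgroupOf H ∈ {A : Subgroup H | A.map H.subtype ∈ D} := by
        show (C.subgroupOf H).map H.subtype ∈ D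
        rw [Subgroup.subgroupOf_map_subtype, inf_eq_left.mpr hC.2]
        exact hC.1
      have := Subgroup.map_mono (f := H.subtype) (le_sSup hC')
      rwa [Subgroup.subgroupOf_map_subtype, inf_eq_left.mpr hC.2] at this
    obtain ⟨y, hy, hyx⟩ := hle x.2
    rwa [← Subtype.ext (show (y : G) = x from hyx)]
  exact hc.absurd_crit

variable {G : Type u} [Group G] [Finite G] {D : Set (Subgroup G)}

/-- The shape of a nonabelian odd pair all of whose pairs of members generate it. -/
theorem exists_pair_card (hp : p.Prime) (hDp : ∀ A ∈ D, Nat.card A = p)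
    (hconj : ∀ A ∈ D, ∀ g : G, cj g A ∈ D) {A B : Subgroup G} (hA : A ∈ D) (hB : B ∈ D)
    (hne : A ≠ B) (hodd : Odd (Nat.card ↥(A ⊔ B)))
    (hcard : ∀ C ∈ D, A ≠ C → Nat.card ↥(A ⊔ C) = Nat.card ↥(A ⊔ B))
    (hnc : ¬ ∀ x ∈ A, ∀ y ∈ B, Commute x y) :
    ∃ r m, r.Prime ∧ p ≠ r ∧ r ≠ 2 ∧ Nat.card ↥(A ⊔ B) = p * r ^ m := by
  haveI := Fact.mk hp
  set U := A ⊔ B with hU
  haveI : Group.IsSolvable U := Cfsg.Agent.S0205.result hodd
  have hAne : A ≠ ⊥ := fun hb => hp.ne_one ((hDp A hA).symm.trans (by rw [hb, Subgroup.card_bot]))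
  obtain ⟨⟨a, ha⟩, ha'⟩ := Subgroup.ne_bot_iff_exists_ne_one.mp hAne
  have ha1 : a ≠ 1 := fun e => ha' (Subtype.ext e)
  have hz : Subgroup.zpowers a = A := zpowers_eq_of_card_prime hp (hDp A hA) ha ha1
  -- a conjugate of `A` inside the pair
  obtain ⟨u, hu, huA⟩ : ∃ u ∈ U, cj u A ≠ A := by
    by_contra hall
    push Not at hall
    apply hnc
    intro x hx y hy
    have hnorm : ∀ z ∈ A, y * z * y⁻¹ ∈ A := fun z hzA => by
      have := conj_mem_cj (g := y) hzA
      rwa [hall y (Subgroup.mem_sup_right hy)] at this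
    obtain ⟨j, hj⟩ : ∃ j : ℕ, a ^ j = y * a * y⁻¹ := by
      have h1 := hnorm a ha
      rw [← hz] at h1
      exact Submonoid.mem_powers_iff _ _ |>.mp (mem_powers_iff_mem_zpowers.mpr h1)
    have hpy : y ^ p = 1 := by
      have h1 := Subgroup.orderOf_dvd_natCard B hy
      rw [hDp B hB] at h1
      exact orderOf_dvd_iff_pow_eq_one.mp h1
    have hoa : orderOf a = p := by rw [← Nat.card_zpowers, hz, hDp A hA]
    have hiter : ∀ i : ℕ, y ^ i * a * (y ^ i)⁻¹ = a ^ j ^ i := by
      intro i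
      induction i with
      | zero => simp
      | succ i ih =>
        calc y ^ (i + 1) * a * (y ^ (i + 1))⁻¹ = y * (y ^ i * a * (y ^ i)⁻¹) * y⁻¹ := by
              rw [pow_succ']; group
          _ = y * a ^ j ^ i * y⁻¹ := by rw [ih]
          _ = (y * a * y⁻¹) ^ j ^ i := conj_pow.symm
          _ = a ^ j ^ (i + 1) := by rw [← hj, ← pow_mul, ← pow_succ']
    have hjp : a ^ j ^ p = a := by simpa [hpy] using (hiter p).symm
    have hj1 : a ^ j = a := by
      have h1 : j ^ p ≡ 1 [MOD p] := by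
        rw [← hoa]
        exact pow_eq_pow_iff_modEq.mp (by rw [hoa, hjp, pow_one])
      have h2 : (j : ZMod p) = 1 := by
        have := (ZMod.natCast_eq_natCast_iff _ _ _).mpr h1
        rwa [Nat.cast_pow, ZMod.pow_card, Nat.cast_one] at this
      conv_rhs => rw [← pow_one a]
      refine pow_eq_pow_iff_modEq.mpr ?_
      rw [hoa, ← ZMod.natCast_eq_natCast_iff, h2, Nat.cast_one]
    have hay : Commute y a := mul_inv_eq_iff_eq_mul.mp (hj.symm.trans hj1)
    rw [← hz] at hx
    obtain ⟨i, rfl⟩ := Subgroup.mem_zpowers_iff.mp hx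
    exact hay.symm.zpow_left i
  have hpairU : ∀ x ∈ U, cj x A ≠ A → A ⊔ cj x A = U := fun x hx hxA =>
    Subgroup.eq_of_le_of_card_ge (sup_le le_sup_left (cj_le hx le_sup_left))
      (hcard _ (hconj A hA x) hxA.symm).ge
  let aU : U := ⟨a, Subgroup.mem_sup_left ha⟩
  have hgen : Subgroup.normalClosure ({aU} : Set U) = ⊤ := by
    rw [eq_top_iff]
    intro x _
    set N := (Subgroup.normalClosure ({aU} : Set U)).map U.subtype with hN
    have hA' : A ≤ N := by
      rw [← hz, Subgroup.zpowers_le]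
      exact ⟨aU, Subgroup.subset_normalClosure rfl, rfl⟩
    have hB' : cj u A ≤ N := by
      rintro _ ⟨z, hzA, rfl⟩
      obtain ⟨w, hw, e⟩ := hA' hzA
      refine ⟨⟨u, hu⟩ * w * ⟨u, hu⟩⁻¹, Subgroup.normalClosure_normal.conj_mem w hw _, ?_⟩
      show u * (w : G) * u⁻¹ = u * z * u⁻¹
      rw [show (w : G) = z from e]
    obtain ⟨y, hy, hyx⟩ := ((hpairU u hu huA).ge.trans (sup_le hA' hB')) x.2
    rwa [← Subtype.ext (show (y : G) = x from hyx)]
  obtain ⟨r, hr, R, hRn, hRr, x, hx, hxa⟩ : ∃ r : ℕ, r.Prime ∧ ∃ R : Subgroup U, R.Normal ∧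
      IsPGroup r R ∧ ∃ x ∈ R, ¬ Commute aU x := by
    by_contra hcon
    push Not at hcon
    have hcomm := commute_all_of_normal_pgroups hgen hcon
    refine huA (cj_eq_of_eq ?_)
    intro z hzA
    have := congrArg Subtype.val (hcomm ⟨u, hu⟩ ⟨z, Subgroup.mem_sup_left hzA⟩)
    simp only [Subgroup.coe_mul] at this
    rw [this, mul_inv_cancel_right]
    exact hzA
  haveI := Fact.mk hr
  -- the pair is not a `p`-group
  have hnotp : ¬ IsPGroup p U := by
    intro hpg
    haveI : Group.IsNilpotent U := hpg.isNilpotent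
    have hne' : A.subgroupOf U ≠ ⊤ := fun e => huA (Subgroup.eq_of_le_of_card_ge
      (cj_le ((Subgroup.subgroupOf_eq_top.mp e) hu) le_rfl) (card_cj u A).ge)
    obtain ⟨M, hM, hAM⟩ := (eq_top_or_exists_le_coatom _).resolve_left hne'
    have h4 : Group.IsNilpotent U ↔ ∀ K : Subgroup U, IsCoatom K → K.Normal :=
      (Group.isNilpotent_of_finite_tfae (G := U)).out 0 2
    haveI : M.Normal := h4.mp inferInstance M hM
    refine hM.1 (top_le_iff.mp (hgen.ge.trans (Subgroup.normalClosure_le_normal ?_)))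
    exact Set.singleton_subset_iff.mpr (hAM (Subgroup.mem_subgroupOf.mpr ha))
  have hcardA : Nat.card (A.subgroupOf U) = p := by
    rw [Nat.card_congr (Subgroup.subgroupOfEquivOfLe (le_sup_left : A ≤ U)).toEquiv, hDp A hA]
  haveI := hRn
  have htop : R ⊔ A.subgroupOf U = ⊤ := by
    by_cases hxA : cj (x : G) A = A
    · -- the commutator lies in `A` and in `R`
      exfalso
      have hR : x * aU * x⁻¹ * aU⁻¹ ∈ R := by
        have := R.mul_mem hx (hRn.conj_mem _ (R.inv_mem hx) aU)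
        simpa [mul_assoc] using this
      have hm : (x : G) * a * (x : G)⁻¹ * a⁻¹ ∈ A :=
        A.mul_mem (hxA ▸ conj_mem_cj ha) (A.inv_mem ha)
      have hne1 : x * aU * x⁻¹ * aU⁻¹ ≠ 1 := fun e => hxa
        (mul_inv_eq_iff_eq_mul.mp (mul_inv_eq_one.mp e)).symm
      have hne1' : (x : G) * a * (x : G)⁻¹ * a⁻¹ ≠ 1 := fun e => hne1 (Subtype.ext e)
      have hAR : aU ∈ R := by
        have h1 : Subgroup.zpowers ((x : G) * a * (x : G)⁻¹ * a⁻¹) ≤ R.map U.subtype :=
          Subgroup.zpowers_le.mpr ⟨_, hR, rfl⟩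
        rw [zpowers_eq_of_card_prime hp (hDp A hA) hm hne1'] at h1
        obtain ⟨y, hy, e⟩ := h1 ha
        rwa [← Subtype.ext (show (y : G) = (aU : G) from e)]
      have hRt : R = ⊤ := top_le_iff.mp (hgen.ge.trans
        (Subgroup.normalClosure_le_normal (Set.singleton_subset_iff.mpr hAR)))
      have hpr : r = p := by
        obtain ⟨j, hj⟩ := IsPGroup.iff_orderOf.mp hRr ⟨aU, hAR⟩
        rw [Subgroup.orderOf_mk, ← Subgroup.orderOf_coe, show ((aU : U) : G) = a from rfl,
          ← Nat.card_zpowers, hz, hDp A hA] at hj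
        exact ((Nat.prime_dvd_prime_iff_eq hp hr).mp (hp.dvd_of_dvd_pow hj.dvd)).symm
      exact hnotp ((hpr ▸ hRr : IsPGroup p R).of_equiv
        ((MulEquiv.subgroupCongr hRt).trans Subgroup.topEquiv))
    · rw [eq_top_iff]
      intro z _
      have hA' : A ≤ (R ⊔ A.subgroupOf U).map U.subtype := fun w hw =>
        ⟨⟨w, Subgroup.mem_sup_left hw⟩, Subgroup.mem_sup_right (Subgroup.mem_subgroupOf.mpr hw), rfl⟩
      have hx' : (x : G) ∈ (R ⊔ A.subgroupOf U).map U.subtype :=
        ⟨x, Subgroup.mem_sup_left hx, rfl⟩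
      obtain ⟨y, hy, e⟩ := ((hpairU x x.2 hxA).ge.trans (sup_le hA' (cj_le hx' hA'))) z.2
      rwa [← Subtype.ext (show (y : G) = z from e)]
  have hrp : p ≠ r := by
    intro e
    subst e
    have h1 : IsPGroup p ↥(R ⊔ A.subgroupOf U) := IsPGroup.to_sup_of_normal_left hRr
      (IsPGroup.of_card (n := 1) (by rw [hcardA, pow_one]))
    rw [htop] at h1
    exact hnotp (h1.of_equiv Subgroup.topEquiv)
  obtain ⟨m, hm⟩ := hRr.exists_card_eq
  have hdisj : R ⊓ A.subgroupOf U = ⊥ := Subgroup.inf_eq_bot_of_coprime (by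
    rw [hm, hcardA]
    exact Nat.Coprime.pow_left m ((Nat.coprime_primes hr hp).mpr hrp.symm))
  have hcardU : Nat.card U = p * r ^ m := by
    rw [← (Subgroup.isComplement'_of_disjoint_and_mul_eq_univ (disjoint_iff.mpr hdisj)
      (by rw [← Subgroup.normal_mul, htop, Subgroup.coe_top])).card_mul_card, hm, hcardA, mul_comm]
  have hm0 : m ≠ 0 := by
    intro h0
    rw [h0, pow_zero, Subgroup.card_eq_one] at hm
    rw [hm, Subgroup.mem_bot] at hx
    exact hxa (hx ▸ Commute.one_right aU)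
  refine ⟨r, m, hr, hrp, fun e => ?_, hcardU⟩
  refine Nat.not_even_iff_odd.mpr hodd ?_
  rw [hcardU, e]
  exact (Nat.even_pow.mpr ⟨even_two, hm0⟩).mul_left p
where
  cj_eq_of_eq {G : Type u} [Group G] [Finite G] {A : Subgroup G} {u : G}
      (h : ∀ z ∈ A, u * z * u⁻¹ ∈ A) : cj u A = A :=
    Subgroup.eq_of_le_of_card_ge (by rintro _ ⟨z, hz, rfl⟩; exact h z hz) (card_cj u A).ge

/-- The quotient by the centre is a Frobenius group of odd order. -/
theorem frobenius_quotient_center (hG : ¬ IsMulCommutative G) (hp : p.Prime) (hp2 : p ≠ 2)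
    (hDp : ∀ A ∈ D, Nat.card A = p) (hconj : ∀ A ∈ D, ∀ g : G, cj g A ∈ D) (hgen : sSup D = ⊤)
    {F : Type v} [Group F] [Finite F] (hF : Odd (Nat.card F))
    (hpair : ∀ A ∈ D, ∀ B ∈ D, A ≠ B → Nonempty (↥(A ⊔ B) ≃* F)) :
    Odd (Nat.card (G ⧸ Subgroup.center G)) ∧
      ∃ H : Subgroup (G ⧸ Subgroup.center G), Cfsg.IsFrobeniusComplement H := by
  obtain ⟨A, hA, B, hB, hnc⟩ : ∃ A ∈ D, ∃ B ∈ D, ¬ ∀ x ∈ A, ∀ y ∈ B, Commute x y := by
    by_contra hall
    push Not at hall
    apply hG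
    have hle : ∀ A ∈ D, A ≤ Subgroup.center G := fun A hA x hx => by
      rw [Subgroup.mem_center_iff]
      intro g
      have h1 : (⊤ : Subgroup G) ≤ Subgroup.centralizer {x} := hgen ▸ sSup_le fun B hB y hy =>
        Subgroup.mem_centralizer_singleton_iff.mpr (hall A hA B hB x hx y hy).symm.eq
      exact Subgroup.mem_centralizer_singleton_iff.mp (h1 (Subgroup.mem_top g))
    exact ⟨⟨fun x y =>
      Subgroup.mem_center_iff.mp (((hgen ▸ sSup_le hle : (⊤ : Subgroup G) ≤ Subgroup.center G))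
        (Subgroup.mem_top y)) x⟩⟩
  have hne : A ≠ B := by
    rintro rfl
    apply hnc
    intro x hx y hy
    haveI := Fact.mk hp
    haveI : IsCyclic A := isCyclic_of_prime_card (hDp A hA)
    obtain ⟨g, hg⟩ := IsCyclic.exists_generator (α := A)
    obtain ⟨i, hi⟩ := hg ⟨x, hx⟩
    obtain ⟨j, hj⟩ := hg ⟨y, hy⟩
    have h1 : Commute (⟨x, hx⟩ : A) ⟨y, hy⟩ := by
      rw [← hi, ← hj]
      exact (Commute.refl g).zpow_zpow i j
    exact h1.map A.subtype
  have hcardF : ∀ A ∈ D, ∀ B ∈ D, A ≠ B → Nat.card ↥(A ⊔ B) = Nat.card F := fun A hA B hB hne =>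
    Nat.card_congr (hpair A hA B hB hne).some.toEquiv
  obtain ⟨q, k, hq, hpq, hq2, hcard⟩ := exists_pair_card hp hDp hconj hA hB hne
    (by rw [hcardF A hA B hB hne]; exact hF)
    (fun C hC hC' => (hcardF A hA C hC hC').trans (hcardF A hA B hB hne).symm) hnc
  have hsys : PairSys p q k (∀ x ∈ commutator F, ∀ y ∈ commutator F, Commute x y) D := by
    refine ⟨hp, hq, hpq, hp2, hq2, hDp, hconj, fun C hC E hE hCE => ?_, fun C hC E hE hCE => ?_⟩
    · rw [hcardF C hC E hE hCE, ← hcardF A hA B hB hne, hcard]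
    · obtain ⟨e⟩ := hpair C hC E hE hCE
      set U := C ⊔ E with hU
      have he : (commutator ↥U).map e.toMonoidHom = commutator F := by
        rw [commutator_def, commutator_def, Subgroup.map_commutator,
          Subgroup.map_top_of_surjective e.toMonoidHom e.surjective]
      rw [← he, ← Subgroup.map_subtype_commutator]
      constructor
      · rintro hc _ ⟨x, hx, rfl⟩ _ ⟨y, hy, rfl⟩
        exact Commute.map (Subtype.ext (hc _ ⟨x, hx, rfl⟩ _ ⟨y, hy, rfl⟩).eq : Commute x y)
          e.toMonoidHom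
      · rintro hc _ ⟨x, hx, rfl⟩ _ ⟨y, hy, rfl⟩
        have h1 := hc _ ⟨x, hx, rfl⟩ _ ⟨y, hy, rfl⟩
        have h2 : Commute x y := e.injective (by simpa using h1.eq)
        exact h2.map U.subtype
  haveI := PairSys.isSolvable G D hsys hgen
  exact hsys.quotient_center hgen hG

end CfsgLib.PairClosed
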