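import Cfsg.Agent.PairClosed.TwoBigs

/-!
# The nonabelian case

* `Crit.false_of_trivial`: the involution fixes more than one member.
* `Crit.mem_coreC_of_moved`: the fixed elements of moved pairs lie in the odd core of the centralizer.
* `Crit.false`: there is no minimal counterexample.
-/

set_option autoImplicit false
set_option linter.style.haveILetI false
set_option maxHeartbeats 400000

namespace CfsgLib.PairClosed

open scoped commutatorElement
open CfsgLib.ZStar

universe u

variable {G : Type u} [Group G] [Finite G] {p q k : ℕ} {ab : Prop} {D : Set (Subgroup G)}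

theorem cj_bigOf_le (h : PairSys p q k ab D) (g z : G) :
    cj g (bigOf D z) ≤ bigOf D (g * z * g⁻¹) := by
  refine Subgroup.map_le_iff_le_comap.mpr (sSup_le fun C hC => ?_)
  rw [← Subgroup.map_le_iff_le_comap]
  refine le_bigOf (h.conj C hC.1 g) ?_
  rintro _ ⟨x, hx, rfl⟩
  exact (hC.2 x hx).map (MulAut.conj g).toMonoidHom

theorem cj_bigOf_eq (h : PairSys p q k ab D) (g z : G) :
    cj g (bigOf D z) = bigOf D (g * z * g⁻¹) := by
  refine le_antisymm (cj_bigOf_le h g z) ?_
  have h1 := cj_bigOf_le h g⁻¹ (g * z * g⁻¹)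
  rw [show g⁻¹ * (g * z * g⁻¹) * g⁻¹⁻¹ = z by group] at h1
  have h2 := Subgroup.map_mono (f := (MulAut.conj g).toMonoidHom) h1
  change cj g (cj g⁻¹ (bigOf D (g * z * g⁻¹))) ≤ cj g (bigOf D z) at h2
  rwa [← cj_mul, mul_inv_cancel, cj_one] at h2

theorem Line.conj {n g : G} {X Q : Subgroup G} (L : Line D q n X Q) (h : PairSys p q k ab D)
    (hg : Commute n g) : Line D q n (cj g X) (cj g Q) := by
  have e : ∀ x, n * (g * x * g⁻¹) * n = g * (n * x * n) * g⁻¹ := fun x => by
    calc n * (g * x * g⁻¹) * n = (n * g) * x * (g⁻¹ * n) := by group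
      _ = (g * n) * x * (n * g⁻¹) := by rw [hg.eq, hg.inv_right.eq]
      _ = _ := by group
  refine ⟨L.invol, L.dat.conj h g, ?_, ?_, ?_, ?_⟩
  · obtain ⟨B, hB, hne, hQ⟩ := L.pair
    refine ⟨cj g B, h.conj B hB g, fun e => hne ?_, ?_⟩
    · exact Subgroup.map_injective (MulAut.conj g).injective e
    · show cj g Q ⊔ cj g X = cj g X ⊔ cj g B
      rw [cj, cj, cj, ← Subgroup.map_sup, hQ, Subgroup.map_sup]
  · rintro _ ⟨x, hx, rfl⟩
    exact (hg.mul_right (L.comm x hx)).mul_right hg.inv_right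
  · rintro _ ⟨x, hx, rfl⟩
    show n * (g * x * g⁻¹) * n ∈ cj g Q
    rw [e]
    exact conj_mem_cj (L.nQ x hx)
  · rintro _ ⟨x, hx, rfl⟩ hfix
    show cj (g * x * g⁻¹) (cj g X) = cj g X
    change cj n (cj (g * x * g⁻¹) (cj g X)) = cj (g * x * g⁻¹) (cj g X) at hfix
    rw [← cj_mul (g * x * g⁻¹) g, show g * x * g⁻¹ * g = g * x by group, cj_mul] at hfix ⊢
    rw [← cj_mul n g, hg.eq, cj_mul] at hfix
    rw [L.uniq x hx (Subgroup.map_injective (MulAut.conj g).injective hfix)]

namespace Crit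

variable (hc : Crit p q k ab D)

include hc

/-- The involution fixes more than one member. -/
theorem false_of_trivial {n : G} (hn : orderOf n = 2) {X : Subgroup G} (hX : X ∈ D)
    (hXf : cj n X = X) (hfix : fixedSub D n = X) : False := by
  haveI : Fact (Nat.Prime 2) := ⟨Nat.prime_two⟩
  have hnn : n * n = 1 := by rw [← pow_two, ← hn, pow_orderOf_eq_one]
  have h := hc.sys
  have honly : ∀ C ∈ D, cj n C = C → C = X := fun C hC hf => Subgroup.eq_of_le_of_card_ge
    (hfix ▸ le_fixedSub hC hf) (by rw [h.card X hX, h.card C hC])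
  have hiso : ∀ g : G, Commute n (g * n * g⁻¹) → g * n * g⁻¹ = n := by
    intro g hg
    set m := g * n * g⁻¹ with hm
    have hmm : m * m = 1 := by
      rw [hm, show g * n * g⁻¹ * (g * n * g⁻¹) = g * (n * n) * g⁻¹ by group, hnn, mul_one,
        mul_inv_cancel]
    have hmX : cj m X = X := by
      refine cj_eq_of_le fun x hx => ?_
      obtain ⟨y, hy, rfl⟩ := hx
      rw [← hfix] at hy ⊢
      exact hc.fixedSub_normalized hg hy
    have honly' : ∀ C ∈ D, cj m C = C → C = X := by
      intro C hC hf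
      have h0 : ∀ C ∈ D, cj m C = C → cj g⁻¹ C = X := fun C hC hf => honly _ (h.conj C hC _) (by
        conv_rhs => rw [← hf]
        rw [← cj_mul, ← cj_mul, hm]
        congr 1
        group)
      have e := (h0 C hC hf).trans (h0 X hX hmX).symm
      exact Subgroup.map_injective (MulAut.conj g⁻¹).injective e
    have hall : ∀ B ∈ D, cj (m * n) B = B := by
      intro B hB
      by_cases hBX : B = X
      · rw [hBX, cj_mul, hXf, hmX]
      obtain ⟨X', Q, L, hX'f, -, hQ, -⟩ :=
        h.exists_line hc.gen hnn hB fun e => hBX (honly B hB e)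
      obtain rfl := honly X' L.dat.mem hX'f
      obtain ⟨X'', Q', L', hX''f, -, hQ', -⟩ :=
        h.exists_line hc.gen hmm hB fun e => hBX (honly' B hB e)
      obtain rfl := honly' X'' L'.dat.mem hX''f
      have hQQ : Q ≤ Q' := L'.dat.le_kernel h L.dat.grp
        (le_sup_left.trans (hQ.le.trans hQ'.ge))
      obtain ⟨y, hy, rfl⟩ := L.dat.conj_member h hB (hQ ▸ le_sup_right)
      obtain ⟨z, hz, hnz, hzX⟩ := L.exists_inverted h hy
      rw [← hzX]
      have e1 : cj n (cj z X'') = cj z⁻¹ X'' := by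
        rw [← cj_mul, show n * z = (n * z * n) * n by rw [mul_assoc (n * z), hnn, mul_one], hnz,
          cj_mul, L.cj_fix]
      have e2 : cj m (cj z X'') = cj z⁻¹ X'' := by
        rw [← cj_mul, show m * z = z⁻¹ * (z * (m * z * m)) * m by
          rw [inv_mul_cancel_left, mul_assoc (m * z), hmm, mul_one], cj_mul, L'.cj_fix, cj_mul,
          L'.cj_eq_of_commute h (L'.mul_conj_commute h (hQQ hz))]
      rw [cj_mul, e1, ← e2, cj_involutive hmm]
    have hjj : (m * n) * (m * n) = 1 := by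
      calc (m * n) * (m * n) = m * (n * m) * n := by group
        _ = m * (m * n) * n := by rw [hg.eq]
        _ = (m * m) * (n * n) := by group
        _ = 1 := by rw [hmm, hnn, mul_one]
    have hjc : m * n ∈ Subgroup.center G := by
      rw [Subgroup.mem_center_iff]
      intro x
      have hle : (⊤ : Subgroup G) ≤ Subgroup.centralizer {m * n} := by
        rw [← hc.gen]
        exact sSup_le fun C hC y hy => Subgroup.mem_centralizer_singleton_iff.mpr
          (h.centralizes_fixed hc.gen hjj hC (hall C hC) y hy).symm.eq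
      exact Subgroup.mem_centralizer_singleton_iff.mp (hle (Subgroup.mem_top x))
    have hj1 : m * n = 1 := by
      by_contra hne
      exact hc.noinv _ (orderOf_eq_prime (by rw [pow_two, hjj]) hne) hjc
    calc m = (m * n) * n := by rw [mul_assoc, hnn, mul_one]
      _ = n := by rw [hj1, one_mul]
  have hcore := mem_core_of_oddComm (oddComm_of_isolated hn hiso)
  set O := Cfsg.pPrimeCore 2 G with hO
  haveI : O.Normal := Cfsg.pPrimeCore_normal 2 G
  have hOodd : Odd (Nat.card O) := Nat.not_even_iff_odd.mp fun he =>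
    Constrained.pPrimeCore_not_dvd (p := 2) (G := G) (even_iff_two_dvd.mp he)
  have hle : (⊤ : Subgroup G) ≤ O ⊔ X := by
    rw [← hc.gen]
    refine sSup_le fun B hB => ?_
    by_cases hBX : B = X
    · exact hBX ▸ le_sup_right
    obtain ⟨X', Q, L, hX'f, -, hQ, -⟩ :=
      h.exists_line hc.gen hnn hB fun e => hBX (honly B hB e)
    obtain rfl := honly X' L.dat.mem hX'f
    obtain ⟨y, hy, rfl⟩ := L.dat.conj_member h hB (hQ ▸ le_sup_right)
    obtain ⟨z, hz, hnz, hzX⟩ := L.exists_inverted h hy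
    rw [← hzX]
    refine cj_le (Subgroup.mem_sup_left ?_) le_sup_right
    refine mem_of_sq_mem (h.odd_orderOf L.dat.grp hz) ?_
    have e : z * n * z⁻¹ * n⁻¹ = z * z := by
      rw [inv_eq_self hnn, show z * n * z⁻¹ * n = z * (n * z⁻¹ * n) by group]
      congr 1
      rw [← hnz]
      calc n * (n * z * n) * n = (n * n) * z * (n * n) := by group
        _ = z := by rw [hnn, one_mul, mul_one]
    exact e ▸ hcore z
  refine hc.nsolv ?_
  have hX' : Group.IsSolvable ↥X := by
    have := h.isSolvable_pair hX hX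
    rwa [sup_idem] at this
  have hs := Cores.isSolvable_sup (Cfsg.Agent.S0205.result hOodd) hX'
  rw [top_le_iff.mp hle] at hs
  haveI := hs
  exact Group.isSolvable_of_surjective (f := (Subgroup.topEquiv : _ ≃* G).toMonoidHom)
    Subgroup.topEquiv.surjective

/-- The fixed elements of a proper subgroup preserved by the centralizer lie in its odd core. -/
theorem mem_coreC_preserved {n : G} {H A : Subgroup G} (hH : H ≠ ⊤) (hfull : Full D H) (hA : A ∈ D)
    (hAH : A ≤ H) (hpres : ∀ g, Commute n g → cj g H ≤ H) {x : G} (hx : x ∈ H) (hxn : Commute n x) :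
    x ∈ coreC 2 (Subgroup.zpowers n) := by
  obtain ⟨R, dR, hR, -⟩ := hc.exists_kernel hH hfull hA hAH
  refine mem_coreC_of_normal (H ⊓ Subgroup.centralizer {n})
    (fun y hy => (Subgroup.mem_centralizer_singleton_iff.mp hy.2 : y * n = n * y).symm)
    ((hR ▸ dR.odd_card hc.sys : Odd (Nat.card ↥H)).of_dvd_nat (Subgroup.card_dvd_of_le inf_le_left))
    (fun g hg y hy => ⟨hpres g hg (conj_mem_cj hy.1), ?_⟩)
    ⟨hx, Subgroup.mem_centralizer_singleton_iff.mpr hxn.symm.eq⟩
  have hy' : Commute n y := (Subgroup.mem_centralizer_singleton_iff.mp hy.2 : y * n = n * y).symm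
  exact Subgroup.mem_centralizer_singleton_iff.mpr
    ((hg.mul_right hy').mul_right hg.inv_right).symm.eq

/-- A fixed element of a moved pair lies in the odd core of the centralizer. -/
theorem mem_coreC_of_moved (hab : ¬ ab) {n : G} (hn : orderOf n = 2) {X Q : Subgroup G}
    (L : Line D q n X Q) {c : G} (hcQ : c ∈ Q) (hcX : ∀ x ∈ X, Commute x c) :
    c ∈ coreC 2 (Subgroup.zpowers n) := by
  haveI := Fact.mk hc.sys.hq
  have h := hc.sys
  have hnn := L.invol
  have hcn : Commute n c := L.fixed_comm h hcQ hcX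
  by_cases hcZ : c ∈ Subgroup.center G
  · refine mem_coreC_of_normal (Subgroup.zpowers c) (fun y hy => ?_)
      (by rw [Nat.card_zpowers]; exact h.odd_orderOf L.dat.grp hcQ) (fun g _ y hy => ?_)
      (Subgroup.mem_zpowers c)
    · obtain ⟨j, rfl⟩ := Subgroup.mem_zpowers_iff.mp hy
      exact hcn.zpow_right j
    · obtain ⟨j, rfl⟩ := Subgroup.mem_zpowers_iff.mp hy
      rw [Subgroup.mem_center_iff.mp (zpow_mem hcZ j) g, mul_inv_cancel_right]
      exact Subgroup.zpow_mem _ (Subgroup.mem_zpowers c) j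
  have hpiv : Piv D q c Q X := ⟨L.dat, hcQ, hcX, hcZ⟩
  obtain ⟨a, ha, ha1⟩ := h.exists_mem_ne_one L.dat.mem
  have hXL : X ≤ bigOf D c := le_sup_right.trans (hpiv.self_le h)
  have hcL : c ∈ bigOf D c := hpiv.self_le h (Subgroup.mem_sup_left hcQ)
  obtain ⟨S, dS, hS, -⟩ := hc.exists_fixed_kernel hn L.dat.mem L.cj_fix
  have hnS : ∀ x ∈ S, Commute n x := fun x hx =>
    hc.commute_fixedSub hnn (hS ▸ Subgroup.mem_sup_left hx)
  have hFix : ∀ g, Commute n g → cj g (fixedSub D n) ≤ fixedSub D n := fun g hg => by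
    rintro _ ⟨x, hx, rfl⟩
    exact hc.fixedSub_normalized hg hx
  have hqc : ∃ m, c ^ q ^ m = 1 := by
    obtain ⟨m, hm⟩ := L.dat.grp ⟨c, hcQ⟩
    exact ⟨m, congrArg Subtype.val hm⟩
  by_cases hdeg : ∃ s ∈ S, Commute a s ∧ s ∉ Subgroup.center G
  · -- a noncentral element above the fixed members
    obtain ⟨s, hs, hsa, hsZ⟩ := hdeg
    have hpS : Piv D q s S X :=
      ⟨dS, hs, fun x hx => dS.commute_pow h ha ha1 hsa hx, hsZ⟩
    have hFL : fixedSub D n ≤ bigOf D s := hS ▸ hpS.self_le h
    have hpres : ∀ g, Commute n g → cj g (bigOf D s) ≤ bigOf D s := fun g hg =>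
      (hpS.cj_bigOf hc ((hS.symm ▸ hFix g hg : cj g (S ⊔ X) ≤ fixedSub D n).trans hFL)).le
    have hXs : X ≤ bigOf D s := le_sup_right.trans (hpS.self_le h)
    suffices he : bigOf D c = bigOf D s from
      hc.mem_coreC_preserved (bigOf_ne_top hsZ) (full_bigOf s) L.dat.mem hXs hpres (he ▸ hcL) hcn
    by_contra hne
    obtain ⟨P0, d0, h0, -⟩ := hc.exists_kernel (bigOf_ne_top hsZ) (full_bigOf s) L.dat.mem hXs
    obtain ⟨P1, d1, h1, -⟩ := hc.exists_kernel (bigOf_ne_top hcZ) (full_bigOf c) L.dat.mem hXL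
    have hn0 : ∀ g, Commute n g → ∀ x ∈ P0, g * x * g⁻¹ ∈ P0 := fun g hg x hx =>
      d0.conj_mem h (h0.symm ▸ hpres g hg) hx
    have hnL : cj n (bigOf D c) ≤ bigOf D c := by
      refine (hpiv.cj_bigOf hc (le_trans ?_ (hpiv.self_le h))).le
      rw [cj, Subgroup.map_sup]
      refine sup_le_sup ?_ L.cj_fix.le
      rintro _ ⟨x, hx, rfl⟩
      show n * x * n⁻¹ ∈ Q
      rw [inv_eq_self hnn]
      exact L.nQ x hx
    set R := P0 ⊓ Subgroup.centralizer {a} ⊓ Subgroup.centralizer {n} with hR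
    have hcR : ∀ x ∈ R, c * x * c⁻¹ ∈ R := by
      rintro x ⟨⟨hx, hxa⟩, hxn⟩
      have hxa' : Commute a x := (Subgroup.mem_centralizer_singleton_iff.mp hxa : x * a = a * x).symm
      have hxn' : Commute n x := (Subgroup.mem_centralizer_singleton_iff.mp hxn : x * n = n * x).symm
      exact ⟨⟨hn0 c hcn x hx, Subgroup.mem_centralizer_singleton_iff.mpr
        (((hcX a ha).mul_right hxa').mul_right (hcX a ha).inv_right).symm.eq⟩,
        Subgroup.mem_centralizer_singleton_iff.mpr
        ((hcn.mul_right hxn').mul_right hcn.inv_right).symm.eq⟩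
    have hsR : s ∈ R := by
      refine ⟨⟨d0.le_kernel h dS.grp (le_sup_left.trans (hS.le.trans (hFL.trans h0.ge))) hs,
        Subgroup.mem_centralizer_singleton_iff.mpr hsa.symm.eq⟩,
        Subgroup.mem_centralizer_singleton_iff.mpr (hnS s hs).symm.eq⟩
    obtain ⟨t, ⟨⟨htP, hta'⟩, htn'⟩, htZ, htc⟩ := exists_commutator_mem (P := R)
      (Z := Subgroup.center G) (d0.grp.to_le (inf_le_left.trans inf_le_left)) hcR hqc hsR hsZ
    have hta : Commute t a := Subgroup.mem_centralizer_singleton_iff.mp hta'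
    have htn : Commute t n := Subgroup.mem_centralizer_singleton_iff.mp htn'
    have ht0 : ∀ x ∈ bigOf D s, Commute x t := fun x hx =>
      d0.fixed_central h ha ha1 htP hta.symm (h0.symm ▸ hx)
    have htL : cj t (bigOf D c) ≤ bigOf D c := by
      refine Subgroup.map_le_iff_le_comap.mpr (sSup_le fun C hC => ?_)
      rw [← Subgroup.map_le_iff_le_comap]
      refine le_bigOf (h.conj C hC.1 t) ?_
      rintro _ ⟨x, hx, rfl⟩
      show Commute (t * x * t⁻¹) c
      have e : c = ⁅c, t⁆ * (t * c * t⁻¹) := by rw [commutatorElement_def]; group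
      rw [e]
      exact Commute.mul_right (Subgroup.mem_center_iff.mp htc _)
        ((hC.2 x hx).map (MulAut.conj t).toMonoidHom)
    have htP1 : ∀ x ∈ P1, t * x * t⁻¹ ∈ P1 := fun x hx => d1.conj_mem h (h1.symm ▸ htL) hx
    have hquad : ∀ u ∈ ⁅P1, P1⁆, Commute n u → Commute t ⁅t, u⁆ := by
      intro u hu hnu
      have hu1 : u ∈ P1 := (Subgroup.commutator_le.mpr fun x hx y hy => by
        rw [commutatorElement_def]
        exact P1.mul_mem (P1.mul_mem (P1.mul_mem hx hy) (P1.inv_mem hx)) (P1.inv_mem hy) :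
        ⁅P1, P1⁆ ≤ P1) hu
      have hua : Commute a u := (d1.central h hab hu).2 a ha
      set w := ⁅t, u⁆ with hw
      have hw1 : w ∈ P1 := by
        rw [hw, commutatorElement_def]
        exact P1.mul_mem (htP1 u hu1) (P1.inv_mem hu1)
      have hw0 : w ∈ P0 := by
        rw [hw, show ⁅t, u⁆ = t * (u * t⁻¹ * u⁻¹) by rw [commutatorElement_def]; group]
        exact P0.mul_mem htP (hn0 u hnu _ (P0.inv_mem htP))
      have hwa : Commute a w := by
        rw [hw, commutatorElement_def]
        exact ((hta.symm.mul_right hua).mul_right hta.symm.inv_right).mul_right hua.inv_right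
      by_cases hwZ : w ∈ Subgroup.center G
      · exact (Subgroup.mem_center_iff.mp hwZ t :)
      · exfalso
        apply hne
        rw [← hpiv.bigOf_eq hc hwZ fun x hx => d1.fixed_central h ha ha1 hw1 hwa (h1.symm ▸ hx),
          ← hpS.bigOf_eq hc hwZ fun x hx => d0.fixed_central h ha ha1 hw0 hwa (h0.symm ▸ hx)]
    have hnP1 : ∀ x ∈ P1, n * x * n ∈ P1 := fun x hx => by
      have := d1.conj_mem h (g := n) (h1.symm ▸ hnL) hx
      rwa [inv_eq_self hnn] at this
    have htq : ∃ m, t ^ q ^ m = 1 := by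
      obtain ⟨m, hm⟩ := d0.grp ⟨t, htP⟩
      exact ⟨m, congrArg Subtype.val hm⟩
    apply hne
    rw [← hpS.bigOf_eq hc htZ ht0]
    exact (hpiv.bigOf_eq hc htZ fun x hx => d1.commute_of_quadratic h hab ha ha1 hnn (L.comm a ha)
      hnP1 htP1 htq hta htn hquad (h1.symm ▸ hx)).symm
  -- every such element is central
  have hdeg' : ∀ s ∈ S, Commute a s → s ∈ Subgroup.center G := fun s hs hsa => by
    by_contra hsZ
    exact hdeg ⟨s, hs, hsa, hsZ⟩
  by_cases hbot : S = ⊥
  · rw [hbot, bot_sup_eq] at hS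
    exact (hc.false_of_trivial hn L.dat.mem L.cj_fix hS.symm).elim
  have hcS : ∀ x ∈ S, c * x * c⁻¹ ∈ S := fun x hx =>
    dS.conj_mem h (hS.symm ▸ hFix c hcn) hx
  have hquad : ∀ u ∈ ⁅S, S⁆, Commute n u → Commute c ⁅c, u⁆ := by
    intro u hu _
    have hu1 : u ∈ S := (Subgroup.commutator_le.mpr fun x hx y hy => by
      rw [commutatorElement_def]
      exact S.mul_mem (S.mul_mem (S.mul_mem hx hy) (S.inv_mem hx)) (S.inv_mem hy) : ⁅S, S⁆ ≤ S) hu
    have hua : Commute a u := (dS.central h hab hu).2 a ha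
    refine (Subgroup.mem_center_iff.mp (hdeg' _ ?_ ?_) c :)
    · rw [commutatorElement_def]
      exact S.mul_mem (hcS u hu1) (S.inv_mem hu1)
    · rw [commutatorElement_def]
      exact (((hcX a ha).mul_right hua).mul_right (hcX a ha).inv_right).mul_right hua.inv_right
  have hcF : ∀ x ∈ fixedSub D n, Commute x c := fun x hx =>
    dS.commute_of_quadratic h hab ha ha1 hnn (L.comm a ha) (fun y hy => by
      rw [(hnS y hy).eq, mul_assoc, hnn, mul_one]; exact hy) hcS hqc (hcX a ha).symm hcn.symm hquad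
      (hS.symm ▸ hx)
  have hFc : fixedSub D n ≤ bigOf D c :=
    sSup_le fun C hC => le_bigOf hC.1 fun x hx => hcF x (le_fixedSub hC.1 hC.2 hx)
  by_cases hstab : ∀ g, Commute n g → cj g X = X → cj g (bigOf D c) ≤ bigOf D c
  · refine hc.mem_coreC_preserved (bigOf_ne_top hcZ) (full_bigOf c) L.dat.mem hXL
      (fun g hg => ?_) hcL hcn
    have hgX : cj n (cj g X) = cj g X := by rw [← cj_mul, hg.eq, cj_mul, L.cj_fix]
    obtain ⟨s, hs, e⟩ := dS.conj_member h (h.conj X L.dat.mem g)
      ((le_fixedSub (h.conj X L.dat.mem g) hgX).trans hS.ge)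
    rw [show g = s * (s⁻¹ * g) by group, cj_mul]
    refine (Subgroup.map_mono (hstab _ ((hnS s hs).inv_right.mul_right hg) ?_)).trans
      (cj_le (hFc (hS ▸ Subgroup.mem_sup_left hs)) le_rfl)
    rw [cj_mul, ← e, ← cj_mul, inv_mul_cancel, cj_one]
  push Not at hstab
  obtain ⟨g, hgn, hgX, hg⟩ := hstab
  have hpiv2 : Piv D q (g * c * g⁻¹) (cj g Q) X := by
    have := hpiv.conj h g
    rwa [hgX] at this
  have L2 : Line D q n X (cj g Q) := by
    have := L.conj h hgn
    rwa [hgX] at this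
  have hF2 : fixedSub D n ≤ bigOf D (g * c * g⁻¹) := by
    have h1 : cj g (fixedSub D n) = fixedSub D n := cj_eq_of_le (hFix g hgn)
    rw [← h1, ← cj_bigOf_eq h]
    exact Subgroup.map_mono hFc
  obtain ⟨P1, d1, h1, -⟩ := hc.exists_kernel (bigOf_ne_top hcZ) (full_bigOf c) L.dat.mem hXL
  obtain ⟨P2, d2, h2, -⟩ := hc.exists_kernel (bigOf_ne_top hpiv2.nc) (full_bigOf _) L.dat.mem
    (le_sup_right.trans (hpiv2.self_le h))
  have T : TwoBigs p q k ab D n a X S P1 P2 :=
    { crit := hc
      nab := hab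
      hn := hnn
      mem := ha
      ne_one := ha1
      base := dS
      sup := hS
      deg := hdeg'
      ne_bot := hbot
      left := ⟨d1, h1.symm ▸ bigOf_ne_top hcZ, h1.symm ▸ hFc, c, Q, L, hpiv, h1.symm⟩
      right := ⟨d2, h2.symm ▸ bigOf_ne_top hpiv2.nc, h2.symm ▸ hF2, _, _, L2, hpiv2, h2.symm⟩
      ne := fun e => hg (by
        rw [h1, h2, ← cj_bigOf_eq h] at e
        rw [← e]) }
  exact T.absurd_two.elim

/-- There is no minimal counterexample. -/
theorem absurd_crit : False := by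
  by_cases hab : ab
  · exact hc.false_of_abelian hab
  obtain ⟨n, hn, -, A, hA, hf⟩ := hc.exists_involution
  exact hc.false_of_lines hn hA hf fun X Q L c hcQ hcX => hc.mem_coreC_of_moved hab hn L hcQ hcX

end Crit

end CfsgLib.PairClosed
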