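import Cfsg.Agent.PairClosed.Big
import Cfsg.Agent.Cores.GenFitting

/-!
# Two maximal subgroups above the fixed members of an involution

* `Side D q n X a S P`: `P ⊔ X` is a maximal proper subgroup containing the fixed members `S ⊔ X`,
  obtained from a pair through `X` moved by `n`.
* `TwoBigs`: two different such subgroups, the fixed members having only central fixed kernel elements.
* `TwoBigs.normal_X0`, `TwoBigs.solvable_X0`: the subgroup generated by `S`, the inverted commutators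
  of both sides and the centre is normal and solvable.
-/

set_option autoImplicit false
set_option linter.style.haveILetI false
set_option maxHeartbeats 400000

namespace CfsgLib.PairClosed

open scoped commutatorElement

universe u

variable {G : Type u} [Group G] [Finite G] {p q k : ℕ} {ab : Prop} {D : Set (Subgroup G)}

theorem le_normalizer_of_conj {K H : Subgroup G} (h : ∀ g ∈ K, ∀ x ∈ H, g * x * g⁻¹ ∈ H) :
    K ≤ Subgroup.normalizer (H : Set G) := by
  intro g hg
  rw [Subgroup.mem_normalizer_iff]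
  intro x
  refine ⟨h g hg x, fun hx => ?_⟩
  have := h g⁻¹ (K.inv_mem hg) _ hx
  simpa [mul_assoc] using this

omit [Finite G] in
/-- An element is the product of a fixed and an inverted one. -/
theorem exists_split {P : Subgroup G} {n : G} (hn : n * n = 1) (hnP : ∀ x ∈ P, n * x * n ∈ P)
    (hodd : ∀ x ∈ P, Odd (orderOf x)) {x : G} (hx : x ∈ P) :
    ∃ w ∈ P, ∃ y ∈ P, Commute n w ∧ n * y * n = y⁻¹ ∧ x = w * y := by
  have hni := inv_eq_self hn
  set z := x⁻¹ * (n * x * n) with hz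
  have hzP : z ∈ P := P.mul_mem (P.inv_mem hx) (hnP x hx)
  obtain ⟨m, hm⟩ := exists_pow_sq (hodd z hzP)
  set y := z ^ m with hy
  have hnz : n * z * n = z⁻¹ := by
    calc n * z * n = n * x⁻¹ * n * (x * (n * n)) := by rw [hz]; group
      _ = n⁻¹ * x⁻¹ * n⁻¹ * x := by rw [hn, mul_one, hni]
      _ = z⁻¹ := by rw [hz]; group
  have hny : n * y * n = y⁻¹ := by
    calc n * y * n = n * z ^ m * n⁻¹ := by rw [hy, hni]
      _ = (n * z * n⁻¹) ^ m := conj_pow.symm
      _ = y⁻¹ := by rw [hni, hnz, inv_pow]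
  have hyP : y ∈ P := P.pow_mem hzP m
  have hny' : n * y⁻¹ * n = y⁻¹⁻¹ := by
    calc n * y⁻¹ * n = (n * y * n)⁻¹ := by rw [mul_inv_rev, mul_inv_rev, hni]; group
      _ = y⁻¹⁻¹ := by rw [hny]
  refine ⟨x * y, P.mul_mem hx hyP, y⁻¹, P.inv_mem hyP, ?_, hny', by group⟩
  have e : n * (x * y) * n = x * y := by
    calc n * (x * y) * n = n * x * (n * n) * y * n := by rw [hn]; group
      _ = (n * x * n) * (n * y * n) := by group
      _ = (x * (y * y)) * y⁻¹ := by rw [hny, hm, hz]; group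
      _ = x * y := by group
  show n * (x * y) = x * y * n
  calc n * (x * y) = n * (x * y) * (n * n) := by rw [hn, mul_one]
    _ = (n * (x * y) * n) * n := by group
    _ = x * y * n := by rw [e]

/-- The subgroup generated by the commutators of `S` with the inverted elements of `P`. -/
def invComm (S P : Subgroup G) (n : G) : Subgroup G :=
  Subgroup.closure {u | ∃ x ∈ S, ∃ y ∈ P, n * y * n = y⁻¹ ∧ u = ⁅x, y⁆}

/-- A maximal subgroup through a moved pair at `X` above the fixed members. -/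
structure Side (D : Set (Subgroup G)) (q : ℕ) (n : G) (X P : Subgroup G) : Prop where
  dat : Data D q P X
  top : P ⊔ X ≠ ⊤
  fixed : fixedSub D n ≤ P ⊔ X
  piv : ∃ c Q, Line D q n X Q ∧ Piv D q c Q X ∧ bigOf D c = P ⊔ X

/-- Two different maximal subgroups above fixed members whose central elements are central. -/
structure TwoBigs (p q k : ℕ) (ab : Prop) (D : Set (Subgroup G)) (n a : G)
    (X S P1 P2 : Subgroup G) : Prop where
  crit : Crit p q k ab D
  nab : ¬ ab
  hn : n * n = 1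
  mem : a ∈ X
  ne_one : a ≠ 1
  base : Data D q S X
  sup : S ⊔ X = fixedSub D n
  deg : ∀ s ∈ S, Commute a s → s ∈ Subgroup.center G
  ne_bot : S ≠ ⊥
  left : Side D q n X P1
  right : Side D q n X P2
  ne : P1 ⊔ X ≠ P2 ⊔ X

namespace TwoBigs

variable {n a : G} {X S P1 P2 : Subgroup G} (T : TwoBigs p q k ab D n a X S P1 P2)

include T

theorem symm : TwoBigs p q k ab D n a X S P2 P1 :=
  ⟨T.crit, T.nab, T.hn, T.mem, T.ne_one, T.base, T.sup, T.deg, T.ne_bot, T.right, T.left, T.ne.symm⟩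

theorem comm_na : Commute n a := by
  obtain ⟨c, Q, L, -, -⟩ := T.left.piv
  exact L.comm a T.mem

theorem comm_nS {x : G} (hx : x ∈ S) : Commute n x :=
  T.crit.commute_fixedSub T.hn (T.sup ▸ Subgroup.mem_sup_left hx)

theorem S_le : S ≤ P1 :=
  T.left.dat.le_kernel T.crit.sys T.base.grp
    (le_sup_left.trans (T.sup.le.trans T.left.fixed))

theorem nP {x : G} (hx : x ∈ P1) : n * x * n ∈ P1 := by
  have h1 := T.left.dat.conj_mem T.crit.sys (g := n) (T.crit.sys.cj_le_of_fixed T.crit.gen T.hn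
    T.left.dat.full fun C hC hCn => (le_fixedSub hC hCn).trans T.left.fixed) hx
  rwa [inv_eq_self T.hn] at h1

theorem odd_mem {x : G} (hx : x ∈ P1) : Odd (orderOf x) :=
  T.crit.sys.odd_orderOf T.left.dat.grp hx

theorem central_mem {z : G} (hz : z ∈ P1) (hza : Commute a z) {g : G} (hg : g ∈ P1 ⊔ X) :
    Commute g z :=
  T.left.dat.fixed_central T.crit.sys T.mem T.ne_one hz hza hg

theorem derived_mem {x y : G} (hx : x ∈ P1) (hy : y ∈ P1) :
    ⁅x, y⁆ ∈ P1 ∧ Commute a ⁅x, y⁆ :=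
  ⟨by
    rw [commutatorElement_def]
    exact P1.mul_mem (P1.mul_mem (P1.mul_mem hx hy) (P1.inv_mem hx)) (P1.inv_mem hy),
   (T.left.dat.central T.crit.sys T.nab (Subgroup.commutator_mem_commutator hx hy)).2 a T.mem⟩

theorem comm_center {x y : G} (hx : x ∈ S) (hy : y ∈ S) : ⁅x, y⁆ ∈ Subgroup.center G := by
  refine T.deg _ ?_ ((T.base.central T.crit.sys T.nab
    (Subgroup.commutator_mem_commutator hx hy)).2 a T.mem)
  rw [commutatorElement_def]
  exact S.mul_mem (S.mul_mem (S.mul_mem hx hy) (S.inv_mem hx)) (S.inv_mem hy)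

theorem invComm_le : invComm S P1 n ≤ P1 ⊓ Subgroup.centralizer {a} := by
  refine (Subgroup.closure_le _).mpr ?_
  rintro _ ⟨x, hx, y, hy, -, rfl⟩
  exact ⟨(T.derived_mem (T.S_le hx) hy).1,
    Subgroup.mem_centralizer_singleton_iff.mpr (T.derived_mem (T.S_le hx) hy).2.symm.eq⟩

theorem invComm_comm {u g : G} (hu : u ∈ invComm S P1 n) (hg : g ∈ P1 ⊔ X) : Commute g u :=
  T.central_mem (T.invComm_le hu).1
    (Subgroup.mem_centralizer_singleton_iff.mp (T.invComm_le hu).2 :  u * a = a * u).symm hg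

theorem inv_commutator {x y : G} (hx : x ∈ P1) (hy : y ∈ P1) : ⁅x, y⁻¹⁆ = ⁅x, y⁆⁻¹ := by
  have hd := T.derived_mem hx hy
  calc ⁅x, y⁻¹⁆ = y⁻¹ * ⁅x, y⁆⁻¹ * y := by simp only [commutatorElement_def]; group
    _ = _ := by
      rw [(T.central_mem hd.1 hd.2 (Subgroup.mem_sup_left (P1.inv_mem hy))).inv_right.eq,
        inv_mul_cancel_right]

theorem invComm_inverted {u : G} (hu : u ∈ invComm S P1 n) : n * u * n = u⁻¹ := by
  induction hu using Subgroup.closure_induction with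
  | mem u hu =>
    obtain ⟨x, hx, y, hy, hny, rfl⟩ := hu
    have e := map_commutatorElement (MulAut.conj n).toMonoidHom x y
    change n * ⁅x, y⁆ * n⁻¹ = ⁅n * x * n⁻¹, n * y * n⁻¹⁆ at e
    rw [(T.comm_nS hx).eq, mul_inv_cancel_right, inv_eq_self T.hn, hny,
      T.inv_commutator (T.S_le hx) hy] at e
    exact e
  | one => simp [T.hn]
  | mul u v hu hv h1 h2 =>
    calc n * (u * v) * n = n * u * (n * n) * v * n := by rw [T.hn]; group
      _ = (n * u * n) * (n * v * n) := by group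
      _ = (v * u)⁻¹ := by rw [h1, h2, mul_inv_rev]
      _ = (u * v)⁻¹ := by
        rw [(T.invComm_comm hu (Subgroup.mem_sup_left (T.invComm_le hv).1)).eq]
  | inv u hu h1 =>
    calc n * u⁻¹ * n = n⁻¹ * u⁻¹ * n⁻¹ := by rw [inv_eq_self T.hn]
      _ = (n * u * n)⁻¹ := by group
      _ = u⁻¹⁻¹ := by rw [h1]

/-- The inverted commutators of one side preserve every subgroup above the fixed members. -/
theorem invComm_preserves {u : G} (hu : u ∈ invComm S P1 n) {H : Subgroup G} (hH : Full D H)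
    (hle : fixedSub D n ≤ H) : cj u H ≤ H :=
  T.crit.sys.cj_le_of_inverted T.crit.gen T.hn (T.invComm_inverted hu)
    (T.odd_mem (T.invComm_le hu).1) (fun _ hx => T.invComm_comm hu (T.left.fixed hx)) hH hle

theorem invComm_normalises {u x : G} (hu : u ∈ invComm S P1 n) (hx : x ∈ P2) :
    u * x * u⁻¹ ∈ P2 :=
  T.right.dat.conj_mem T.crit.sys (T.invComm_preserves hu T.right.dat.full T.right.fixed) hx

theorem sup_eq_top : (P1 ⊔ X) ⊔ (P2 ⊔ X) = ⊤ := by
  by_contra hne
  obtain ⟨c1, Q1, -, hp1, e1⟩ := T.left.piv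
  obtain ⟨c2, Q2, -, hp2, e2⟩ := T.right.piv
  have hfull := T.left.dat.full.sup T.right.dat.full
  have h1 := hp1.le_big T.crit hne hfull ((hp1.self_le T.crit.sys).trans (e1.le.trans le_sup_left))
  have h2 := hp2.le_big T.crit hne hfull ((hp2.self_le T.crit.sys).trans (e2.le.trans le_sup_right))
  rw [e1] at h1
  rw [e2] at h2
  exact T.ne (le_antisymm (le_sup_left.trans h2) (le_sup_right.trans h1))

theorem mem_center_of_both {w : G} (h1 : w ∈ P1) (h2 : w ∈ P2) (ha : Commute a w) :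
    w ∈ Subgroup.center G := by
  rw [Subgroup.mem_center_iff]
  intro g
  have hle : (⊤ : Subgroup G) ≤ Subgroup.centralizer {w} := by
    rw [← T.sup_eq_top]
    refine sup_le (fun x hx => ?_) (fun x hx => ?_)
    · exact Subgroup.mem_centralizer_singleton_iff.mpr (T.central_mem h1 ha hx).eq
    · exact Subgroup.mem_centralizer_singleton_iff.mpr (T.symm.central_mem h2 ha hx).eq
  exact Subgroup.mem_centralizer_singleton_iff.mp (hle (Subgroup.mem_top g))

theorem invComm_commutator {u v : G} (hu : u ∈ invComm S P1 n) (hv : v ∈ invComm S P2 n) :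
    ⁅u, v⁆ ∈ Subgroup.center G := by
  have hu' := T.invComm_le hu
  have hv' := T.symm.invComm_le hv
  refine T.mem_center_of_both ?_ ?_ ?_
  · rw [show ⁅u, v⁆ = u * (v * u⁻¹ * v⁻¹) by rw [commutatorElement_def]; group]
    exact P1.mul_mem hu'.1 (T.symm.invComm_normalises hv (P1.inv_mem hu'.1))
  · rw [commutatorElement_def]
    exact P2.mul_mem (T.invComm_normalises hu hv'.1) (P2.inv_mem hv'.1)
  · have ca : Commute a u := (T.invComm_comm hu (Subgroup.mem_sup_right T.mem))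
    have cb : Commute a v := (T.symm.invComm_comm hv (Subgroup.mem_sup_right T.mem))
    rw [commutatorElement_def]
    exact ((ca.mul_right cb).mul_right ca.inv_right).mul_right cb.inv_right

theorem fixed_split {w : G} (hw : w ∈ P1) (hnw : Commute n w) :
    ∃ s ∈ S, Commute a (s⁻¹ * w) := by
  obtain ⟨c, Q, L, -, -⟩ := T.left.piv
  have hfix : cj n (cj w X) = cj w X := by rw [← cj_mul, hnw.eq, cj_mul, L.cj_fix]
  have hC := T.crit.sys.conj X T.base.mem w
  obtain ⟨s, hs, e⟩ := T.base.conj_member T.crit.sys hC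
    ((le_fixedSub hC hfix).trans T.sup.ge)
  refine ⟨s, hs, T.crit.sys.commute_of_cj_eq T.base.mem T.left.dat.toKern
    (P1.mul_mem (P1.inv_mem (T.S_le hs)) hw) T.mem ?_⟩
  rw [cj_mul, ← e, ← cj_mul, inv_mul_cancel, cj_one]

/-- `S` together with the central part of a side. -/
theorem mem_N1 {x : G} (hx : x ∈ S ⊔ (P1 ⊓ Subgroup.centralizer {a})) :
    ∃ s ∈ S, ∃ z ∈ P1, Commute a z ∧ x = s * z := by
  have hle : P1 ⊓ Subgroup.centralizer {a} ≤ Subgroup.normalizer (S : Set G) :=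
    le_normalizer_of_conj fun g hg y hy => by
      rw [← (T.central_mem hg.1 (Subgroup.mem_centralizer_singleton_iff.mp hg.2 :
        g * a = a * g).symm (Subgroup.mem_sup_left (T.S_le hy))).eq, mul_inv_cancel_right]
      exact hy
  rw [← SetLike.mem_coe, Subgroup.coe_mul_of_right_le_normalizer_left _ _ hle,
    Set.mem_mul] at hx
  obtain ⟨s, hs, z, hz, rfl⟩ := hx
  exact ⟨s, hs, z, hz.1,
    (Subgroup.mem_centralizer_singleton_iff.mp hz.2 : z * a = a * z).symm, rfl⟩

theorem mem_N1_of {z : G} (hz : z ∈ P1) (hza : Commute a z) :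
    z ∈ S ⊔ (P1 ⊓ Subgroup.centralizer {a}) :=
  Subgroup.mem_sup_right ⟨hz, Subgroup.mem_centralizer_singleton_iff.mpr hza.symm.eq⟩

theorem N1_conj {g x : G} (hg : g ∈ P1) (hx : x ∈ S ⊔ (P1 ⊓ Subgroup.centralizer {a})) :
    g * x * g⁻¹ ∈ S ⊔ (P1 ⊓ Subgroup.centralizer {a}) := by
  obtain ⟨s, hs, z, hz, hza, rfl⟩ := T.mem_N1 hx
  have hd := T.derived_mem hg (T.S_le hs)
  rw [show g * (s * z) * g⁻¹ = ⁅g, s⁆ * s * (g * z * g⁻¹) by rw [commutatorElement_def]; group,
    (T.central_mem hz hza (Subgroup.mem_sup_left hg)).eq, mul_inv_cancel_right]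
  exact mul_mem (mul_mem (T.mem_N1_of hd.1 hd.2) (Subgroup.mem_sup_left hs)) (T.mem_N1_of hz hza)

/-- An inverted commutator of the other side centralises `P1` modulo `S` and its central part. -/
theorem commutator_mem_N1 {u x : G} (hu : u ∈ invComm S P2 n) (hx : x ∈ P1) :
    ⁅u, x⁆ ∈ S ⊔ (P1 ⊓ Subgroup.centralizer {a}) := by
  set N := S ⊔ (P1 ⊓ Subgroup.centralizer {a}) with hN
  have hfix : ∀ x ∈ P1, (n * x * n) * x ∈ N := by
    intro x hx
    obtain ⟨w, hw, y, hy, hnw, hny, rfl⟩ := exists_split T.hn (fun _ => T.nP) (fun _ => T.odd_mem) hx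
    have e : n * (w * y) * n = w * y⁻¹ := by
      calc n * (w * y) * n = (n * w) * y * n := by group
        _ = w * (n * y * n) := by rw [hnw.eq]; group
        _ = _ := by rw [hny]
    have hwN : w ∈ N := by
      obtain ⟨s, hs, hsa⟩ := T.fixed_split hw hnw
      have := mul_mem (Subgroup.mem_sup_left (T := P1 ⊓ Subgroup.centralizer {a}) hs)
        (T.mem_N1_of (P1.mul_mem (P1.inv_mem (T.S_le hs)) hw) hsa)
      rwa [mul_inv_cancel_left] at this
    rw [e, show w * y⁻¹ * (w * y) = w * (y⁻¹ * w * y⁻¹⁻¹) by group]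
    exact mul_mem hwN (T.N1_conj (P1.inv_mem hy) hwN)
  obtain ⟨m, hm⟩ := exists_pow_sq (T.symm.odd_mem (T.symm.invComm_le hu).1)
  set v := u ^ m with hv
  have hvI : v ∈ invComm S P2 n := (invComm S P2 n).pow_mem hu m
  have hvN : ∀ z ∈ N, v * z * v⁻¹ ∈ N := by
    intro z hz
    obtain ⟨s, hs, z, hzP, hza, rfl⟩ := T.mem_N1 hz
    have hvs := T.symm.invComm_comm hvI (Subgroup.mem_sup_left (T.symm.S_le hs))
    have hva : Commute v a := (T.symm.invComm_comm hvI (Subgroup.mem_sup_right T.mem)).symm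
    rw [show v * (s * z) * v⁻¹ = (v * s * v⁻¹) * (v * z * v⁻¹) by group, ← hvs.eq,
      mul_inv_cancel_right]
    exact mul_mem (Subgroup.mem_sup_left hs) (T.mem_N1_of (T.symm.invComm_normalises hvI hzP)
      ((hva.symm.mul_right hza).mul_right hva.symm.inv_right))
  have hnv : n * v * n = v⁻¹ := T.symm.invComm_inverted hvI
  have hnv' : n * v⁻¹ * n = v := by
    simpa using T.symm.invComm_inverted (inv_mem hvI)
  have hA := hvN _ (hfix _ (T.symm.invComm_normalises hvI hx))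
  have e : n * (v * x * v⁻¹) * n = v⁻¹ * (n * x * n) * v := by
    calc n * (v * x * v⁻¹) * n = n * v * (n * n) * x * (n * n) * v⁻¹ * n := by
          simp only [T.hn]; group
      _ = (n * v * n) * (n * x * n) * (n * v⁻¹ * n) := by group
      _ = _ := by rw [hnv, hnv']
  rw [e, show v * (v⁻¹ * (n * x * n) * v * (v * x * v⁻¹)) * v⁻¹ =
    (n * x * n) * ((v * v) * x * (v * v)⁻¹) by group, hm] at hA
  have hB := mul_mem (inv_mem (hfix x hx)) hA
  have := T.N1_conj hx hB
  rw [show x * (((n * x * n) * x)⁻¹ * ((n * x * n) * (u * x * u⁻¹))) * x⁻¹ = ⁅u, x⁆ by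
    rw [commutatorElement_def]; group] at this
  exact this

theorem conj_mem_S {x s : G} (hx : x ∈ P1) (hs : s ∈ S) :
    x * s * x⁻¹ ∈ S ⊔ (invComm S P1 n ⊔ Subgroup.center G) := by
  obtain ⟨w, hw, y, hy, hnw, hny, rfl⟩ := exists_split T.hn (fun _ => T.nP) (fun _ => T.odd_mem) hx
  obtain ⟨s1, hs1, hs1a⟩ := T.fixed_split hw hnw
  have hI : ⁅s, y⁆ ∈ invComm S P1 n := Subgroup.subset_closure ⟨s, hs, y, hy, hny, rfl⟩
  have hd := T.invComm_comm hI (Subgroup.mem_sup_left hw)
  have hz := T.central_mem (P1.mul_mem (P1.inv_mem (T.S_le hs1)) hw) hs1a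
    (Subgroup.mem_sup_left (T.S_le hs))
  have e : w * y * s * (w * y)⁻¹ = ⁅s1, s⁆ * (⁅s, y⁆⁻¹ * s) := by
    calc w * y * s * (w * y)⁻¹ = (w * ⁅s, y⁆⁻¹ * w⁻¹) * (w * s * w⁻¹) := by
          simp only [commutatorElement_def]; group
      _ = ⁅s, y⁆⁻¹ * (s1 * ((s1⁻¹ * w) * s * (s1⁻¹ * w)⁻¹) * s1⁻¹) := by
          rw [hd.inv_right.eq, mul_inv_cancel_right]; group
      _ = ⁅s, y⁆⁻¹ * (⁅s1, s⁆ * s) := by
          rw [← hz.eq, mul_inv_cancel_right]; simp only [commutatorElement_def]; group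
      _ = _ := by
          rw [← mul_assoc, Subgroup.mem_center_iff.mp (T.comm_center hs1 hs) ⁅s, y⁆⁻¹, mul_assoc]
  rw [e]
  exact mul_mem (Subgroup.mem_sup_right (Subgroup.mem_sup_right (T.comm_center hs1 hs)))
    (mul_mem (Subgroup.mem_sup_right (Subgroup.mem_sup_left (inv_mem hI)))
      (Subgroup.mem_sup_left hs))

theorem Nsub_conj {x y : G} (hx : x ∈ P1) (hy : y ∈ S ⊔ (invComm S P1 n ⊔ Subgroup.center G)) :
    x * y * x⁻¹ ∈ S ⊔ (invComm S P1 n ⊔ Subgroup.center G) := by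
  have hle : S ⊔ (invComm S P1 n ⊔ Subgroup.center G) ≤
      (S ⊔ (invComm S P1 n ⊔ Subgroup.center G)).comap (MulAut.conj x).toMonoidHom := by
    refine sup_le (fun s hs => T.conj_mem_S hx hs) (sup_le (fun u hu => ?_) fun z hz => ?_)
    · show x * u * x⁻¹ ∈ S ⊔ (invComm S P1 n ⊔ Subgroup.center G)
      rw [(T.invComm_comm hu (Subgroup.mem_sup_left hx)).eq, mul_inv_cancel_right]
      exact Subgroup.mem_sup_right (Subgroup.mem_sup_left hu)
    · show x * z * x⁻¹ ∈ S ⊔ (invComm S P1 n ⊔ Subgroup.center G)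
      rw [Subgroup.mem_center_iff.mp hz x, mul_inv_cancel_right]
      exact Subgroup.mem_sup_right (Subgroup.mem_sup_right hz)
  exact hle hy

/-- An inverted commutator of the other side centralises `P1` modulo the inverted commutators. -/
theorem commutator_mem_Nsub {u x : G} (hu : u ∈ invComm S P2 n) (hx : x ∈ P1) :
    ⁅u, x⁆ ∈ S ⊔ (invComm S P1 n ⊔ Subgroup.center G) := by
  set N := S ⊔ (invComm S P1 n ⊔ Subgroup.center G) with hN
  have hua : Commute u a := (T.symm.invComm_comm hu (Subgroup.mem_sup_right T.mem)).symm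
  let R : Subgroup G :=
    { carrier := {y | y ∈ P1 ∧ ⁅u, y⁆ ∈ N}
      one_mem' := ⟨one_mem _, by simp⟩
      mul_mem' := fun {y z} hy hz => ⟨mul_mem hy.1 hz.1, by
        rw [show ⁅u, y * z⁆ = ⁅u, y⁆ * (y * ⁅u, z⁆ * y⁻¹) by
          simp only [commutatorElement_def]; group]
        exact mul_mem hy.2 (T.Nsub_conj hy.1 hz.2)⟩
      inv_mem' := fun {y} hy => ⟨inv_mem hy.1, by
        rw [show ⁅u, y⁻¹⁆ = y⁻¹ * ⁅u, y⁆⁻¹ * y⁻¹⁻¹ by simp only [commutatorElement_def]; group]
        exact T.Nsub_conj (inv_mem hy.1) (inv_mem hy.2)⟩ }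
  have hle : P1 ≤ R := by
    refine (T.left.dat.genBy T.crit.sys T.mem T.ne_one).gen.trans ((Subgroup.closure_le _).mpr ?_)
    rintro _ ⟨s, hs, rfl⟩
    have hg : s * a * s⁻¹ * a⁻¹ ∈ P1 :=
      (T.left.dat.genBy T.crit.sys T.mem T.ne_one).comm_mem hs
    refine ⟨hg, ?_⟩
    obtain ⟨s0, hs0, z0, hz0, hz0a, e⟩ := T.mem_N1 (T.commutator_mem_N1 hu hs)
    have hz : ∀ g ∈ P1 ⊔ X, Commute g z0 := fun g hg => T.central_mem hz0 hz0a hg
    have e1 : u * s = s0 * z0 * s * u := by rw [← e, commutatorElement_def]; group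
    have hd := hz (s * a * s⁻¹) (mul_mem (mul_mem (Subgroup.mem_sup_left hs)
      (Subgroup.mem_sup_right T.mem)) (inv_mem (Subgroup.mem_sup_left hs)))
    have e2 : ⁅u, s * a * s⁻¹ * a⁻¹⁆ = s0 * ((s * a * s⁻¹ * a⁻¹) * (a * s0⁻¹ * a⁻¹) *
        (s * a * s⁻¹ * a⁻¹)⁻¹) := by
      calc ⁅u, s * a * s⁻¹ * a⁻¹⁆
          = (u * s) * a * (u * s)⁻¹ * (u * a⁻¹ * u⁻¹) * (s * a * s⁻¹ * a⁻¹)⁻¹ := by
            simp only [commutatorElement_def]; group
        _ = (s0 * z0 * s * u) * a * (s0 * z0 * s * u)⁻¹ * a⁻¹ * (s * a * s⁻¹ * a⁻¹)⁻¹ := by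
            rw [e1, hua.inv_right.eq, mul_inv_cancel_right]
        _ = s0 * (z0 * (s * (u * a * u⁻¹) * s⁻¹) * z0⁻¹) * s0⁻¹ * a⁻¹ *
            (s * a * s⁻¹ * a⁻¹)⁻¹ := by group
        _ = s0 * (s * a * s⁻¹) * s0⁻¹ * a⁻¹ * (s * a * s⁻¹ * a⁻¹)⁻¹ := by
            rw [hua.eq, mul_inv_cancel_right, ← hd.eq, mul_inv_cancel_right]
        _ = _ := by group
    rw [e2]
    exact mul_mem (Subgroup.mem_sup_left hs0)
      (T.Nsub_conj hg (Subgroup.mem_sup_left (T.base.conj_inv T.mem (inv_mem hs0))))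
  exact (hle hx).2

/-- The inverted commutators of both sides with the centre centralise the fixed members. -/
theorem C_comm {c g : G} (hc : c ∈ invComm S P1 n ⊔ invComm S P2 n ⊔ Subgroup.center G)
    (hg : g ∈ S ⊔ X) : Commute g c := by
  have hle : invComm S P1 n ⊔ invComm S P2 n ⊔ Subgroup.center G ≤ Subgroup.centralizer {g} := by
    refine sup_le (sup_le (fun u hu => ?_) (fun u hu => ?_)) (fun z hz => ?_)
    · exact Subgroup.mem_centralizer_singleton_iff.mpr
        (T.invComm_comm hu (T.left.fixed (T.sup ▸ hg))).symm.eq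
    · exact Subgroup.mem_centralizer_singleton_iff.mpr
        (T.symm.invComm_comm hu (T.right.fixed (T.sup ▸ hg))).symm.eq
    · exact Subgroup.mem_centralizer_singleton_iff.mpr (Subgroup.mem_center_iff.mp hz g).symm
  exact (Subgroup.mem_centralizer_singleton_iff.mp (hle hc) : c * g = g * c).symm

theorem mem_X0 {x : G}
    (hx : x ∈ S ⊔ (invComm S P1 n ⊔ invComm S P2 n ⊔ Subgroup.center G)) :
    ∃ s ∈ S, ∃ c ∈ invComm S P1 n ⊔ invComm S P2 n ⊔ Subgroup.center G, x = s * c := by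
  have hle : invComm S P1 n ⊔ invComm S P2 n ⊔ Subgroup.center G ≤
      Subgroup.normalizer (S : Set G) := le_normalizer_of_conj fun g hg y hy => by
    rw [← (T.C_comm hg (Subgroup.mem_sup_left hy)).eq, mul_inv_cancel_right]
    exact hy
  rw [← SetLike.mem_coe, Subgroup.coe_mul_of_right_le_normalizer_left _ _ hle,
    Set.mem_mul] at hx
  obtain ⟨s, hs, c, hc, rfl⟩ := hx
  exact ⟨s, hs, c, hc, rfl⟩

theorem X0_normalised_left : P1 ⊔ X ≤ Subgroup.normalizer
    ((S ⊔ (invComm S P1 n ⊔ invComm S P2 n ⊔ Subgroup.center G) : Subgroup G) : Set G) := by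
  set X0 := S ⊔ (invComm S P1 n ⊔ invComm S P2 n ⊔ Subgroup.center G) with hX0
  have hN : S ⊔ (invComm S P1 n ⊔ Subgroup.center G) ≤ X0 :=
    sup_le_sup_left (sup_le_sup_right le_sup_left _) _
  refine sup_le (le_normalizer_of_conj fun g hg x hx => ?_)
    (le_normalizer_of_conj fun g hg x hx => ?_)
  · have hle : X0 ≤ X0.comap (MulAut.conj g).toMonoidHom := by
      refine sup_le (fun s hs => hN (T.conj_mem_S hg hs))
        (sup_le (sup_le (fun u hu => ?_) (fun u hu => ?_)) (fun z hz => ?_))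
      · exact hN (T.Nsub_conj hg (Subgroup.mem_sup_right (Subgroup.mem_sup_left hu)))
      · show g * u * g⁻¹ ∈ X0
        rw [show g * u * g⁻¹ = u * ⁅u⁻¹, g⁆ by rw [commutatorElement_def]; group]
        exact mul_mem (Subgroup.mem_sup_right (Subgroup.mem_sup_left (Subgroup.mem_sup_right hu)))
          (hN (T.commutator_mem_Nsub (inv_mem hu) hg))
      · exact hN (T.Nsub_conj hg (Subgroup.mem_sup_right (Subgroup.mem_sup_right hz)))
    exact hle hx
  · obtain ⟨s, hs, c, hc, rfl⟩ := T.mem_X0 hx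
    rw [show g * (s * c) * g⁻¹ = (g * s * g⁻¹) * (g * c * g⁻¹) by group,
      (T.C_comm hc (Subgroup.mem_sup_right hg)).eq, mul_inv_cancel_right]
    exact mul_mem (Subgroup.mem_sup_left (T.base.conj_inv hg hs)) (Subgroup.mem_sup_right hc)

theorem normal_X0 :
    (S ⊔ (invComm S P1 n ⊔ invComm S P2 n ⊔ Subgroup.center G)).Normal := by
  rw [← Subgroup.normalizer_eq_top_iff, eq_top_iff, ← T.sup_eq_top]
  refine sup_le T.X0_normalised_left ?_
  have := T.symm.X0_normalised_left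
  rwa [sup_comm (invComm S P2 n) (invComm S P1 n)] at this

theorem C_commutator {c c' : G} (hc : c ∈ invComm S P1 n ⊔ invComm S P2 n ⊔ Subgroup.center G)
    (hc' : c' ∈ invComm S P1 n ⊔ invComm S P2 n ⊔ Subgroup.center G) :
    ⁅c, c'⁆ ∈ Subgroup.center G := by
  set Z := Subgroup.center G with hZ
  let π := QuotientGroup.mk' Z
  have key : ∀ {P R : Subgroup G}, (∀ u ∈ P, ∀ v ∈ R, ⁅u, v⁆ ∈ Z) →
      P.map π ≤ Subgroup.centralizer (R.map π : Set (G ⧸ Z)) := by
    rintro P R hPR _ ⟨u, hu, rfl⟩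
    rw [Subgroup.mem_centralizer_iff]
    rintro _ ⟨v, hv, rfl⟩
    have h1 : π ⁅u, v⁆ = 1 := (QuotientGroup.eq_one_iff _).mpr (hPR u hu v hv)
    rw [map_commutatorElement, commutatorElement_eq_one_iff_mul_comm] at h1
    exact h1.symm
  have hcc : ∀ {P : Subgroup G}, (∀ u ∈ P, ∀ v ∈ P, Commute u v) →
      ∀ u ∈ P, ∀ v ∈ P, ⁅u, v⁆ ∈ Z := fun hP u hu v hv => by
    rw [commutatorElement_eq_one_iff_commute.mpr (hP u hu v hv)]
    exact one_mem _
  have h11 := key (hcc fun u hu v hv =>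
    T.invComm_comm hv (Subgroup.mem_sup_left (T.invComm_le hu).1))
  have h22 := key (hcc fun u hu v hv =>
    T.symm.invComm_comm hv (Subgroup.mem_sup_left (T.symm.invComm_le hu).1))
  have h12 := key (P := invComm S P1 n) (R := invComm S P2 n) fun u hu v hv =>
    T.invComm_commutator hu hv
  have h21 := key (P := invComm S P2 n) (R := invComm S P1 n) fun u hu v hv =>
    T.symm.invComm_commutator hu hv
  set K := (invComm S P1 n).map π ⊔ (invComm S P2 n).map π with hK
  have hKK : K ≤ Subgroup.centralizer (K : Set (G ⧸ Z)) := by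
    refine sup_le ?_ ?_
    · rw [Subgroup.le_centralizer_iff]
      exact sup_le h11 h21
    · rw [Subgroup.le_centralizer_iff]
      exact sup_le h12 h22
  have hm : ∀ x ∈ invComm S P1 n ⊔ invComm S P2 n ⊔ Z, π x ∈ K := by
    intro x hx
    have := Subgroup.mem_map_of_mem π hx
    rw [Subgroup.map_sup, Subgroup.map_sup, QuotientGroup.map_mk'_self, sup_bot_eq] at this
    exact this
  rw [← QuotientGroup.eq_one_iff]
  show π ⁅c, c'⁆ = 1
  rw [map_commutatorElement, commutatorElement_eq_one_iff_mul_comm]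
  exact (Subgroup.mem_centralizer_iff.mp (hKK (hm c hc)) _ (hm c' hc')).symm

theorem solvable_X0 : Group.IsSolvable
    ↥(S ⊔ (invComm S P1 n ⊔ invComm S P2 n ⊔ Subgroup.center G)) := by
  set X0 := S ⊔ (invComm S P1 n ⊔ invComm S P2 n ⊔ Subgroup.center G) with hX0
  have hcomm : ∀ x ∈ X0, ∀ y ∈ X0, ⁅x, y⁆ ∈ Subgroup.center G := by
    intro x hx y hy
    obtain ⟨s, hs, c, hc, rfl⟩ := T.mem_X0 hx
    obtain ⟨t, ht, d, hd, rfl⟩ := T.mem_X0 hy
    have h1 := T.C_comm hc (Subgroup.mem_sup_left ht)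
    have h2 := T.C_comm hd (Subgroup.mem_sup_left hs)
    have hz := Subgroup.mem_center_iff.mp (T.C_commutator hc hd)
    have e : ⁅s * c, t * d⁆ = ⁅s, t⁆ * ⁅c, d⁆ := by
      calc ⁅s * c, t * d⁆ = s * (c * t * c⁻¹) * (c * d * c⁻¹) * s⁻¹ * d⁻¹ * t⁻¹ := by
            simp only [commutatorElement_def]; group
        _ = s * t * (⁅c, d⁆ * (d * (s⁻¹ * d⁻¹))) * t⁻¹ := by
            rw [← h1.eq, mul_inv_cancel_right]; simp only [commutatorElement_def]; group
        _ = s * t * (⁅c, d⁆ * s⁻¹) * t⁻¹ := by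
            rw [show d * (s⁻¹ * d⁻¹) = d * s⁻¹ * d⁻¹ by group, ← h2.inv_left.eq,
              mul_inv_cancel_right]
        _ = s * t * (s⁻¹ * ⁅c, d⁆) * t⁻¹ := by rw [hz s⁻¹]
        _ = s * t * s⁻¹ * (⁅c, d⁆ * t⁻¹) := by group
        _ = s * t * s⁻¹ * (t⁻¹ * ⁅c, d⁆) := by rw [hz t⁻¹]
        _ = _ := by simp only [commutatorElement_def]; group
    rw [e]
    exact mul_mem (T.comm_center hs ht) (T.C_commutator hc hd)
  let Z := Subgroup.center G
  haveI : Group.IsSolvable ↥(X0 ⊓ Z) := Group.isSolvable_of_comm fun x y =>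
    Subtype.ext (Subgroup.mem_center_iff.mp y.2.2 x)
  haveI : Group.IsSolvable ↥(X0.map (QuotientGroup.mk' Z)) := Group.isSolvable_of_comm fun x y => by
    obtain ⟨u, hu, hux⟩ := x.2
    obtain ⟨v, hv, hvy⟩ := y.2
    refine Subtype.ext ?_
    show (x : G ⧸ Z) * y = y * x
    rw [← hux, ← hvy]
    refine commutatorElement_eq_one_iff_mul_comm.mp ?_
    rw [← map_commutatorElement]
    exact (QuotientGroup.eq_one_iff _).mpr (hcomm u hu v hv)
  refine Group.isSolvable_of_ker_le_range (Subgroup.inclusion (inf_le_left : X0 ⊓ Z ≤ X0))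
    ((QuotientGroup.mk' Z).subgroupMap X0) fun x hx => ?_
  have h4 : (x : G) ∈ Z := (QuotientGroup.eq_one_iff (x : G)).mp
    (congrArg Subtype.val (MonoidHom.mem_ker.mp hx))
  exact ⟨⟨x, x.2, h4⟩, rfl⟩

end TwoBigs

end CfsgLib.PairClosed
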