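import Cfsg.Agent.PairClosed.Defs

/-!
# Solvable subgroups generated by members

* `PairSys.exists_kernel`: a solvable subgroup generated by members is a `q`-group extended by a member.
* `PairSys.kernel_gen`, `PairSys.kernel_facts`: the kernel is generated by commutators with the member;
  its elements commuting with the member form the derived subgroup (trivial in the abelian case), which
  is central.
-/

set_option autoImplicit false
set_option linter.style.haveILetI false
set_option maxHeartbeats 400000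

namespace CfsgLib.PairClosed

open scoped commutatorElement

universe u

variable {G : Type u} [Group G]

/-- `H` is generated by the members it contains. -/
def Full (D : Set (Subgroup G)) (H : Subgroup G) : Prop := H ≤ sSup {C | C ∈ D ∧ C ≤ H}

theorem full_sSup {D : Set (Subgroup G)} {T : Set (Subgroup G)} (hT : T ⊆ D) :
    Full D (sSup T) :=
  sSup_le fun C hC => le_sSup (s := {C | C ∈ D ∧ C ≤ sSup T}) ⟨hT hC, le_sSup hC⟩

theorem Full.sup {D : Set (Subgroup G)} {H₁ H₂ : Subgroup G} (h₁ : Full D H₁) (h₂ : Full D H₂) :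
    Full D (H₁ ⊔ H₂) :=
  sup_le (h₁.trans (sSup_le_sSup fun _ hC => ⟨hC.1, hC.2.trans le_sup_left⟩))
    (h₂.trans (sSup_le_sSup fun _ hC => ⟨hC.1, hC.2.trans le_sup_right⟩))

theorem full_of_mem {D : Set (Subgroup G)} {A : Subgroup G} (hA : A ∈ D) : Full D A :=
  le_sSup (s := {C | C ∈ D ∧ C ≤ A}) ⟨hA, le_rfl⟩

theorem full_pair {D : Set (Subgroup G)} {A B : Subgroup G} (hA : A ∈ D) (hB : B ∈ D) :
    Full D (A ⊔ B) :=
  (full_of_mem hA).sup (full_of_mem hB)

variable [Finite G] {p q k : ℕ} {ab : Prop} {D : Set (Subgroup G)} (h : PairSys p q k ab D)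

include h

theorem PairSys.toSub (H : Subgroup G) :
    PairSys p q k ab {A : Subgroup H | A.map H.subtype ∈ D} where
  hp := h.hp
  hq := h.hq
  ne := h.ne
  p2 := h.p2
  q2 := h.q2
  card A hA := by
    rw [← h.card _ hA, Subgroup.card_map_of_injective H.subtype_injective]
  conj A hA g := by
    show (cj g A).map H.subtype ∈ D
    have e : (cj g A).map H.subtype = cj (g : G) (A.map H.subtype) := by
      rw [cj, cj, Subgroup.map_map, Subgroup.map_map]
      congr 1
    rw [e]
    exact h.conj _ hA g
  pair_card A hA B hB hne := by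
    rw [← Subgroup.card_map_of_injective (f := H.subtype) H.subtype_injective, Subgroup.map_sup]
    exact h.pair_card _ hA _ hB fun e => hne (Subgroup.map_injective H.subtype_injective e)
  pair_ab A hA B hB hne := by
    rw [← h.pair_ab _ hA _ hB fun e => hne (Subgroup.map_injective H.subtype_injective e),
      ← Subgroup.map_sup, ← Subgroup.map_commutator]
    constructor
    · rintro hc _ ⟨x, hx, rfl⟩ _ ⟨y, hy, rfl⟩
      exact (hc x hx y hy).map H.subtype
    · intro hc x hx y hy
      exact Subtype.ext (hc _ ⟨x, hx, rfl⟩ _ ⟨y, hy, rfl⟩).eq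

omit h in
theorem eq_one_of_pow_mem_pgroup {r : ℕ} [Fact r.Prime] {R : Subgroup G} (hR : IsPGroup r R)
    {x : G} (hx : x ∈ R) {n : ℕ} (hn : x ^ n = 1) (hrn : ¬ r ∣ n) : x = 1 := by
  obtain ⟨m, hm⟩ := IsPGroup.iff_orderOf.mp hR ⟨x, hx⟩
  rw [Subgroup.orderOf_mk] at hm
  rcases m with _ | m
  · exact orderOf_eq_one_iff.mp (by simpa using hm)
  · exact absurd ((dvd_pow_self r m.succ_ne_zero).trans (hm ▸ orderOf_dvd_of_pow_eq_one hn)) hrn

omit h [Finite G] in
theorem Kern.pow_eq {S A : Subgroup G} {n : ℕ} (K : Kern q S A) {s b : G} (hs : s ∈ S)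
    (hb : b ∈ A) : ∃ s' ∈ S, (s * b) ^ n = s' * b ^ n := by
  induction n with
  | zero => exact ⟨1, one_mem _, by simp⟩
  | succ n ih =>
    obtain ⟨s', hs', e⟩ := ih
    refine ⟨s' * (b ^ n * s * (b ^ n)⁻¹), S.mul_mem hs'
      ((Subgroup.mem_normalizer_iff.mp (K.nrm (A.pow_mem hb n)) s).mp hs), ?_⟩
    rw [pow_succ, e, pow_succ]
    group

/-- A solvable group generated by members. -/
theorem PairSys.exists_kernel_of_solvable [Group.IsSolvable G] (hgen : sSup D = ⊤)
    {A : Subgroup G} (hA : A ∈ D) :
    ∃ S : Subgroup G, S.Normal ∧ Kern q S A ∧ S ⊔ A = ⊤ := by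
  classical
  haveI := Fact.mk h.hq
  haveI := Fact.mk h.hp
  obtain ⟨S, ⟨hSn, hSq⟩, hSmax⟩ := Set.Finite.exists_maximalFor
    (fun S : Subgroup G => Nat.card S) {S : Subgroup G | S.Normal ∧ IsPGroup q S}
    (Set.toFinite _) ⟨⊥, inferInstance, IsPGroup.of_bot⟩
  haveI := hSn
  refine ⟨S, hSn, ⟨hSq, by rw [Subgroup.normalizer_eq_top_iff.mpr hSn]; exact le_top⟩, ?_⟩
  obtain ⟨a, ha, ha1⟩ := h.exists_mem_ne_one hA
  set π := QuotientGroup.mk' S with hπ
  have hgenQ : Subgroup.normalClosure ({π a} : Set (G ⧸ S)) = ⊤ := by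
    rw [eq_top_iff]
    intro x _
    obtain ⟨g, rfl⟩ := QuotientGroup.mk'_surjective S x
    have hle : sSup D ≤ (Subgroup.normalClosure ({π a} : Set (G ⧸ S))).comap π := by
      refine sSup_le fun C hC => ?_
      obtain ⟨u, rfl⟩ := h.members_conj hA hC
      refine h.le_of_ne_bot hC (conj_mem_cj ha) (fun e => ha1 (conj_eq_one_iff.mp e)) ?_
      rw [Subgroup.mem_comap, map_mul, map_mul, map_inv]
      exact Subgroup.normalClosure_normal.conj_mem _
        (Subgroup.subset_normalClosure (Set.mem_singleton (π a))) _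
    exact hle (hgen ▸ Subgroup.mem_top g)
  haveI : Group.IsSolvable (G ⧸ S) := inferInstance
  have hcomm : ∀ x y : G ⧸ S, x * y = y * x := by
    refine commute_all_of_normal_pgroups hgenQ fun r hr R hR hRr x hx => ?_
    haveI := Fact.mk hr
    by_cases hrq : r = q
    · subst hrq
      have hle : S ≤ R.comap π := by
        intro s hs
        rw [Subgroup.mem_comap, hπ, QuotientGroup.mk'_apply, (QuotientGroup.eq_one_iff s).mpr hs]
        exact one_mem _
      have hp' : IsPGroup r ↥(R.comap π) :=
        hRr.comap_of_ker_isPGroup π (by rw [hπ, QuotientGroup.ker_mk']; exact hSq)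
      have heq : S = R.comap π := Subgroup.eq_of_le_of_card_ge hle
        (hSmax ⟨Subgroup.Normal.comap hR π, hp'⟩ (Nat.card_le_card_of_injective _
          (Subgroup.inclusion_injective hle)))
      obtain ⟨g, rfl⟩ := QuotientGroup.mk'_surjective S x
      have hg : g ∈ S := by rw [heq]; exact hx
      rw [hπ, QuotientGroup.mk'_apply, QuotientGroup.mk'_apply, (QuotientGroup.eq_one_iff g).mpr hg]
      exact Commute.one_right _
    · -- the members have trivial image modulo such a subgroup unless they commute with it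
      have hqr : ¬ r ∣ q := fun hd => hrq ((Nat.prime_dvd_prime_iff_eq hr h.hq).mp hd)
      have hQ1 : ∀ (Q : Subgroup G), IsPGroup q Q → ∀ y ∈ Q, π y ∈ R → π y = 1 := by
        intro Q hQ y hy hyR
        obtain ⟨m, hm⟩ := hQ ⟨y, hy⟩
        have hm' : y ^ q ^ m = 1 := congrArg Subtype.val hm
        exact eq_one_of_pow_mem_pgroup hRr hyR (n := q ^ m) (by rw [← map_pow, hm', map_one])
          fun hd => hqr (hr.dvd_of_dvd_pow hd)
      obtain ⟨g, rfl⟩ := QuotientGroup.mk'_surjective S x
      have hc : π (g * a * g⁻¹ * a⁻¹) ∈ R := by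
        have h1 := R.mul_mem hx (hR.conj_mem _ (R.inv_mem hx) (π a))
        simp only [map_mul, map_inv]
        simpa [mul_assoc, hπ] using h1
      suffices h1 : π (g * a * g⁻¹ * a⁻¹) = 1 by
        show π a * π g = π g * π a
        simp only [map_mul, map_inv] at h1
        calc π a * π g = (π g * π a * (π g)⁻¹ * (π a)⁻¹) * (π a * π g) := by rw [h1, one_mul]
          _ = π g * π a := by group
      by_cases haR : π a ∈ R
      · have hRt : R = ⊤ := by
          rw [eq_top_iff, ← hgenQ]
          exact Subgroup.normalClosure_le_normal (Set.singleton_subset_iff.mpr haR)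
        by_cases hpa : π a = 1
        · simp [hpa]
        have hrp : r = p := by
          by_contra hrp
          refine hpa (eq_one_of_pow_mem_pgroup hRr haR (n := p) ?_
            fun hd => hrp ((Nat.prime_dvd_prime_iff_eq hr h.hp).mp hd))
          rw [← map_pow, ← h.orderOf_eq hA ha ha1, pow_orderOf_eq_one, map_one]
        subst hrp
        have hG : IsPGroup r (G ⧸ S) := fun v => by
          obtain ⟨m, hm⟩ := hRr ⟨v, hRt ▸ Subgroup.mem_top v⟩
          exact ⟨m, congrArg Subtype.val hm⟩
        have hAz : ∀ c ∈ A, π c ∈ Subgroup.zpowers (π a) := by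
          intro c hc
          obtain ⟨j, rfl⟩ := Subgroup.mem_zpowers_iff.mp
            (show c ∈ Subgroup.zpowers a by rw [h.zpowers_eq hA ha ha1]; exact hc)
          exact ⟨j, (map_zpow π a j).symm⟩
        haveI hZn : (Subgroup.zpowers (π a)).Normal := by
          refine ⟨fun v hv w => ?_⟩
          obtain ⟨u, rfl⟩ := QuotientGroup.mk'_surjective S w
          obtain ⟨j, rfl⟩ := Subgroup.mem_zpowers_iff.mp hv
          rw [← conj_zpow]
          refine Subgroup.zpow_mem _ ?_ j
          rw [← map_inv, ← map_mul, ← map_mul]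
          by_cases hne' : cj u A = A
          · exact hAz _ (hne'.le (conj_mem_cj ha))
          · obtain ⟨Q', KQ', hQA'⟩ := h.exists_pair_kernel hA (h.conj A hA u) (Ne.symm hne')
            have hm : u * a * u⁻¹ ∈ Q' ⊔ A := hQA' ▸ Subgroup.mem_sup_right (conj_mem_cj ha)
            obtain ⟨z, hz, c, hc, e⟩ := KQ'.mem_sup hm
            rw [e, map_mul, hQ1 Q' KQ'.grp z hz (hRt ▸ Subgroup.mem_top _), one_mul]
            exact hAz c hc
        have hcard : Nat.card (Subgroup.zpowers (π a)) = r := by
          rw [Nat.card_zpowers]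
          refine orderOf_eq_prime ?_ hpa
          rw [← map_pow, ← h.orderOf_eq hA ha ha1, pow_orderOf_eq_one, map_one]
        have hcz := CfsgLib.PGroup.le_center_of_card_eq hG
          (Subgroup.zpowers (π a)) hcard (Subgroup.mem_zpowers (π a))
        have := Subgroup.mem_center_iff.mp hcz (π g)
        simp only [map_mul, map_inv]
        rw [this]
        group
      · by_cases hne : cj g A = A
        · by_cases h1 : g * a * g⁻¹ * a⁻¹ = 1
          · rw [h1, map_one]
          exfalso
          have hm : g * a * g⁻¹ * a⁻¹ ∈ A := by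
            exact A.mul_mem (hne.le (conj_mem_cj ha)) (A.inv_mem ha)
          obtain ⟨i, hi⟩ := Subgroup.mem_zpowers_iff.mp
            (show a ∈ Subgroup.zpowers (g * a * g⁻¹ * a⁻¹) by rw [h.zpowers_eq hA hm h1]; exact ha)
          exact haR (by rw [← hi, map_zpow]; exact R.zpow_mem hc i)
        · obtain ⟨Q, KQ, hQA⟩ := h.exists_pair_kernel hA (h.conj A hA g) (Ne.symm hne)
          have hm : g * a * g⁻¹ * a⁻¹ ∈ Q ⊔ A :=
            mul_mem (hQA ▸ Subgroup.mem_sup_right (conj_mem_cj ha))
              (inv_mem (Subgroup.mem_sup_right ha))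
          obtain ⟨y, hy, b, hb, e⟩ := KQ.mem_sup hm
          have hb1 : b = 1 := by
            by_contra hb1
            obtain ⟨m, hm'⟩ := IsPGroup.iff_orderOf.mp KQ.grp ⟨y, hy⟩
            rw [Subgroup.orderOf_mk] at hm'
            have hbR : π (b ^ q ^ m) ∈ R := by
              let ρ := QuotientGroup.mk' R
              have h0 : ρ (π y) * ρ (π b) = 1 := by
                rw [← map_mul, ← map_mul, ← e]
                exact (QuotientGroup.eq_one_iff _).mpr hc
              rw [← QuotientGroup.eq_one_iff]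
              show ρ (π (b ^ q ^ m)) = 1
              rw [map_pow, map_pow, eq_inv_of_mul_eq_one_right h0, inv_pow, ← map_pow, ← map_pow,
                ← hm', pow_orderOf_eq_one, map_one, map_one, inv_one]
            have hb2 : b ^ q ^ m ∈ A := A.pow_mem hb _
            have hb3 : b ^ q ^ m ≠ 1 := by
              intro h0
              have hd : p ∣ q ^ m := h.orderOf_eq hA hb hb1 ▸ orderOf_dvd_of_pow_eq_one h0
              exact h.ne ((Nat.prime_dvd_prime_iff_eq h.hp h.hq).mp (h.hp.dvd_of_dvd_pow hd))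
            exact haR (h.le_of_ne_bot hA hb2 hb3 (Subgroup.mem_comap.mpr hbR) ha)
          rw [hb1, mul_one] at e
          exact e ▸ hQ1 Q KQ.grp y hy (e ▸ hc)
  rw [eq_top_iff, ← hgen]
  refine sSup_le fun C hC => ?_
  obtain ⟨u, rfl⟩ := h.members_conj hA hC
  refine h.le_of_ne_bot hC (conj_mem_cj ha) (fun e => ha1 (conj_eq_one_iff.mp e)) ?_
  have h1 : π (u * a * u⁻¹ * a⁻¹) = 1 := by
    simp only [map_mul, map_inv]
    rw [hcomm (π u) (π a)]
    group
  rw [hπ, QuotientGroup.mk'_apply, QuotientGroup.eq_one_iff] at h1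
  have := mul_mem (Subgroup.mem_sup_left (T := A) h1) (Subgroup.mem_sup_right (S := S) ha)
  simpa using this

end CfsgLib.PairClosed
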