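import Mathlib.Algebra.BigOperators.Intervals
import Mathlib.Algebra.Field.ZMod
import Mathlib.Algebra.Group.Hom.Instances
import Mathlib.GroupTheory.OrderOfElement
import Mathlib.Tactic.Ring

/-!
# A semilinear unipotent map

`commute_of_twist`: an endomorphism `μ` of an abelian `q`-group with `(μ - 1) ^ 2 = 0` which carries a
fixed-point-free automorphism `σ` of prime order `p ≠ q` to a power of itself commutes with `σ`.
-/

set_option autoImplicit false
set_option maxHeartbeats 400000

namespace CfsgLib.PairClosed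

theorem commute_of_twist {W : Type*} [CommGroup W] {p q : ℕ} (hp : p.Prime) (hq : q.Prime)
    (hpq : p ≠ q) (hq2 : q ≠ 2) (hW : ∀ w : W, ∃ m, w ^ q ^ m = 1) (σ μ : W →* W) (i : ℕ)
    (hσp : ∀ w, (⇑σ)^[p] w = w) (hσ : ∀ w, σ w = w → w = 1)
    (hsemi : ∀ w, μ (σ w) = (⇑σ)^[i] (μ w))
    (hf : ∀ w, μ (w⁻¹ * μ w) = w⁻¹ * μ w) : ∀ w, μ (σ w) = σ (μ w) := by
  classical
  haveI := Fact.mk hp
  have hmod : ∀ m v, (⇑σ)^[m] v = (⇑σ)^[m % p] v := by
    intro m v
    conv_lhs => rw [← Nat.mod_add_div m p, Function.iterate_add_apply]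
    rw [show (⇑σ)^[p * (m / p)] v = v from by
      rw [Function.iterate_mul, show (⇑σ)^[p] = id from funext hσp, Function.iterate_id]; rfl]
  have hfree : ∀ m v, ¬ p ∣ m → (⇑σ)^[m] v = v → v = 1 := by
    intro m v hm hv
    apply hσ
    obtain ⟨r, -, hr⟩ := Nat.exists_mul_mod_eq_one_of_coprime
      (Nat.Coprime.symm ((hp.coprime_iff_not_dvd).mpr hm)) hp.one_lt
    have h1 : (⇑σ)^[m * r] v = v := by
      rw [Function.iterate_mul]
      exact Function.iterate_fixed hv r
    rw [hmod, hr] at h1
    exact h1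
  by_cases hi : i % p = 1
  · intro w
    rw [hsemi, hmod, hi]
    rfl
  suffices htriv : ∀ w : W, w = 1 by
    intro w
    rw [htriv (μ (σ w)), htriv (σ (μ w))]
  intro w
  by_contra hw
  obtain ⟨v, hv1, hvq⟩ : ∃ v : W, v ≠ 1 ∧ v ^ q = 1 := by
    have hex := hW w
    obtain ⟨m, hm⟩ : ∃ m, Nat.find hex = m + 1 := by
      refine ⟨Nat.find hex - 1, ?_⟩
      have hpos : Nat.find hex ≠ 0 := fun h0 => hw (by
        have := Nat.find_spec hex
        rwa [h0, pow_zero, pow_one] at this)
      omega
    refine ⟨w ^ q ^ m, Nat.find_min hex (by omega), ?_⟩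
    rw [← pow_mul, ← pow_succ, ← hm]
    exact Nat.find_spec hex
  apply hv1
  let S : ℕ → W →* W := fun m => MonoidHom.mk' (⇑σ)^[m] (iterate_map_mul σ m)
  have hS : ∀ m u, S m u = (⇑σ)^[m] u := fun m u => rfl
  let f : W → W := fun u => u⁻¹ * μ u
  have hμl : ∀ l u, (⇑μ)^[l] u = u * f u ^ l := by
    intro l u
    induction l with
    | zero => simp
    | succ l ih =>
      rw [Function.iterate_succ_apply', ih, map_mul, map_pow, hf, pow_succ', ← mul_assoc u,
        mul_inv_cancel_left]
  have hfq : ∀ u : W, u ^ q = 1 → f u ^ q = 1 := fun u hu => by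
    rw [mul_pow, inv_pow, hu, ← map_pow, hu, map_one, inv_one, one_mul]
  have hsemi1 : ∀ m u, μ ((⇑σ)^[m] u) = (⇑σ)^[m * i] (μ u) := by
    intro m u
    induction m with
    | zero => simp
    | succ m ih =>
      rw [Function.iterate_succ_apply', hsemi, ih, ← Function.iterate_add_apply,
        show i + m * i = (m + 1) * i by ring]
  have hsemil : ∀ l m u, (⇑μ)^[l] ((⇑σ)^[m] u) = (⇑σ)^[m * i ^ l] ((⇑μ)^[l] u) := by
    intro l m u
    induction l with
    | zero => simp
    | succ l ih =>
      rw [Function.iterate_succ_apply', ih, hsemi1, Function.iterate_succ_apply', pow_succ,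
        mul_assoc]
  have hiq : i ^ q % p = 1 := by
    by_contra hne
    apply hv1
    have h1 : (⇑μ)^[q] ((⇑σ)^[1] v) = (⇑σ)^[i ^ q] v := by
      rw [hsemil, one_mul, hμl, hfq v hvq, mul_one]
    rw [hμl, hfq _ (by rw [Function.iterate_one, ← map_pow, hvq, map_one]), mul_one,
      hmod (i ^ q)] at h1
    set r := i ^ q % p with hr
    have hrlt : r < p := Nat.mod_lt _ hp.pos
    refine hfree (p - 1 + r) v ?_ ?_
    · intro hd
      rcases Nat.eq_zero_or_pos r with h0 | h0
      · have := Nat.le_of_dvd (by have := hp.two_le; omega) hd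
        have := hp.two_le
        omega
      · have h2 : p ∣ r - 1 := by
          have e : p - 1 + r = p + (r - 1) := by omega
          rw [e] at hd
          exact (Nat.dvd_add_right dvd_rfl).mp hd
        have h3 := Nat.eq_zero_of_dvd_of_lt h2 (by omega)
        omega
    · rw [Function.iterate_add_apply, ← h1, ← Function.iterate_add_apply,
        show p - 1 + 1 = p by have := hp.two_le; omega, hσp]
  have hiZ : (i : ZMod p) ^ q = 1 := by
    rw [← Nat.cast_pow, ← ZMod.natCast_mod (i ^ q) p, hiq, Nat.cast_one]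
  have hord : orderOf (i : ZMod p) = q := by
    rcases hq.eq_one_or_self_of_dvd _ (orderOf_dvd_of_pow_eq_one hiZ) with h1 | h1
    · exfalso
      apply hi
      have h2 : ((i % p : ℕ) : ZMod p) = ((1 : ℕ) : ZMod p) := by
        rw [ZMod.natCast_mod, orderOf_eq_one_iff.mp h1, Nat.cast_one]
      rw [ZMod.natCast_eq_natCast_iff'] at h2
      simpa [Nat.mod_eq_of_lt hp.one_lt] using h2
    · exact h1
  have hl : ∀ l, 0 < l → l < q → ¬ p ∣ 1 + (p - 1) * i ^ l := by
    intro l hl0 hlq hd
    have h1 : (i : ZMod p) ^ l = 1 := by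
      have h2 : ((1 + (p - 1) * i ^ l : ℕ) : ZMod p) = 0 := (ZMod.natCast_eq_zero_iff _ _).mpr hd
      rw [Nat.cast_add, Nat.cast_mul, Nat.cast_sub hp.one_lt.le, ZMod.natCast_self, Nat.cast_one,
        Nat.cast_pow, zero_sub, neg_one_mul, ← sub_eq_add_neg, sub_eq_zero] at h2
      exact h2.symm
    have h3 := Nat.le_of_dvd hl0 (hord ▸ orderOf_dvd_of_pow_eq_one h1)
    omega
  -- two evaluations of a double product
  have hz : ∀ u : W, u ^ q = 1 → ∏ l ∈ Finset.range q, (⇑μ)^[l] u = 1 := by
    intro u hu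
    simp_rw [hμl]
    rw [Finset.prod_mul_distrib, Finset.prod_const, Finset.card_range, hu, one_mul,
      Finset.prod_pow_eq_pow_sum, Finset.sum_range_id]
    obtain ⟨c, hc⟩ := hq.odd_of_ne_two hq2
    rw [show q - 1 = 2 * c by omega, show q * (2 * c) = q * c * 2 by ring,
      Nat.mul_div_cancel _ (by norm_num), pow_mul, hfq u hu, one_pow]
  have key : (∏ k ∈ Finset.range p, S k (∏ l ∈ Finset.range q, (⇑μ)^[l] (S ((p - 1) * k) v))) =
      1 := by
    refine Finset.prod_eq_one fun k _ => ?_
    rw [hz _ (by rw [← map_pow, hvq, map_one]), map_one]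
  rw [Finset.prod_congr rfl fun k _ => map_prod (S k) _ _] at key
  simp only [hS, hsemil] at key
  rw [Finset.prod_comm] at key
  simp only [← Function.iterate_add_apply] at key
  rw [Finset.prod_eq_single 0] at key
  · rw [Finset.prod_congr rfl (fun k _ => show _ = v by
      rw [hmod, pow_zero, mul_one, show k + (p - 1) * k = p * k by
        have := hp.two_le
        calc k + (p - 1) * k = (p - 1 + 1) * k := by ring
          _ = p * k := by rw [Nat.sub_add_cancel hp.one_lt.le],
        Nat.mul_mod_right]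
      rfl), Finset.prod_const, Finset.card_range] at key
    have h2 := pow_gcd_eq_one.mpr ⟨key, hvq⟩
    rwa [(Nat.coprime_primes hp hq).mpr hpq, pow_one] at h2
  · intro l hlm hl0
    set u := (⇑μ)^[l] v
    set m := 1 + (p - 1) * i ^ l with hm
    set T := ∏ k ∈ Finset.range p, (⇑σ)^[k + (p - 1) * k * i ^ l] u with hT
    refine hfree m T (hl l (Nat.pos_of_ne_zero hl0) (Finset.mem_range.mp hlm)) ?_
    have e : ∀ k, k + (p - 1) * k * i ^ l = k * m := fun k => by rw [hm]; ring
    simp only [hT, e]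
    rw [← hS m, map_prod]
    have h1 := Finset.prod_range_succ (fun k => (⇑σ)^[k * m] u) p
    rw [Finset.prod_range_succ'] at h1
    have hp0 : (⇑σ)^[p * m] u = u := by rw [hmod, Nat.mul_mod_right]; rfl
    rw [hp0, Nat.zero_mul, Function.iterate_zero_apply, mul_left_inj] at h1
    calc ∏ k ∈ Finset.range p, S m ((⇑σ)^[k * m] u)
        = ∏ k ∈ Finset.range p, (⇑σ)^[(k + 1) * m] u := by
          refine Finset.prod_congr rfl fun k _ => ?_
          rw [hS, ← Function.iterate_add_apply, show m + k * m = (k + 1) * m by ring]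
      _ = _ := h1
  · intro h0
    exact absurd (Finset.mem_range.mpr hq.pos) h0

end CfsgLib.PairClosed
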