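import Cfsg.Agent.PairClosed.Sides
import Cfsg.Agent.PairClosed.Twist

/-!
# Two maximal subgroups above the fixed members cannot exist

* `TwoBigs.Tw`: the `S`-part of a conjugate of an element of `S`; it is a semilinear isometry.
* `TwoBigs.twist_trivial`: the twist of a product of inverted elements of both sides is trivial.
* `TwoBigs.absurd_two`: `TwoBigs` is contradictory.
-/

set_option autoImplicit false
set_option linter.style.haveILetI false
set_option maxHeartbeats 400000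

namespace CfsgLib.PairClosed

open scoped commutatorElement IsMulCommutative

universe u

variable {G : Type u} [Group G] [Finite G] {p q k : ℕ} {ab : Prop} {D : Set (Subgroup G)}

/-- `s` is the `S`-part of the conjugate of `x` by `g`. -/
def Tw (S : Subgroup G) (a g x s : G) : Prop := s ∈ S ∧ Commute a (s⁻¹ * (g * x * g⁻¹))

namespace TwoBigs

variable {n a : G} {X S P1 P2 : Subgroup G} (T : TwoBigs p q k ab D n a X S P1 P2)

include T

theorem exists_tw (g : G) {x : G} (hx : x ∈ S) : ∃ s, Tw S a g x s := by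
  obtain ⟨s, hs, c, hc, e⟩ := T.mem_X0 (T.normal_X0.conj_mem x (Subgroup.mem_sup_left hx) g)
  refine ⟨s, hs, ?_⟩
  rw [e, inv_mul_cancel_left]
  exact T.C_comm hc (Subgroup.mem_sup_right T.mem)

/-- `S` and its conjugate lie in the kernel of a common proper subgroup. -/
theorem exists_ambient (g : G) : ∃ R : Subgroup G, Data D q R X ∧
    (∀ x ∈ S, x ∈ R ∧ g * x * g⁻¹ ∈ R) ∧ g * a * g⁻¹ ∈ R ⊔ X := by
  have hc := T.crit
  set X0 := S ⊔ (invComm S P1 n ⊔ invComm S P2 n ⊔ Subgroup.center G) with hX0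
  haveI : X0.Normal := T.normal_X0
  have hXg := hc.sys.conj X T.base.mem g
  set K := X0 ⊔ (X ⊔ cj g X) with hK
  have hKs : Group.IsSolvable ↥K :=
    Cores.isSolvable_sup T.solvable_X0 (hc.sys.isSolvable_pair T.base.mem hXg)
  set H := sSup {C | C ∈ D ∧ C ≤ K} with hH
  have hHK : H ≤ K := sSup_le fun C hC => hC.2
  have hne : H ≠ ⊤ := by
    intro e
    apply hc.nsolv
    have hK1 : K = ⊤ := top_le_iff.mp (e ▸ hHK)
    haveI : Group.IsSolvable ↥(⊤ : Subgroup G) := hK1 ▸ hKs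
    exact Group.isSolvable_of_surjective (f := (Subgroup.topEquiv : _ ≃* G).toMonoidHom)
      Subgroup.topEquiv.surjective
  have hfull : Full D H := full_sSup fun C hC => hC.1
  have hmem : ∀ C, C ∈ D → C ≤ K → C ≤ H := fun C h1 h2 =>
    le_sSup (show C ∈ {C | C ∈ D ∧ C ≤ K} from ⟨h1, h2⟩)
  have hXK : X ≤ K := le_sup_of_le_right le_sup_left
  have hXH : X ≤ H := hmem X T.base.mem hXK
  obtain ⟨R, dR, hR, -⟩ := hc.exists_kernel hne hfull T.base.mem hXH
  have hSX : S ⊔ X ≤ H := T.base.full.trans (sSup_le fun C hC => by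
    obtain ⟨s, hs, rfl⟩ := T.base.conj_member hc.sys hC.1 hC.2
    exact hmem _ hC.1 (cj_le (Subgroup.mem_sup_left (Subgroup.mem_sup_left hs)) hXK))
  have hgSX : cj g (S ⊔ X) ≤ H := by
    refine Subgroup.map_le_iff_le_comap.mpr (T.base.full.trans (sSup_le fun C hC => ?_))
    rw [← Subgroup.map_le_iff_le_comap]
    obtain ⟨s, hs, rfl⟩ := T.base.conj_member hc.sys hC.1 hC.2
    refine hmem _ (hc.sys.conj _ hC.1 g) ?_
    show cj g (cj s X) ≤ K
    rw [← cj_mul, show g * s = (g * s * g⁻¹) * g by group, cj_mul]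
    exact cj_le (Subgroup.mem_sup_left (T.normal_X0.conj_mem s (Subgroup.mem_sup_left hs) g))
      (le_sup_of_le_right le_sup_right)
  refine ⟨R, dR, fun x hx => ⟨dR.le_kernel hc.sys T.base.grp
    (le_sup_left.trans (hSX.trans hR.ge)) hx, ?_⟩, ?_⟩
  · exact dR.le_kernel hc.sys (T.base.grp.map _)
      ((Subgroup.map_mono le_sup_left).trans (hgSX.trans hR.ge)) (conj_mem_cj hx)
  · exact hR.ge (hgSX (conj_mem_cj (Subgroup.mem_sup_right T.mem)))

theorem tw_unique {g x s s' : G} (hx : x ∈ S) (h1 : Tw S a g x s) (h2 : Tw S a g x s') :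
    s⁻¹ * s' ∈ Subgroup.center G := by
  refine T.deg _ (S.mul_mem (S.inv_mem h1.1) h2.1) ?_
  rw [show s⁻¹ * s' = (s⁻¹ * (g * x * g⁻¹)) * (s'⁻¹ * (g * x * g⁻¹))⁻¹ by group]
  exact h1.2.mul_right h2.2.inv_right

theorem tw_mul {g x x' s s' : G} (hx : x ∈ S) (hx' : x' ∈ S) (h1 : Tw S a g x s)
    (h2 : Tw S a g x' s') : Tw S a g (x * x') (s * s') := by
  obtain ⟨R, dR, hR, -⟩ := T.exists_ambient g
  set c := s⁻¹ * (g * x * g⁻¹) with hc
  have hcR : c ∈ R := R.mul_mem (R.inv_mem (hR s h1.1).1) (hR x hx).2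
  have hcs := dR.fixed_central T.crit.sys T.mem T.ne_one hcR h1.2
    (Subgroup.mem_sup_left (hR s' h2.1).1)
  refine ⟨S.mul_mem h1.1 h2.1, ?_⟩
  rw [show (s * s')⁻¹ * (g * (x * x') * g⁻¹) = s'⁻¹ * (c * s') * (s'⁻¹ * (g * x' * g⁻¹)) by
    rw [hc]; group, ← hcs.eq, inv_mul_cancel_left]
  exact h1.2.mul_right h2.2

theorem tw_comm {g x x' s s' : G} (hx : x ∈ S) (hx' : x' ∈ S) (h1 : Tw S a g x s)
    (h2 : Tw S a g x' s') : ⁅s, s'⁆ = ⁅x, x'⁆ := by
  obtain ⟨R, dR, hR, -⟩ := T.exists_ambient g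
  set c := s⁻¹ * (g * x * g⁻¹) with hc
  set c' := s'⁻¹ * (g * x' * g⁻¹) with hc'
  have hcR : c ∈ R := R.mul_mem (R.inv_mem (hR s h1.1).1) (hR x hx).2
  have hc'R : c' ∈ R := R.mul_mem (R.inv_mem (hR s' h2.1).1) (hR x' hx').2
  have cen := fun {z : G} (hz : z ∈ R) (hza : Commute a z) {y : G} (hy : y ∈ R) =>
    dR.fixed_central T.crit.sys T.mem T.ne_one hz hza (Subgroup.mem_sup_left hy)
  have hs := (hR s h1.1).1
  have hs' := (hR s' h2.1).1
  have hz : ⁅x, x'⁆ ∈ Subgroup.center G := T.comm_center hx hx'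
  have e : g * ⁅x, x'⁆ * g⁻¹ = ⁅g * x * g⁻¹, g * x' * g⁻¹⁆ :=
    map_commutatorElement (MulAut.conj g).toMonoidHom x x'
  rw [Subgroup.mem_center_iff.mp hz g, mul_inv_cancel_right,
    show g * x * g⁻¹ = s * c by rw [hc]; group, show g * x' * g⁻¹ = s' * c' by rw [hc']; group] at e
  rw [e]
  symm
  calc ⁅s * c, s' * c'⁆ = s * (c * (s' * c') * c⁻¹) * s⁻¹ * c'⁻¹ * s'⁻¹ := by
        simp only [commutatorElement_def]; group
    _ = s * (s' * c') * s⁻¹ * c'⁻¹ * s'⁻¹ := by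
        rw [← (cen hcR h1.2 (R.mul_mem hs' hc'R)).eq, mul_inv_cancel_right]
    _ = s * s' * (c' * s⁻¹ * c'⁻¹) * s'⁻¹ := by group
    _ = ⁅s, s'⁆ := by
        rw [← (cen hc'R h2.2 (R.inv_mem hs)).eq, mul_inv_cancel_right, commutatorElement_def]

theorem tw_semi (g : G) : ∃ i : ℕ, ∀ x ∈ S, ∀ s, Tw S a g x s →
    Tw S a g (a * x * a⁻¹) (a ^ i * s * (a ^ i)⁻¹) := by
  obtain ⟨R, dR, hR, hga⟩ := T.exists_ambient g
  obtain ⟨r, hr, b, hb, e⟩ := dR.toKern.mem_sup hga
  obtain ⟨i, rfl⟩ : ∃ i : ℕ, a ^ i = b := by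
    rw [← T.crit.sys.zpowers_eq T.base.mem T.mem T.ne_one] at hb
    exact Submonoid.mem_powers_iff _ _ |>.mp (mem_powers_iff_mem_zpowers.mpr hb)
  refine ⟨i, fun x hx s hs => ?_⟩
  set b := a ^ i with hb'
  set s' := b * s * b⁻¹ with hs'
  have hs'S : s' ∈ S := T.base.conj_inv hb hs.1
  set c := s⁻¹ * (g * x * g⁻¹) with hc
  have hcR : c ∈ R := R.mul_mem (R.inv_mem (hR s hs.1).1) (hR x hx).2
  have hcb := dR.fixed_central T.crit.sys T.mem T.ne_one hcR hs.2 (Subgroup.mem_sup_right hb)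
  have hcr := dR.fixed_central T.crit.sys T.mem T.ne_one hcR hs.2 (Subgroup.mem_sup_left hr)
  refine ⟨hs'S, ?_⟩
  have e1 : s'⁻¹ * (g * (a * x * a⁻¹) * g⁻¹) = ⁅s'⁻¹, r⁆ * c := by
    calc s'⁻¹ * (g * (a * x * a⁻¹) * g⁻¹)
        = s'⁻¹ * ((g * a * g⁻¹) * (g * x * g⁻¹) * (g * a * g⁻¹)⁻¹) := by group
      _ = s'⁻¹ * (r * (b * s * (c * b⁻¹)) * r⁻¹) := by rw [e, hc]; group
      _ = s'⁻¹ * (r * s' * (c * r⁻¹)) := by rw [← hcb.inv_left.eq, hs']; group
      _ = s'⁻¹ * (r * s' * (r⁻¹ * c)) := by rw [hcr.inv_left.eq]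
      _ = _ := by rw [commutatorElement_def]; group
  rw [e1]
  exact ((dR.central T.crit.sys T.nab (Subgroup.commutator_mem_commutator
    (R.inv_mem (hR s' hs'S).1) hr)).2 a T.mem).mul_right hs.2

/-- The twist of a product of inverted elements of both sides is trivial. -/
theorem twist_trivial {x y y' : G} (hx : x ∈ S) (hy : y ∈ P1) (hny : n * y * n = y⁻¹)
    (hy' : y' ∈ P2) (hny' : n * y' * n = y'⁻¹) : Commute a ⁅⁅y', x⁆, y⁆ := by
  classical
  have hc := T.crit
  haveI := Fact.mk hc.sys.hq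
  haveI := Fact.mk hc.sys.hp
  set Z := Subgroup.center G with hZ
  have hyi : n * y⁻¹ * n = y⁻¹⁻¹ := by
    calc n * y⁻¹ * n = n⁻¹ * y⁻¹ * n⁻¹ := by rw [inv_eq_self T.hn]
      _ = (n * y * n)⁻¹ := by group
      _ = y⁻¹⁻¹ := by rw [hny]
  have hvI : ∀ x ∈ S, ⁅y', x⁆ ∈ invComm S P2 n := fun x hx => by
    rw [← commutatorElement_inv]
    exact inv_mem (Subgroup.subset_closure ⟨x, hx, y', hy', hny', rfl⟩)
  have hex : ∀ x : S, ∃ t ∈ S, ∃ c, (∀ g ∈ S ⊔ X, Commute g c) ∧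
      y⁻¹ * ⁅y', (x : G)⁆ * y = ⁅y', (x : G)⁆ * (t * c) := by
    intro x
    have hle : S ⊔ (invComm S P1 n ⊔ Z) ≤ S ⊔ (invComm S P1 n ⊔ invComm S P2 n ⊔ Z) :=
      sup_le_sup_left (sup_le_sup_right le_sup_left _) _
    have h1 : ⁅⁅y', (x : G)⁆⁻¹, y⁻¹⁆ ∈ S ⊔ (invComm S P1 n ⊔ invComm S P2 n ⊔ Z) :=
      hle (T.commutator_mem_Nsub (inv_mem (hvI x x.2)) (inv_mem hy))
    obtain ⟨t, ht, c, hcc, e⟩ := T.mem_X0 h1
    refine ⟨t, ht, c, fun g hg => T.C_comm hcc hg, ?_⟩
    rw [← e]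
    simp only [commutatorElement_def]
    group
  choose t ht c hcc het using hex
  set g := y⁻¹ * y' with hg
  set g2 := y⁻¹ * y'⁻¹ with hg2
  have hpair : ∀ x : S, Tw S a g x (x * t x) ∧ Tw S a g2 x (x * (t x)⁻¹) := by
    intro x
    set v := ⁅y', (x : G)⁆ with hv
    set w1 := ⁅y⁻¹, (x : G)⁆ with hw1
    have hvI' := hvI x x.2
    have hw := T.derived_mem (inv_mem hy) (T.S_le x.2)
    have w1c : ∀ z ∈ S ⊔ X, Commute z w1 := fun z hz =>
      T.central_mem hw.1 hw.2 (T.left.fixed (T.sup ▸ hz))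
    have vc : ∀ z ∈ S ⊔ X, Commute z v := fun z hz =>
      T.symm.invComm_comm hvI' (T.right.fixed (T.sup ▸ hz))
    have cc := hcc x
    have hxm : (x : G) ∈ S ⊔ X := Subgroup.mem_sup_left x.2
    have htm : t x ∈ S ⊔ X := Subgroup.mem_sup_left (ht x)
    have ham : a ∈ S ⊔ X := Subgroup.mem_sup_right T.mem
    have hz1 : Commute a ⁅(t x)⁻¹, (x : G)⁻¹⁆ := Commute.symm
      (Subgroup.mem_center_iff.mp (T.comm_center (inv_mem (ht x)) (inv_mem x.2)) a).symm
    have hz2 : Commute a ⁅t x, (x : G)⁻¹⁆ := Commute.symm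
      (Subgroup.mem_center_iff.mp (T.comm_center (ht x) (inv_mem x.2)) a).symm
    constructor
    · refine ⟨S.mul_mem x.2 (ht x), ?_⟩
      have e : (x * t x)⁻¹ * (g * x * g⁻¹) = ⁅(t x)⁻¹, (x : G)⁻¹⁆ * (v * c x * w1) := by
        calc (x * t x)⁻¹ * (g * x * g⁻¹)
            = (x * t x)⁻¹ * ((y⁻¹ * v * y) * (w1 * x)) := by
              rw [hv, hw1, hg]; simp only [commutatorElement_def]; group
          _ = (t x)⁻¹ * ((x : G)⁻¹ * v) * t x * (c x * (w1 * x)) := by rw [het x, ← hv]; group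
          _ = (t x)⁻¹ * (v * (x : G)⁻¹) * t x * (c x * (x * w1)) := by
              rw [(vc _ hxm).inv_left.eq, (w1c _ hxm).symm.eq]
          _ = ((t x)⁻¹ * v) * (x : G)⁻¹ * t x * ((c x * x) * w1) := by group
          _ = (v * (t x)⁻¹) * (x : G)⁻¹ * t x * ((x * c x) * w1) := by
              rw [(vc _ htm).inv_left.eq, (cc _ hxm).symm.eq]
          _ = v * ((t x)⁻¹ * (x : G)⁻¹ * t x * x) * (c x * w1) := by group
          _ = v * ⁅(t x)⁻¹, (x : G)⁻¹⁆ * (c x * w1) := by rw [commutatorElement_def]; group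
          _ = _ := by
              rw [Subgroup.mem_center_iff.mp (T.comm_center (inv_mem (ht x)) (inv_mem x.2)) v]
              group
      rw [e]
      exact hz1.mul_right (((vc a ham).mul_right (cc a ham)).mul_right (w1c a ham))
    · refine ⟨S.mul_mem x.2 (inv_mem (ht x)), ?_⟩
      have hv2 : ⁅y'⁻¹, (x : G)⁆ = v⁻¹ := by
        rw [← commutatorElement_inv (x : G) y'⁻¹, T.symm.inv_commutator (T.symm.S_le x.2) hy',
          inv_inv, hv, commutatorElement_inv]
      have e : (x * (t x)⁻¹)⁻¹ * (g2 * x * g2⁻¹) =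
          ⁅t x, (x : G)⁻¹⁆ * ((c x)⁻¹ * v⁻¹ * w1) := by
        have hct := (cc _ htm).inv_right.inv_left
        calc (x * (t x)⁻¹)⁻¹ * (g2 * x * g2⁻¹)
            = (x * (t x)⁻¹)⁻¹ * ((y⁻¹ * ⁅y'⁻¹, (x : G)⁆ * y) * (w1 * x)) := by
              rw [hw1, hg2]; simp only [commutatorElement_def]; group
          _ = t x * (x : G)⁻¹ * (y⁻¹ * v * y)⁻¹ * (w1 * x) := by rw [hv2]; group
          _ = t x * ((x : G)⁻¹ * (c x)⁻¹) * ((t x)⁻¹ * v⁻¹) * (w1 * x) := by rw [het x, ← hv]; group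
          _ = t x * ((c x)⁻¹ * (x : G)⁻¹) * (v⁻¹ * (t x)⁻¹) * (x * w1) := by
              rw [(cc _ hxm).inv_right.inv_left.eq, (vc _ htm).inv_right.inv_left.eq,
                (w1c _ hxm).symm.eq]
          _ = (t x * (c x)⁻¹) * ((x : G)⁻¹ * v⁻¹) * (t x)⁻¹ * x * w1 := by group
          _ = ((c x)⁻¹ * t x) * (v⁻¹ * (x : G)⁻¹) * (t x)⁻¹ * x * w1 := by
              rw [(vc _ hxm).inv_right.inv_left.eq, (cc _ htm).inv_right.eq]
          _ = (c x)⁻¹ * (t x * v⁻¹) * (x : G)⁻¹ * (t x)⁻¹ * x * w1 := by group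
          _ = (c x)⁻¹ * v⁻¹ * ⁅t x, (x : G)⁻¹⁆ * w1 := by
              rw [(vc _ htm).inv_right.eq, commutatorElement_def]; group
          _ = _ := by
              rw [Subgroup.mem_center_iff.mp (T.comm_center (ht x) (inv_mem x.2))
                ((c x)⁻¹ * v⁻¹)]
              group
      rw [e]
      exact hz2.mul_right (((cc a ham).inv_right.mul_right (vc a ham).inv_right).mul_right
        (w1c a ham))
  have hiso : ∀ x x' : S, ⁅t x, t x'⁆ = 1 := by
    intro x x'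
    have bl : ∀ u ∈ S, ∀ u' ∈ S, ∀ z ∈ S, ⁅u * u', z⁆ = ⁅u', z⁆ * ⁅u, z⁆ := fun u hu u' hu' z hz =>
      commutator_mul_left ((Subgroup.mem_center_iff.mp (T.comm_center hu' hz) u) :
        u * ⁅u', z⁆ = ⁅u', z⁆ * u)
    have br : ∀ u ∈ S, ∀ z ∈ S, ∀ z' ∈ S, ⁅u, z * z'⁆ = ⁅u, z⁆ * ⁅u, z'⁆ := fun u hu z hz z' hz' =>
      commutator_mul_right ((Subgroup.mem_center_iff.mp (T.comm_center hu hz') z) :
        z * ⁅u, z'⁆ = ⁅u, z'⁆ * z)
    have inl : ∀ u ∈ S, ∀ z ∈ S, ⁅u⁻¹, z⁆ = ⁅u, z⁆⁻¹ := fun u hu z hz =>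
      eq_inv_of_mul_eq_one_right (by
        have := bl u⁻¹ (inv_mem hu) u hu z hz
        rw [inv_mul_cancel, commutatorElement_one_left] at this
        exact this.symm)
    have inr : ∀ u ∈ S, ∀ z ∈ S, ⁅u, z⁻¹⁆ = ⁅u, z⁆⁻¹ := fun u hu z hz =>
      eq_inv_of_mul_eq_one_right (by
        have := br u hu z hz z⁻¹ (inv_mem hz)
        rw [mul_inv_cancel, commutatorElement_one_right] at this
        exact this.symm)
    have e1 := T.tw_comm x.2 x'.2 (hpair x).1 (hpair x').1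
    have e2 := T.tw_comm x.2 x'.2 (hpair x).2 (hpair x').2
    rw [bl _ x.2 _ (ht x) _ (mul_mem x'.2 (ht x')), br _ (ht x) _ x'.2 _ (ht x'),
      br _ x.2 _ x'.2 _ (ht x')] at e1
    rw [bl _ x.2 _ (inv_mem (ht x)) _ (mul_mem x'.2 (inv_mem (ht x'))),
      br _ (inv_mem (ht x)) _ x'.2 _ (inv_mem (ht x')), br _ x.2 _ x'.2 _ (inv_mem (ht x')),
      inr _ (inv_mem (ht x)) _ (ht x'), inl _ (ht x) _ (ht x'), inv_inv,
      inl _ (ht x) _ x'.2, inr _ x.2 _ (ht x')] at e2
    set α := ⁅t x, (x' : G)⁆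
    set β := ⁅t x, t x'⁆
    set γ := ⁅(x : G), (x' : G)⁆
    set δ := ⁅(x : G), t x'⁆
    have hzα := Subgroup.mem_center_iff.mp (T.comm_center (ht x) x'.2)
    have hzβ := Subgroup.mem_center_iff.mp (T.comm_center (ht x) (ht x'))
    have hzγ := Subgroup.mem_center_iff.mp (T.comm_center x.2 x'.2)
    have hodd := hc.sys.odd_orderOf T.base.grp (show β ∈ S by
      rw [show β = t x * t x' * (t x)⁻¹ * (t x')⁻¹ from commutatorElement_def _ _]
      exact S.mul_mem (S.mul_mem (S.mul_mem (ht x) (ht x')) (inv_mem (ht x))) (inv_mem (ht x')))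
    have r1 : α * β * δ = 1 := by
      have : α * β * δ * γ = 1 * γ := by
        rw [one_mul, mul_assoc (α * β) δ γ, hzγ δ]
        exact e1
      exact mul_right_cancel this
    have r2 : α⁻¹ * β * δ⁻¹ = 1 := by
      have : α⁻¹ * β * δ⁻¹ * γ = 1 * γ := by
        rw [one_mul, mul_assoc (α⁻¹ * β) δ⁻¹ γ, hzγ δ⁻¹]
        exact e2
      exact mul_right_cancel this
    have hδ : δ = β⁻¹ * α⁻¹ := by
      rw [← mul_inv_rev]
      exact eq_inv_of_mul_eq_one_right r1
    rw [hδ, mul_inv_rev, inv_inv, inv_inv, mul_assoc, ← mul_assoc β α β, hzα β] at r2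
    refine eq_one_of_sq_eq_one hodd ?_
    calc β * β = α⁻¹ * (α * β * β) := by group
      _ = 1 := r2
  -- pass to the quotient by the centre
  let π := QuotientGroup.mk' Z
  have hπ : ∀ {u v : G}, u⁻¹ * v ∈ Z → π u = π v := fun {u v} h => QuotientGroup.eq.mpr h
  let W := S.map π
  haveI : IsMulCommutative ↥W := ⟨⟨fun u v => by
    obtain ⟨u', hu', eu⟩ := u.2
    obtain ⟨v', hv', ev⟩ := v.2
    refine Subtype.ext ?_
    show (u : G ⧸ Z) * v = v * u
    rw [← eu, ← ev]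
    refine commutatorElement_eq_one_iff_mul_comm.mp ?_
    rw [← map_commutatorElement]
    exact (QuotientGroup.eq_one_iff _).mpr (T.comm_center hu' hv')⟩⟩
  let ι : S → W := fun x => ⟨π x, Subgroup.mem_map_of_mem π x.2⟩
  have hι : Function.Surjective ι := fun w => by
    obtain ⟨x, hx, e⟩ := w.2
    exact ⟨⟨x, hx⟩, Subtype.ext e⟩
  choose rep hrep using hι
  let μ0 : W → W := fun w => ι (rep w * ⟨t (rep w), ht (rep w)⟩)
  have hμ0 : ∀ x : S, ∀ s, (hs : Tw S a g x s) → μ0 (ι x) = ι ⟨s, hs.1⟩ := by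
    intro x s hs
    set x0 := rep (ι x)
    have e0 : π (x0 : G) = π x := congrArg Subtype.val (hrep (ι x))
    set z := (x : G)⁻¹ * x0 with hz
    have hzZ : z ∈ Z := by
      rw [hz]
      exact QuotientGroup.eq.mp e0.symm
    have h2 : Tw S a g x0 (s * z) := by
      refine ⟨S.mul_mem hs.1 (S.mul_mem (inv_mem x.2) x0.2), ?_⟩
      have : (s * z)⁻¹ * (g * x0 * g⁻¹) = s⁻¹ * (g * x * g⁻¹) := by
        calc (s * z)⁻¹ * (g * x0 * g⁻¹) = z⁻¹ * s⁻¹ * (g * x * (z * g⁻¹)) := by rw [hz]; group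
          _ = z⁻¹ * s⁻¹ * (g * x * (g⁻¹ * z)) := by rw [Subgroup.mem_center_iff.mp hzZ g⁻¹]
          _ = z⁻¹ * (s⁻¹ * (g * x * g⁻¹) * z) := by group
          _ = _ := by rw [Subgroup.mem_center_iff.mp hzZ, inv_mul_cancel_left]
      rw [this]
      exact hs.2
    refine Subtype.ext ?_
    show π ((x0 : G) * t x0) = π s
    refine (hπ (T.tw_unique x0.2 (hpair x0).1 h2)).trans ?_
    rw [map_mul, show π z = 1 from (QuotientGroup.eq_one_iff z).mpr hzZ, mul_one]
  let μ : W →* W := MonoidHom.mk' μ0 fun u v => by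
    have e : ι (rep u * rep v) = u * v := by
      rw [← hrep u, ← hrep v, hrep, hrep]
      refine Subtype.ext ?_
      show π ((rep u : G) * rep v) = (u : G ⧸ Z) * v
      rw [map_mul]
      exact congrArg₂ (· * ·) (congrArg Subtype.val (hrep u)) (congrArg Subtype.val (hrep v))
    conv_lhs => rw [← e]
    rw [hμ0 _ _ (T.tw_mul (rep u).2 (rep v).2 (hpair (rep u)).1 (hpair (rep v)).1)]
    exact Subtype.ext (map_mul π _ _)
  have hμ : ∀ x : S, ∀ s, (hs : Tw S a g x s) → μ (ι x) = ι ⟨s, hs.1⟩ := hμ0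
  let σ : W →* W := MonoidHom.mk'
    (fun w => ⟨π a * w * (π a)⁻¹, by
      obtain ⟨x, hx, e⟩ := w.2
      exact ⟨a * x * a⁻¹, T.base.conj_inv T.mem hx, by rw [map_mul, map_mul, map_inv, e]⟩⟩)
    fun u v => Subtype.ext (by simp [mul_assoc])
  have hσι : ∀ (m : ℕ) (x : S), (⇑σ)^[m] (ι x) =
      ι ⟨a ^ m * x * (a ^ m)⁻¹, T.base.conj_inv (X.pow_mem T.mem m) x.2⟩ := by
    intro m x
    induction m with
    | zero => exact Subtype.ext (congrArg π (by simp))
    | succ m ih =>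
      rw [Function.iterate_succ_apply', ih]
      refine Subtype.ext ?_
      show π a * π (a ^ m * x * (a ^ m)⁻¹) * (π a)⁻¹ = π (a ^ (m + 1) * x * (a ^ (m + 1))⁻¹)
      simp [pow_succ', mul_assoc]
  have hap : a ^ p = 1 := by
    rw [← hc.sys.orderOf_eq T.base.mem T.mem T.ne_one, pow_orderOf_eq_one]
  have hWq : ∀ w : W, ∃ m, w ^ q ^ m = 1 := fun w => (T.base.grp.map π) w
  obtain ⟨i, hi⟩ := T.tw_semi g
  have hcomm := commute_of_twist hc.sys.hp hc.sys.hq hc.sys.ne hc.sys.q2 hWq σ μ i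
    (fun w => by
      rw [← hrep w, hσι p]
      exact Subtype.ext (congrArg π (by simp [hap])))
    (fun w hw => by
      obtain ⟨x, rfl⟩ : ∃ x, ι x = w := ⟨rep w, hrep w⟩
      have h1 : π (a * x * a⁻¹) = π x := by
        have := congrArg Subtype.val hw
        change π a * π x * (π a)⁻¹ = π x at this
        rwa [map_mul, map_mul, map_inv]
      set z := (x : G)⁻¹ * (a * x * a⁻¹) with hz
      have hzZ : z ∈ Z := QuotientGroup.eq.mp h1.symm
      have hzS : z ∈ S := S.mul_mem (inv_mem x.2) (T.base.conj_inv T.mem x.2)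
      have hiter : ∀ m : ℕ, a ^ m * x * (a ^ m)⁻¹ = x * z ^ m := by
        intro m
        induction m with
        | zero => simp
        | succ m ih =>
          calc a ^ (m + 1) * x * (a ^ (m + 1))⁻¹ = a * (a ^ m * x * (a ^ m)⁻¹) * a⁻¹ := by
                rw [pow_succ']; group
            _ = a * x * (z ^ m * a⁻¹) := by rw [ih]; group
            _ = a * x * (a⁻¹ * z ^ m) := by
                rw [Subgroup.mem_center_iff.mp (pow_mem hzZ m) a⁻¹]
            _ = x * z ^ (m + 1) := by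
                rw [pow_succ', ← mul_assoc (x : G) z, show (x : G) * z = a * x * a⁻¹ by rw [hz]; group]
                group
      have hzp : z ^ p = 1 := by
        have := hiter p
        rw [hap, one_mul, inv_one, mul_one] at this
        exact mul_eq_left.mp this.symm
      obtain ⟨m, hm⟩ := T.base.grp ⟨z, hzS⟩
      have hzm : z ^ q ^ m = 1 := congrArg Subtype.val hm
      have hz1 : z = 1 := by
        have := pow_gcd_eq_one.mpr ⟨hzp, hzm⟩
        rwa [Nat.Coprime.pow_right m ((Nat.coprime_primes hc.sys.hp hc.sys.hq).mpr hc.sys.ne),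
          pow_one] at this
      have hax : Commute a (x : G) := by
        rw [hz, inv_mul_eq_one] at hz1
        show a * x = x * a
        conv_rhs => rw [hz1]
        group
      exact Subtype.ext ((QuotientGroup.eq_one_iff _).mpr (T.deg _ x.2 hax)))
    (fun w => by
      obtain ⟨x, rfl⟩ : ∃ x, ι x = w := ⟨rep w, hrep w⟩
      rw [hμ x _ (hpair x).1, hσι i, show σ (ι x) = (⇑σ)^[1] (ι x) from rfl, hσι 1,
        hμ _ (a ^ i * (x * t x) * (a ^ i)⁻¹) (by simpa using hi x x.2 _ (hpair x).1)])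
    (fun w => by
      obtain ⟨x, rfl⟩ : ∃ x, ι x = w := ⟨rep w, hrep w⟩
      have e : (ι x)⁻¹ * μ (ι x) = ι ⟨t x, ht x⟩ := by
        rw [hμ x _ (hpair x).1, inv_mul_eq_iff_eq_mul]
        exact Subtype.ext (map_mul π _ _)
      rw [e, hμ ⟨t x, ht x⟩ _ (hpair ⟨t x, ht x⟩).1]
      refine Subtype.ext (hπ ?_).symm
      set r := t ⟨t x, ht x⟩ with hr
      have hrS : r ∈ S := ht _
      suffices hrZ : r ∈ Z by
        rw [show (t x)⁻¹ * (t x * r) = r by group]; exact hrZ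
      have hrad : ∀ x' : S, Commute r (x' : G) := by
        intro x'
        have e3 := T.tw_comm (ht x) x'.2 (hpair ⟨t x, ht x⟩).1 (hpair x').1
        change ⁅t x * r, (x' : G) * t x'⁆ = ⁅t x, (x' : G)⁆ at e3
        rw [commutator_mul_left (show Commute (t x) ⁅r, (x' : G) * t x'⁆ from
            Subgroup.mem_center_iff.mp (T.comm_center hrS (mul_mem x'.2 (ht x'))) _),
          commutator_mul_right (show Commute (x' : G) ⁅r, t x'⁆ from
            Subgroup.mem_center_iff.mp (T.comm_center hrS (ht x')) _),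
          commutator_mul_right (show Commute (x' : G) ⁅t x, t x'⁆ from
            Subgroup.mem_center_iff.mp (T.comm_center (ht x) (ht x')) _),
          hiso, hiso, mul_one, mul_one, mul_eq_right] at e3
        exact commutatorElement_eq_one_iff_commute.mp e3
      refine T.deg r hrS (T.base.anisotropic hc.sys T.nab T.mem T.ne_one hrS fun j => ?_)
      exact hrad ⟨_, T.base.conj_inv (X.pow_mem T.mem j) hrS⟩)
  have htZ : ∀ x : S, t x ∈ Z := by
    intro x
    refine T.deg _ (ht x) (T.base.anisotropic hc.sys T.nab T.mem T.ne_one (ht x) fun j => ?_)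
    set xj : S := ⟨a ^ j * x * (a ^ j)⁻¹, T.base.conj_inv (X.pow_mem T.mem j) x.2⟩ with hxj
    have h1 : ∀ m : ℕ, ∀ w, μ ((⇑σ)^[m] w) = (⇑σ)^[m] (μ w) := by
      intro m w
      induction m with
      | zero => rfl
      | succ m ih => rw [Function.iterate_succ_apply', Function.iterate_succ_apply', hcomm, ih]
    have h2 := h1 j (ι x)
    rw [hσι j x, hμ xj _ (hpair xj).1, hμ x _ (hpair x).1, hσι j] at h2
    have h3 : π (t xj) = π (a ^ j * t x * (a ^ j)⁻¹) := by
      have := congrArg Subtype.val h2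
      change π ((xj : G) * t xj) = π (a ^ j * ((x : G) * t x) * (a ^ j)⁻¹) at this
      rw [show a ^ j * ((x : G) * t x) * (a ^ j)⁻¹ = (xj : G) * (a ^ j * t x * (a ^ j)⁻¹) by
        rw [hxj]; group, map_mul π (xj : G), map_mul π (xj : G), mul_right_inj] at this
      exact this
    set d := (t xj)⁻¹ * (a ^ j * t x * (a ^ j)⁻¹) with hd
    have hdZ : d ∈ Z := QuotientGroup.eq.mp h3
    rw [show a ^ j * t x * (a ^ j)⁻¹ = t xj * d by rw [hd]; group]
    exact (commutatorElement_eq_one_iff_commute.mp (hiso x xj)).mul_right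
      (Subgroup.mem_center_iff.mp hdZ _)
  set x' : S := ⟨x, hx⟩ with hx'
  set v := ⁅y', x⁆ with hv
  have ham : a ∈ S ⊔ X := Subgroup.mem_sup_right T.mem
  have hva : Commute a v := T.symm.invComm_comm (hvI x hx) (T.right.fixed (T.sup ▸ ham))
  have hta : Commute a (t x') := (Subgroup.mem_center_iff.mp (htZ x') a :)
  have e : y⁻¹ * v * y = v * (t x' * c x') := het x'
  have h1 : Commute a (v⁻¹ * (y⁻¹ * v * y)) := by
    rw [e, inv_mul_cancel_left]
    exact hta.mul_right (hcc x' a ham)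
  -- turn it into the commutator
  have hyz := T.central_mem (z := v⁻¹ * (y⁻¹ * v * y)) (by
    have := T.symm.invComm_normalises (inv_mem (hvI x hx)) (inv_mem hy)
    rw [inv_inv] at this
    rw [show v⁻¹ * (y⁻¹ * v * y) = (v⁻¹ * y⁻¹ * v) * y by group]
    exact mul_mem this hy) h1 (Subgroup.mem_sup_left hy)
  have e2 : ⁅v, y⁆ = v * (y * (v⁻¹ * (y⁻¹ * v * y)) * y⁻¹) * v⁻¹ := by
    rw [commutatorElement_def]; group
  rw [e2, hyz.eq, mul_inv_cancel_right]
  exact (hva.mul_right h1).mul_right hva.inv_right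

theorem inverted_commute {x y' : G} (hx : x ∈ S) (hy' : y' ∈ P2) (hny' : n * y' * n = y'⁻¹) :
    Commute y' x := by
  set v := ⁅y', x⁆ with hv
  have hvI : v ∈ invComm S P2 n := by
    rw [hv, ← commutatorElement_inv]
    exact inv_mem (Subgroup.subset_closure ⟨x, hx, y', hy', hny', rfl⟩)
  have hva : Commute v a := (T.symm.invComm_comm hvI (Subgroup.mem_sup_right T.mem)).symm
  have hdiff : ∀ z ∈ P1, ⁅v, z⁆ ∈ P1 ∧ Commute a ⁅v, z⁆ := by
    intro z hz
    have hm0 : ⁅v, z⁆ ∈ P1 := by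
      rw [commutatorElement_def]
      exact P1.mul_mem (T.symm.invComm_normalises hvI hz) (inv_mem hz)
    refine ⟨hm0, ?_⟩
    obtain ⟨w, hw, y, hy, hnw, hny, rfl⟩ := exists_split T.hn (fun _ => T.nP) (fun _ => T.odd_mem) hz
    obtain ⟨s, hs, hsa⟩ := T.fixed_split hw hnw
    set z0 := s⁻¹ * w with hz0
    have hvs := T.symm.invComm_comm hvI (Subgroup.mem_sup_left (T.symm.S_le hs))
    have hwa : Commute a ⁅v, w⁆ := by
      have h0 : Commute a ⁅v, z0⁆ := by
        rw [commutatorElement_def]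
        exact ((hva.symm.mul_right hsa).mul_right hva.symm.inv_right).mul_right hsa.inv_right
      have hm : ⁅v, z0⁆ ∈ P1 := by
        rw [commutatorElement_def]
        exact P1.mul_mem (T.symm.invComm_normalises hvI (P1.mul_mem (inv_mem (T.S_le hs)) hw))
          (inv_mem (P1.mul_mem (inv_mem (T.S_le hs)) hw))
      have e : ⁅v, w⁆ = ⁅v, s⁆ * (s * ⁅v, z0⁆ * s⁻¹) := by
        rw [hz0]; simp only [commutatorElement_def]; group
      rw [e, commutatorElement_eq_one_iff_commute.mpr hvs.symm, one_mul,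
        (T.central_mem hm h0 (Subgroup.mem_sup_left (T.S_le hs))).eq, mul_inv_cancel_right]
      exact h0
    have hya := T.twist_trivial hx hy hny hy' hny'
    rw [← hv] at hya
    have hm : ⁅v, y⁆ ∈ P1 := by
      rw [commutatorElement_def]
      exact P1.mul_mem (T.symm.invComm_normalises hvI hy) (inv_mem hy)
    rw [show ⁅v, w * y⁆ = ⁅v, w⁆ * (w * ⁅v, y⁆ * w⁻¹) by simp only [commutatorElement_def]; group,
      (T.central_mem hm hya (Subgroup.mem_sup_left hw)).eq, mul_inv_cancel_right]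
    exact hwa.mul_right hya
  have h1 : ∀ g ∈ P1 ⊔ X, Commute g v := fun g hg =>
    T.left.dat.commute_of_diff T.crit.sys T.mem T.ne_one hva hdiff hg
  have hvZ : v ∈ Subgroup.center G := by
    rw [Subgroup.mem_center_iff]
    intro g
    have hle : (⊤ : Subgroup G) ≤ Subgroup.centralizer {v} := by
      rw [← T.sup_eq_top]
      refine sup_le (fun g hg => ?_) (fun g hg => ?_)
      · exact Subgroup.mem_centralizer_singleton_iff.mpr (h1 g hg).eq
      · exact Subgroup.mem_centralizer_singleton_iff.mpr (T.symm.invComm_comm hvI hg).eq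
    exact Subgroup.mem_centralizer_singleton_iff.mp (hle (Subgroup.mem_top g))
  have h2 := T.symm.invComm_inverted hvI
  rw [Subgroup.mem_center_iff.mp hvZ n, mul_assoc, T.hn, mul_one] at h2
  have h3 : v = 1 := eq_one_of_sq_eq_one (T.symm.odd_mem (T.symm.invComm_le hvI).1)
    (eq_inv_iff_mul_eq_one.mp h2)
  exact commutatorElement_eq_one_iff_commute.mp h3

theorem absurd_two : False := by
  have hc := T.crit
  set Yset := {y : G | (y ∈ P1 ∨ y ∈ P2) ∧ n * y * n = y⁻¹} with hYset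
  set Y := Subgroup.closure Yset with hY
  have hYa : ∀ y ∈ Y, ∀ b ∈ X, b * y * b⁻¹ ∈ Y := by
    intro y hy b hb
    have hle : Y ≤ Y.comap (MulAut.conj b).toMonoidHom := by
      refine (Subgroup.closure_le _).mpr ?_
      rintro y ⟨hy, hny⟩
      refine Subgroup.subset_closure ⟨hy.imp (T.left.dat.conj_inv hb) (T.right.dat.conj_inv hb), ?_⟩
      have hnb : Commute n b := by
        obtain ⟨c, Q, L, -, -⟩ := T.left.piv
        exact L.comm b hb
      show n * (b * y * b⁻¹) * n = (b * y * b⁻¹)⁻¹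
      calc n * (b * y * b⁻¹) * n = (n * b) * y * (b⁻¹ * n) := by group
        _ = (b * n) * y * (n * b⁻¹) := by rw [hnb.eq, hnb.inv_right.eq]
        _ = b * (n * y * n) * b⁻¹ := by group
        _ = _ := by rw [hny]; group
    exact hle hy
  have hside : ∀ {P : Subgroup G}, Side D q n X P → (∀ y ∈ P, n * y * n = y⁻¹ → y ∈ Y) →
      ∃ c Q, Piv D q c Q X ∧ bigOf D c = P ⊔ X ∧ Q ⊔ X ≤ Y ⊔ X := by
    intro P hP hPY
    obtain ⟨c, Q, L, hp, e⟩ := hP.piv
    refine ⟨c, Q, hp, e, ?_⟩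
    have hQP : Q ≤ P := hP.dat.le_kernel hc.sys L.dat.grp
      ((le_sup_left.trans (hp.self_le hc.sys)).trans e.le)
    refine L.dat.full.trans (sSup_le fun C hC => ?_)
    obtain ⟨y, hy, rfl⟩ := L.dat.conj_member hc.sys hC.1 hC.2
    obtain ⟨z, hz, hnz, hzX⟩ := L.exists_inverted hc.sys hy
    rw [← hzX]
    exact cj_le (Subgroup.mem_sup_left (hPY z (hQP hz) hnz)) le_sup_right
  obtain ⟨c1, Q1, hp1, e1, hQ1⟩ := hside T.left fun y hy hny =>
    Subgroup.subset_closure ⟨Or.inl hy, hny⟩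
  obtain ⟨c2, Q2, hp2, e2, hQ2⟩ := hside T.right fun y hy hny =>
    Subgroup.subset_closure ⟨Or.inr hy, hny⟩
  have htop : Y ⊔ X = ⊤ := by
    by_contra hne
    have hfull : Full D ((Q1 ⊔ X) ⊔ (Q2 ⊔ X)) := hp1.dat.full.sup hp2.dat.full
    have hne' : (Q1 ⊔ X) ⊔ (Q2 ⊔ X) ≠ ⊤ := fun e => hne (top_le_iff.mp (e ▸ sup_le hQ1 hQ2))
    have h1 := hp1.le_big hc hne' hfull le_sup_left
    have h2 := hp2.le_big hc hne' hfull le_sup_right
    have h12 := hp2.le_big hc (bigOf_ne_top hp1.nc) (full_bigOf c1) (le_sup_right.trans h1)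
    have h21 := hp1.le_big hc (bigOf_ne_top hp2.nc) (full_bigOf c2) (le_sup_left.trans h2)
    exact T.ne (e1 ▸ e2 ▸ le_antisymm h12 h21)
  have hSY : ∀ x ∈ S, ∀ y ∈ Y, Commute y x := by
    intro x hx y hy
    have hle : Y ≤ Subgroup.centralizer {x} := by
      refine (Subgroup.closure_le _).mpr ?_
      rintro y ⟨hy | hy, hny⟩
      · exact Subgroup.mem_centralizer_singleton_iff.mpr (T.symm.inverted_commute hx hy hny).eq
      · exact Subgroup.mem_centralizer_singleton_iff.mpr (T.inverted_commute hx hy hny).eq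
    exact (Subgroup.mem_centralizer_singleton_iff.mp (hle hy) : y * x = x * y)
  have hall : ∀ x ∈ S, Commute a x := by
    intro x hx
    have hn : X ≤ Subgroup.normalizer (Y : Set G) :=
      le_normalizer_of_conj fun b hb y hy => hYa y hy b hb
    have hxT : x ∈ Y ⊔ X := htop ▸ Subgroup.mem_top x
    rw [← SetLike.mem_coe, Subgroup.coe_mul_of_right_le_normalizer_left _ _ hn,
      Set.mem_mul] at hxT
    obtain ⟨y, hy, b, hb, e⟩ := hxT
    have hbx : Commute b x := by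
      rw [show b = y⁻¹ * x by rw [← e]; group]
      exact (hSY x hx y hy).inv_left.mul_left (Commute.refl x)
    by_cases hb1 : b = 1
    · refine T.base.anisotropic hc.sys T.nab T.mem T.ne_one hx fun j => ?_
      have hxY : x ∈ Y := by rw [← e, hb1, mul_one]; exact hy
      exact hSY _ (T.base.conj_inv (X.pow_mem T.mem j) hx) x hxY
    · exact (T.base.commute_pow hc.sys hb hb1 hbx T.mem)
  refine T.ne_bot (eq_bot_iff.mpr ((T.base.genBy hc.sys T.mem T.ne_one).gen.trans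
    ((Subgroup.closure_le _).mpr ?_)))
  rintro _ ⟨s, hs, rfl⟩
  rw [SetLike.mem_coe, Subgroup.mem_bot, ← (hall s hs).eq]
  group

end TwoBigs

end CfsgLib.PairClosed
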